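import Mathlib

/-! Coordinates for `3^{1+6}` and for the wreath product of `SL₂(3)` with `S₃`. -/

set_option autoImplicit false

namespace Cfsg.Agent.F22L

open Subgroup

abbrev F3 := ZMod 3

abbrev W2 := F3 × F3

/-- The alternating form on the plane. -/
def o2 (v w : W2) : F3 := v.1 * w.2 - v.2 * w.1

@[ext] structure M2 where
  a : F3
  b : F3
  c : F3
  d : F3
deriving DecidableEq, Fintype

/-- `SL₂(3)`. -/
def SL : Type := {m : M2 // m.a * m.d - m.b * m.c = 1}

instance : DecidableEq SL := inferInstanceAs (DecidableEq {m : M2 // m.a * m.d - m.b * m.c = 1})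

instance : Fintype SL := inferInstanceAs (Fintype {m : M2 // m.a * m.d - m.b * m.c = 1})

namespace SL

instance : One SL := ⟨⟨⟨1, 0, 0, 1⟩, by decide⟩⟩

instance : Mul SL := ⟨fun x y => ⟨⟨x.1.a * y.1.a + x.1.b * y.1.c, x.1.a * y.1.b + x.1.b * y.1.d,
  x.1.c * y.1.a + x.1.d * y.1.c, x.1.c * y.1.b + x.1.d * y.1.d⟩, by
    linear_combination (y.1.a * y.1.d - y.1.b * y.1.c) * x.2 + y.2⟩⟩

instance : Inv SL := ⟨fun x => ⟨⟨x.1.d, -x.1.b, -x.1.c, x.1.a⟩, by linear_combination x.2⟩⟩

instance : Group SL := Group.ofLeftAxioms (by decide +kernel) (by decide +kernel)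
  (by decide +kernel)

instance : SMul SL W2 := ⟨fun x v => (x.1.a * v.1 + x.1.b * v.2, x.1.c * v.1 + x.1.d * v.2)⟩

instance : DistribMulAction SL W2 where
  one_smul := by decide +kernel
  mul_smul := by decide +kernel
  smul_zero := by decide +kernel
  smul_add := by decide +kernel

/-- The central involution. -/
def ng : SL := ⟨⟨-1, 0, 0, -1⟩, by decide⟩

theorem o2_smul : ∀ (x : SL) (v w : W2), o2 (x • v) (x • w) = o2 v w := by decide +kernel

theorem ng_smul : ∀ v : W2, ng • v = -v := by decide +kernel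

theorem ext_smul : ∀ x y : SL, (∀ v : W2, x • v = y • v) → x = y := by decide +kernel

theorem card : Nat.card SL = 24 := by
  rw [Nat.card_eq_fintype_card]; decide +kernel

theorem ng_comm : ∀ x : SL, x * ng = ng * x := by decide +kernel

theorem ng_sq : ng * ng = 1 := by decide +kernel

theorem ng_ne : ng ≠ 1 := by decide +kernel

theorem sq_one : ∀ x : SL, x * x = 1 → x = 1 ∨ x = ng := by decide +kernel

/-- The quaternion subgroup. -/
def Q8 : Subgroup SL where
  carrier := {x | x ^ 4 = 1}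
  one_mem' := by simp
  mul_mem' := fun {a b} => by
    simp only [Set.mem_ofPred_eq]; revert a b; decide +kernel
  inv_mem' := fun {a} h => by simpa using h

theorem mem_Q8 {x : SL} : x ∈ Q8 ↔ x ^ 4 = 1 := Iff.rfl

instance (x : SL) : Decidable (x ∈ Q8) := inferInstanceAs (Decidable (x ^ 4 = 1))

instance : Q8.Normal := ⟨fun n hn g => by
  rw [mem_Q8] at hn ⊢; rw [conj_pow, hn]; simp⟩

theorem card_Q8 : Nat.card Q8 = 8 := by
  rw [Nat.card_eq_fintype_card, Fintype.card_subtype]; decide +kernel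

theorem ng_mem : ng ∈ Q8 := by decide +kernel

/-- The fixed vector of an element of order three. -/
def fx (x : SL) : W2 := if x • ((1, 0) : W2) = (1, 0) then (1, 0) else (1, 0) - x • ((1, 0) : W2)

theorem fx_ne : ∀ x : SL, fx x ≠ 0 := by decide +kernel

theorem smul_fx : ∀ x : SL, x ^ 3 = 1 → x • fx x = fx x := by decide +kernel

theorem fix_iff : ∀ x : SL, x ^ 3 = 1 → x ≠ 1 → ∀ v : W2, x • v = v ↔ ∃ c : F3, v = c • fx x := by
  decide +kernel

theorem sub_mem : ∀ x : SL, x ^ 3 = 1 → ∀ v : W2, ∃ c : F3, v - x • v = c • fx x := by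
  decide +kernel

theorem exists_sub : ∀ x : SL, x ^ 3 = 1 → x ≠ 1 → ∀ c : F3, ∃ v : W2, v - x • v = c • fx x := by
  decide +kernel

theorem cube_of_fix : ∀ (x : SL) (v : W2), v ≠ 0 → x • v = v → x ^ 3 = 1 := by decide +kernel

theorem q8_fix : ∀ (x : SL) (v : W2), x ∈ Q8 → v ≠ 0 → x • v = v → x = 1 := by decide +kernel

theorem cube_q8 : ∀ x : SL, x ∈ Q8 → x ^ 3 = 1 → x = 1 := by decide +kernel

theorem comm_q8 : ∀ x y : SL, x * y * x⁻¹ * y⁻¹ ∈ Q8 := by decide +kernel

theorem three_comm : ∀ x y : SL, x ^ 3 = 1 → y ^ 3 = 1 →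
    x * y * x⁻¹ * y⁻¹ = 1 ∨ x * y * x⁻¹ * y⁻¹ = ng → x * y = y * x := by decide +kernel

theorem three_tri : ∀ x y : SL, x ^ 3 = 1 → y ^ 3 = 1 → x * y = y * x → x ≠ 1 →
    y = 1 ∨ y = x ∨ y = x⁻¹ := by decide +kernel

theorem exists_of_add (f : W2 →+ W2) (h : ∀ v w, o2 (f v) (f w) = o2 v w) :
    ∃ x : SL, ∀ v, f v = x • v := by
  have h1 := h (1, 0) (0, 1)
  refine ⟨⟨⟨(f (1, 0)).1, (f (0, 1)).1, (f (1, 0)).2, (f (0, 1)).2⟩, by
    simp only [o2] at h1; linear_combination h1⟩, fun v => ?_⟩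
  have e : v = v.1.val • ((1, 0) : W2) + v.2.val • ((0, 1) : W2) := by
    revert v; decide +kernel
  conv_lhs => rw [e, map_add, map_nsmul, map_nsmul]
  ext
  · change _ = (f (1, 0)).1 * v.1 + (f (0, 1)).1 * v.2
    simp [mul_comm]
  · change _ = (f (1, 0)).2 * v.1 + (f (0, 1)).2 * v.2
    simp [mul_comm]

end SL

abbrev V := Fin 3 → W2

/-- The alternating form. -/
def om (v w : V) : F3 := ∑ i, o2 (v i) (w i)

theorem o2_add_left (a b c : W2) : o2 (a + b) c = o2 a c + o2 b c := by simp [o2]; ring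
theorem o2_add_right (a b c : W2) : o2 a (b + c) = o2 a b + o2 a c := by simp [o2]; ring
theorem o2_smul_left (k : F3) (a c : W2) : o2 (k • a) c = k * o2 a c := by simp [o2]; ring
theorem o2_smul_right (k : F3) (a c : W2) : o2 a (k • c) = k * o2 a c := by simp [o2]; ring
@[simp] theorem o2_self (a : W2) : o2 a a = 0 := by simp [o2]; ring
theorem o2_swap (a b : W2) : o2 a b = -o2 b a := by simp [o2]; ring
@[simp] theorem o2_zero_left (a : W2) : o2 0 a = 0 := by simp [o2]
@[simp] theorem o2_zero_right (a : W2) : o2 a 0 = 0 := by simp [o2]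
theorem o2_par : ∀ a b : W2, a ≠ 0 → o2 a b = 0 → ∃ c : F3, b = c • a := by decide +kernel
theorem o2_ex : ∀ a : W2, a ≠ 0 → ∃ b, o2 a b = 1 := by decide +kernel

theorem om_add_left (a b c : V) : om (a + b) c = om a c + om b c := by
  simp [om, o2_add_left, Finset.sum_add_distrib]
theorem om_add_right (a b c : V) : om a (b + c) = om a b + om a c := by
  simp [om, o2_add_right, Finset.sum_add_distrib]
theorem om_smul_left (k : F3) (a c : V) : om (k • a) c = k * om a c := by
  simp [om, o2_smul_left, Finset.mul_sum]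
theorem om_smul_right (k : F3) (a c : V) : om a (k • c) = k * om a c := by
  simp [om, o2_smul_right, Finset.mul_sum]
@[simp] theorem om_self (a : V) : om a a = 0 := by simp [om]
theorem om_swap (a b : V) : om a b = -om b a := by
  simp only [om, ← Finset.sum_neg_distrib]; exact Finset.sum_congr rfl fun i _ => o2_swap _ _
@[simp] theorem om_zero_left (a : V) : om 0 a = 0 := by simp [om]
@[simp] theorem om_zero_right (a : V) : om a 0 = 0 := by simp [om]
theorem om_neg_left (a b : V) : om (-a) b = -om a b := by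
  rw [← neg_one_smul F3 a, om_smul_left]; ring
theorem om_neg_right (a b : V) : om a (-b) = -om a b := by
  rw [← neg_one_smul F3 b, om_smul_right]; ring
theorem om_sub_left (a b c : V) : om (a - b) c = om a c - om b c := by
  rw [sub_eq_add_neg, om_add_left, om_neg_left]; ring
theorem om_sub_right (a b c : V) : om a (b - c) = om a b - om a c := by
  rw [sub_eq_add_neg, om_add_right, om_neg_right]; ring

theorem om_single_left (i : Fin 3) (a : W2) (w : V) : om (Pi.single i a) w = o2 a (w i) := by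
  rw [om, Finset.sum_eq_single i] <;> simp +contextual

theorem om_single_right (i : Fin 3) (a : W2) (w : V) : om w (Pi.single i a) = o2 (w i) a := by
  rw [om_swap, om_single_left, ← o2_swap]

theorem om_nondeg {v : V} (h : ∀ w, om v w = 0) : v = 0 := by
  funext i
  by_contra c
  obtain ⟨b, hb⟩ := o2_ex _ c
  have := h (Pi.single i b)
  rw [om_single_right, hb] at this
  exact absurd this (by decide)

theorem exists_om {v : V} (h : v ≠ 0) : ∃ w, om v w = 1 := by
  obtain ⟨i, hi⟩ := Function.ne_iff.1 h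
  obtain ⟨b, hb⟩ := o2_ex _ hi
  exact ⟨Pi.single i b, by rw [om_single_right, hb]⟩

theorem eq_sum (v : V) : v = Pi.single 0 (v 0) + Pi.single 1 (v 1) + Pi.single 2 (v 2) := by
  funext i; fin_cases i <;> simp

theorem map_f3 {A B : Type*} [AddCommGroup A] [AddCommGroup B] [Module F3 A] [Module F3 B]
    (f : A →+ B) (c : F3) (v : A) : f (c • v) = c • f v := ZMod.map_smul f c v

theorem exists_dual (l : V →+ F3) : ∃ u, ∀ w, l w = om u w := by
  refine ⟨fun i => (l (Pi.single i (0, 1)), -l (Pi.single i (1, 0))), fun w => ?_⟩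
  have e : ∀ i, l (Pi.single i (w i)) =
      o2 (l (Pi.single i (0, 1)), -l (Pi.single i (1, 0))) (w i) := fun i => by
    have : (Pi.single i (w i) : V) = (w i).1 • (Pi.single i (1, 0) : V) +
        (w i).2 • (Pi.single i (0, 1) : V) := by
      rw [← Pi.single_smul, ← Pi.single_smul, ← Pi.single_add]; congr 1; ext <;> simp
    rw [this, map_add, map_f3, map_f3]; simp [o2]; ring
  conv_lhs => rw [eq_sum w, map_add, map_add, e, e, e]
  simp [om, Fin.sum_univ_three]

/-- The wreath product. -/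
@[ext] structure Wr where
  s : Equiv.Perm (Fin 3)
  m : Fin 3 → SL
deriving DecidableEq, Fintype

namespace Wr

instance : One Wr := ⟨⟨1, 1⟩⟩
instance : Mul Wr := ⟨fun x y => ⟨x.s * y.s, fun i => x.m i * y.m (x.s⁻¹ i)⟩⟩
instance : Inv Wr := ⟨fun x => ⟨x.s⁻¹, fun i => (x.m (x.s i))⁻¹⟩⟩

@[simp] theorem one_s : (1 : Wr).s = 1 := rfl
@[simp] theorem one_m (i : Fin 3) : (1 : Wr).m i = 1 := rfl
@[simp] theorem mul_s (x y : Wr) : (x * y).s = x.s * y.s := rfl
@[simp] theorem mul_m (x y : Wr) (i : Fin 3) : (x * y).m i = x.m i * y.m (x.s⁻¹ i) := rfl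
@[simp] theorem inv_s (x : Wr) : x⁻¹.s = x.s⁻¹ := rfl
@[simp] theorem inv_m (x : Wr) (i : Fin 3) : x⁻¹.m i = (x.m (x.s i))⁻¹ := rfl

instance : Group Wr := Group.ofLeftAxioms
  (fun x y z => by ext1; exacts [mul_assoc _ _ _, funext fun i => by simp [mul_assoc]])
  (fun x => by ext1; exacts [one_mul _, funext fun i => by simp])
  (fun x => by ext1; exacts [inv_mul_cancel _, funext fun i => by simp])

/-- The permutation part. -/
def sh : Wr →* Equiv.Perm (Fin 3) := ⟨⟨s, rfl⟩, fun _ _ => rfl⟩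

@[simp] theorem sh_apply (x : Wr) : sh x = x.s := rfl

theorem pow_s (x : Wr) (n : ℕ) : (x ^ n).s = x.s ^ n := map_pow sh x n

instance : SMul Wr V := ⟨fun x v i => x.m i • v (x.s⁻¹ i)⟩

theorem smul_apply (x : Wr) (v : V) (i : Fin 3) : (x • v) i = x.m i • v (x.s⁻¹ i) := rfl

instance : DistribMulAction Wr V where
  one_smul v := funext fun i => by simp [smul_apply]
  mul_smul x y v := funext fun i => by simp [smul_apply, mul_smul]
  smul_zero x := funext fun i => by simp [smul_apply]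
  smul_add x v w := funext fun i => by simp [smul_apply]

theorem smul_f3 (x : Wr) (c : F3) (v : V) : x • (c • v) = c • x • v :=
  map_f3 (DistribSMul.toAddMonoidHom V x) c v

theorem om_smul (x : Wr) (v w : V) : om (x • v) (x • w) = om v w := by
  simp only [om, smul_apply, SL.o2_smul]
  exact Equiv.sum_comp x.s⁻¹ fun i => o2 (v i) (w i)

theorem smul_single (x : Wr) (i : Fin 3) (a : W2) :
    x • (Pi.single i a : V) = Pi.single (x.s i) (x.m (x.s i) • a) := by
  funext j
  by_cases h : j = x.s i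
  · subst h; simp [smul_apply]
  · rw [smul_apply, Pi.single_eq_of_ne h, Pi.single_eq_of_ne, smul_zero]
    exact fun c => h (by rw [← c]; simp)

theorem s_eq_of_single {x : Wr} {i j : Fin 3} {a b : W2} (ha : a ≠ 0)
    (h : x • (Pi.single i a : V) = Pi.single j b) : x.s i = j ∧ x.m j • a = b := by
  rw [smul_single] at h
  have h1 : x.s i = j := by
    by_contra c
    have := congrFun h (x.s i)
    rw [Pi.single_eq_same, Pi.single_eq_of_ne c, smul_eq_zero_iff_eq] at this
    exact ha this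
  subst h1
  exact ⟨rfl, by simpa using congrFun h (x.s i)⟩

theorem ext_smul {x y : Wr} (h : ∀ v : V, x • v = y • v) : x = y := by
  have h1 : ∀ i (a : W2), a ≠ 0 → x.s i = y.s i ∧ x.m (y.s i) • a = y.m (y.s i) • a := fun i a ha =>
    s_eq_of_single ha ((h _).trans (smul_single y i a))
  ext1
  · exact Equiv.ext fun i => (h1 i (1, 0) (by decide)).1
  · funext i
    obtain ⟨i, rfl⟩ := y.s.surjective i
    refine SL.ext_smul _ _ fun a => ?_
    by_cases c : a = 0
    · simp [c]
    · exact (h1 i a c).2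

theorem exists_of_add (f : V →+ V) (h : ∀ v w, om (f v) (f w) = om v w)
    (h1 : ∀ i, ∃ j, ∀ a k, k ≠ j → f (Pi.single i a) k = 0) : ∃ x : Wr, ∀ v, f v = x • v := by
  choose σ hσ using h1
  have h2 : ∀ i a, f (Pi.single i a) = Pi.single (σ i) (f (Pi.single i a) (σ i)) := fun i a => by
    funext k
    by_cases c : k = σ i
    · subst c; simp
    · rw [hσ i a k c, Pi.single_eq_of_ne c]
  have h3 : ∀ i, ∃ x : SL, ∀ a, f (Pi.single i a) (σ i) = x • a := fun i =>
    SL.exists_of_add ((Pi.evalAddMonoidHom (fun _ => W2) (σ i)).comp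
      (f.comp (AddMonoidHom.single (fun _ => W2) i))) fun a b => by
        have := h (Pi.single i a) (Pi.single i b)
        rw [h2 i a, om_single_left, om_single_left, Pi.single_eq_same] at this
        exact this
  choose x hx using h3
  have h4 : Function.Injective σ := fun i j e => by
    by_contra c
    obtain ⟨b, hb⟩ := o2_ex (x i • ((1, 0) : W2)) (by rw [Ne, smul_eq_zero_iff_eq]; decide)
    have := h (Pi.single i (1, 0)) (Pi.single j ((x j)⁻¹ • b))
    rw [h2 i, om_single_left, om_single_left, Pi.single_eq_of_ne c, hx, e, hx, smul_inv_smul, hb,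
      o2_zero_right] at this
    exact absurd this (by decide)
  let e := Equiv.ofBijective σ (Finite.injective_iff_bijective.1 h4)
  refine ⟨⟨e, fun j => x (e⁻¹ j)⟩, fun v => ?_⟩
  have h5 : ∀ i a, f (Pi.single i a) = (⟨e, fun j => x (e⁻¹ j)⟩ : Wr) • (Pi.single i a : V) :=
    fun i a => by
      rw [smul_single, h2, hx]
      simp [e]
  rw [eq_sum v]
  simp only [map_add, smul_add, h5]

/-- Elements of the base group. -/
def bs : (Fin 3 → SL) →* Wr := MonoidHom.mk' (fun m => ⟨1, m⟩) fun _ _ => rfl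

@[simp] theorem bs_s (m : Fin 3 → SL) : (bs m).s = 1 := rfl
@[simp] theorem bs_m (m : Fin 3 → SL) : (bs m).m = m := rfl

theorem bs_inj : Function.Injective bs := fun _ _ h => congrArg Wr.m h

theorem eq_bs {x : Wr} (h : x.s = 1) : x = bs x.m := by ext1; exacts [h, rfl]

theorem pow_m {x : Wr} (h : x.s = 1) (n : ℕ) (i : Fin 3) : (x ^ n).m i = x.m i ^ n := by
  rw [eq_bs h, ← map_pow]; rfl

theorem base_smul {x : Wr} (h : x.s = 1) (v : V) (i : Fin 3) : (x • v) i = x.m i • v i := by
  rw [smul_apply, h]; rfl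

theorem conj_m (t : Wr) {x : Wr} (h : x.s = 1) (i : Fin 3) :
    (t * x * t⁻¹).m (t.s i) = t.m (t.s i) * x.m i * (t.m (t.s i))⁻¹ := by
  simp [h]

theorem conj_s (t : Wr) {x : Wr} (h : x.s = 1) : (t * x * t⁻¹).s = 1 := by simp [h]

/-- An element of the base group supported at one place. -/
def sg (i : Fin 3) : SL →* Wr := bs.comp (MonoidHom.mulSingle (fun _ => SL) i)

@[simp] theorem sg_s (i : Fin 3) (a : SL) : (sg i a).s = 1 := rfl
theorem sg_m (i : Fin 3) (a : SL) : (sg i a).m = Pi.mulSingle i a := rfl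

theorem conj_sg (t : Wr) (i : Fin 3) (a : SL) :
    t * sg i a * t⁻¹ = sg (t.s i) (t.m (t.s i) * a * (t.m (t.s i))⁻¹) := by
  ext1
  · simp
  · funext j
    obtain ⟨j, rfl⟩ := t.s.surjective j
    rw [conj_m t (sg_s i a), sg_m, sg_m]
    by_cases c : j = i
    · subst c; simp
    · rw [Pi.mulSingle_eq_of_ne c, Pi.mulSingle_eq_of_ne (t.s.injective.ne c)]; simp

/-- The three reflections. -/
def r (i : Fin 3) : Wr := sg i SL.ng

theorem conj_r (t : Wr) (i : Fin 3) : t * r i * t⁻¹ = r (t.s i) := by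
  rw [r, conj_sg, SL.ng_comm]; simp [r]

theorem r_smul (i : Fin 3) (v : V) (j : Fin 3) : (r i • v) j = if j = i then -v j else v j := by
  rw [base_smul rfl, r, sg_m]
  split_ifs with c
  · subst c; simp [SL.ng_smul]
  · simp [Pi.mulSingle_eq_of_ne c]

theorem r_sq (i : Fin 3) : r i * r i = 1 := by rw [r, ← map_mul, SL.ng_sq, map_one]

theorem r_comm {x : Wr} {i : Fin 3} (h : x.s i = i) : Commute x (r i) := by
  have := conj_r x i
  rw [h] at this
  exact mul_inv_eq_iff_eq_mul.1 this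

/-- The product of the three quaternion groups. -/
def B8 : Subgroup Wr where
  carrier := {x | x.s = 1 ∧ ∀ i, x.m i ∈ SL.Q8}
  one_mem' := ⟨rfl, fun _ => one_mem _⟩
  mul_mem' := fun {a b} ha hb => ⟨by simp [ha.1, hb.1], fun i => mul_mem (ha.2 i) (hb.2 _)⟩
  inv_mem' := fun {a} ha => ⟨by simp [ha.1], fun i => inv_mem (ha.2 _)⟩

instance : B8.Normal := ⟨fun n hn g => ⟨conj_s g hn.1, fun i => by
  obtain ⟨i, rfl⟩ := g.s.surjective i
  rw [conj_m g hn.1]
  exact Normal.conj_mem inferInstance _ (hn.2 i) _⟩⟩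

theorem pow_four {x : Wr} (h : x ∈ B8) : x ^ 4 = 1 := by
  ext1
  · rw [pow_s, h.1]; simp
  · funext i; rw [pow_m h.1]; exact h.2 i

theorem sg_mem {i : Fin 3} {a : SL} (h : a ∈ SL.Q8) : sg i a ∈ B8 := ⟨rfl, fun j => by
  rw [sg_m]
  by_cases c : j = i
  · subst c; simpa using h
  · rw [Pi.mulSingle_eq_of_ne c]; exact one_mem _⟩

theorem r_mem (i : Fin 3) : r i ∈ B8 := sg_mem SL.ng_mem

theorem eq_prod {x : Wr} (h : x.s = 1) : x = sg 0 (x.m 0) * sg 1 (x.m 1) * sg 2 (x.m 2) := by
  ext1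
  · simp [h]
  · funext i; fin_cases i <;> simp [sg_m]

end Wr

/-- The extraspecial group. -/
@[ext] structure Hs where
  v : V
  c : F3
deriving DecidableEq, Fintype

namespace Hs

instance : One Hs := ⟨⟨0, 0⟩⟩
instance : Mul Hs := ⟨fun x y => ⟨x.v + y.v, x.c + y.c + om x.v y.v⟩⟩
instance : Inv Hs := ⟨fun x => ⟨-x.v, -x.c⟩⟩

@[simp] theorem one_v : (1 : Hs).v = 0 := rfl
@[simp] theorem one_c : (1 : Hs).c = 0 := rfl
@[simp] theorem mul_v (x y : Hs) : (x * y).v = x.v + y.v := rfl
@[simp] theorem mul_c (x y : Hs) : (x * y).c = x.c + y.c + om x.v y.v := rfl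
@[simp] theorem inv_v (x : Hs) : x⁻¹.v = -x.v := rfl
@[simp] theorem inv_c (x : Hs) : x⁻¹.c = -x.c := rfl

instance : Group Hs := Group.ofLeftAxioms
  (fun x y z => by
    ext1
    · simp [add_assoc]
    · simp [om_add_left, om_add_right]; ring)
  (fun x => by ext1 <;> simp)
  (fun x => by ext1 <;> simp [om_neg_left])

theorem mk_mul (v w : V) (c e : F3) : (⟨v, c⟩ * ⟨w, e⟩ : Hs) = ⟨v + w, c + e + om v w⟩ := rfl

theorem mk_inv (v : V) (c : F3) : (⟨v, c⟩ : Hs)⁻¹ = ⟨-v, -c⟩ := rfl

theorem mk_one : (⟨0, 0⟩ : Hs) = 1 := rfl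

theorem three (c : F3) : c + c + c = 0 := by revert c; decide

theorem cube (x : Hs) : x ^ 3 = 1 := by
  rw [pow_succ, pow_two]
  ext1
  · funext i; ext <;> simp [three]
  · simp [om_add_left, three]

theorem commute_iff {x y : Hs} : Commute x y ↔ om x.v y.v = 0 := by
  refine ⟨fun h => ?_, fun h => ?_⟩
  · have := congrArg Hs.c h.eq
    simp only [mul_c, om_swap y.v x.v] at this
    have e : ∀ a b c : F3, a + b + c = b + a + -c → c = 0 := by decide
    exact e _ _ _ this
  · ext1
    · simp [add_comm]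
    · simp [om_swap y.v x.v, h, add_comm]

theorem comm (x y : Hs) : x * y * x⁻¹ * y⁻¹ = ⟨0, -om x.v y.v⟩ := by
  ext1
  · simp
  · simp only [mul_c, mul_v, inv_c, inv_v, om_add_left, om_neg_right, om_neg_left, om_self,
      om_swap y.v x.v]
    linear_combination three (om x.v y.v)

theorem card : Nat.card Hs = 3 ^ 7 := by
  rw [Nat.card_congr (⟨fun x => (x.v, x.c), fun p => ⟨p.1, p.2⟩, fun _ => rfl, fun _ => rfl⟩ :
    Hs ≃ V × F3)]
  simp

theorem isPGroup : IsPGroup 3 Hs := fun x => ⟨1, by simpa using cube x⟩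

theorem pow_val (x : Hs) (k : F3) : x ^ k.val = ⟨k • x.v, k * x.c⟩ := by
  have e : ∀ k : F3, k = 0 ∨ k = 1 ∨ k = 2 := by decide
  rcases e k with rfl | rfl | rfl
  · simp [mk_one]
  · simp [ZMod.val_one]
  · rw [show (2 : F3).val = 2 from rfl, pow_two]
    ext1 <;> simp [two_smul, two_mul]

end Hs

end Cfsg.Agent.F22L
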