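import Mathlib
import Cfsg.Agent.F22L.Mod

/-! Subgroups of the wreath product meeting `Q₈³` in a group of order `2⁷`. -/

set_option autoImplicit false

namespace Cfsg.Agent.F22L

open Subgroup Wr

theorem three_le {A B : Type*} [Group A] [Group B] [Finite A] [Finite B] (hA : IsPGroup 3 A)
    (f : A →* B) (h9 : ¬ 9 ∣ Nat.card B) : Nat.card A ≤ 3 * Nat.card f.ker := by
  have := Fact.mk Nat.prime_three
  obtain ⟨k, hk⟩ := IsPGroup.iff_card.1 (hA.of_surjective _ f.rangeRestrict_surjective)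
  have h1 : k ≤ 1 := by
    by_contra c
    exact h9 ((pow_dvd_pow 3 (show 2 ≤ k by omega)).trans (hk ▸ card_subgroup_dvd_card f.range))
  rw [← f.ker.card_mul_index, index_ker, hk, mul_comm]
  exact Nat.mul_le_mul_right _ (by interval_cases k <;> norm_num)

theorem exists_ne_one {A : Type*} [Group A] {K : Subgroup A} [Finite K] (h : 1 < Nat.card K) :
    ∃ x ∈ K, x ≠ 1 := by
  obtain ⟨⟨x, hx⟩, h1⟩ := ne_bot_iff_exists_ne_one.1 ((one_lt_card_iff_ne_bot K).1 h)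
  exact ⟨x, hx, fun c => h1 (Subtype.ext c)⟩

theorem card_perm3 : ¬ 9 ∣ Nat.card (Equiv.Perm (Fin 3)) := by
  rw [Nat.card_perm]; simp [Nat.factorial]

theorem card_sl3 : ¬ 9 ∣ Nat.card SL := by rw [SL.card]; norm_num

theorem perm_cube : ∀ s : Equiv.Perm (Fin 3), s ^ 3 = 1 → s = 1 ∨ ∀ i, s i ≠ i := by decide

theorem perm_der : ∀ s : Equiv.Perm (Fin 3), (∀ i, s i ≠ i) → ∀ i j, j = i ∨ j = s i ∨ j = s (s i) := by
  decide

theorem perm_pow : ∀ s : Equiv.Perm (Fin 3), s ^ 9 = s ^ 3 := by decide +kernel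

theorem perm_der3 : ∀ s : Equiv.Perm (Fin 3), (∀ i, s i ≠ i) → ∀ i, s (s (s i)) = i := by decide

theorem fin3 : ∀ i : Fin 3, ∃ j k : Fin 3, j ≠ i ∧ k ≠ i ∧ j ≠ k ∧ ∀ l, l ≠ i → l = j ∨ l = k := by
  decide

theorem sl_pow : ∀ s : SL, s ^ 9 = 1 → s ^ 3 = 1 := by decide +kernel

theorem cube_of_pow {A : Type*} [Group A] (h : ∀ s : A, s ^ 9 = 1 → s ^ 3 = 1) {x : A} {k : ℕ}
    (hx : x ^ 3 ^ k = 1) : x ^ 3 = 1 := by
  induction k generalizing x with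
  | zero => simp_all
  | succ k ih =>
    rw [pow_succ', pow_mul] at hx
    exact h x (by simpa [← pow_mul] using ih hx)

theorem s_cube {x : Wr} {k : ℕ} (hx : x ^ 3 ^ k = 1) : x.s = 1 ∨ ∀ i, x.s i ≠ i :=
  perm_cube _ (cube_of_pow (fun s h => perm_pow s ▸ h) (k := k) (by rw [← pow_s, hx]; rfl))

theorem base_cube {x : Wr} {k : ℕ} (hx : x ^ 3 ^ k = 1) (h : x.s = 1) : x ^ 3 = 1 := by
  ext1
  · rw [pow_s, h]; simp
  · funext i
    rw [pow_m h]
    exact cube_of_pow sl_pow (k := k) (by rw [← pow_m h, hx]; rfl)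

theorem m_cube {x : Wr} (hx : x ^ 3 = 1) (h : x.s = 1) (i : Fin 3) : x.m i ^ 3 = 1 := by
  rw [← pow_m h, hx]; rfl

theorem exists_m_ne {x : Wr} (h : x.s = 1) (h1 : x ≠ 1) : ∃ i, x.m i ≠ 1 := by
  by_contra! c
  exact h1 (Wr.ext h (funext c))

/-- Evaluation at one place. -/
def ev {A : Type*} [Group A] (f : A →* Wr) (h : ∀ a, (f a).s = 1) (i : Fin 3) : A →* SL :=
  MonoidHom.mk' (fun a => (f a).m i) fun a b => by simp [h]

theorem eq_sg {x : Wr} {i : Fin 3} (h : x.s = 1) (h1 : ∀ j, j ≠ i → x.m j = 1) :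
    x = sg i (x.m i) := by
  ext1
  · exact h
  · funext j
    rw [sg_m]
    by_cases c : j = i
    · subst c; simp
    · rw [Pi.mulSingle_eq_of_ne c, h1 j c]

theorem sl_cc : ∀ x a b : SL, x ∈ SL.Q8 → a ^ 3 = 1 → a ≠ 1 → b ^ 3 = 1 → b ≠ 1 →
    x * a * x⁻¹ * a⁻¹ * b * (x * a * x⁻¹ * a⁻¹)⁻¹ * b⁻¹ = 1 ∨
      x * a * x⁻¹ * a⁻¹ * b * (x * a * x⁻¹ * a⁻¹)⁻¹ * b⁻¹ = SL.ng → x = 1 ∨ x = SL.ng := by
  decide +kernel

theorem sl_gen : ∀ u a v : SL, u ∈ SL.Q8 → ¬ (u = 1 ∨ u = SL.ng) → a ^ 3 = 1 → a ≠ 1 →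
    v ∈ SL.Q8 → ∃ i j : Fin 4, v = u ^ i.val * (a * u * a⁻¹) ^ j.val := by decide +kernel

theorem sl_pm : ∀ x a : SL, x = 1 ∨ x = SL.ng → a * x * a⁻¹ = 1 ∨ a * x * a⁻¹ = SL.ng := by
  decide +kernel

theorem sl_four : ∀ a : SL, (a ^ 4) ^ 3 = 1 := by decide +kernel

theorem sl_sq : ∀ a : SL, a ∈ SL.Q8 → ¬ (a = 1 ∨ a = SL.ng) → a * a = SL.ng := by decide +kernel

theorem sl_norm : ∀ u a : SL, u ∈ SL.Q8 → a ^ 3 = 1 → a ≠ 1 →
    u * (a * u * a⁻¹) * (a⁻¹ * u * a) = 1 ∨ u * (a * u * a⁻¹) * (a⁻¹ * u * a) = SL.ng := by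
  decide +kernel

theorem sl_rot : ∀ u a : SL, u ∈ SL.Q8 → ¬ (u = 1 ∨ u = SL.ng) → a ^ 3 = 1 → a ≠ 1 →
    ¬ (a * u * a⁻¹ = 1 ∨ a * u * a⁻¹ = SL.ng) ∧
      ¬ (u * (a * u * a⁻¹) = 1 ∨ u * (a * u * a⁻¹) = SL.ng) := by decide +kernel

/-- Two generators of the quaternion group. -/
def qi : SL := ⟨⟨0, -1, 1, 0⟩, by decide⟩
def qj : SL := ⟨⟨1, 1, 1, -1⟩, by decide⟩

/-- The image of the centralizer in the wreath product. -/
structure XD (X : Subgroup Wr) : Prop where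
  r : ∀ i, r i ∈ X
  card : Nat.card ↥(X ⊓ B8) = 128
  o3 : ∀ e ∈ X, e.s = 1 → e ^ 3 = 1 → (∀ x ∈ X, x ∈ B8 → Commute e x) → e = 1

def S0 (X : Subgroup Wr) (j : Fin 3) : Prop := ∀ x ∈ X, x ∈ B8 → x.m j = 1 ∨ x.m j = SL.ng

def S1 (X : Subgroup Wr) (j : Fin 3) : Prop := ∀ u ∈ SL.Q8, sg j u ∈ X

variable {X : Subgroup Wr}

theorem S0.cj {j : Fin 3} (h : S0 X j) {t : Wr} (ht : t ∈ X) : S0 X (t.s j) := fun x hx h8 => by
  have h1 : t⁻¹ * x * t⁻¹⁻¹ ∈ B8 := Normal.conj_mem inferInstance x h8 _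
  have := sl_pm _ (t.m (t.s j)) (h _ (mul_mem (mul_mem (inv_mem ht) hx) (inv_mem (inv_mem ht))) h1)
  rwa [← conj_m t h1.1, show t * (t⁻¹ * x * t⁻¹⁻¹) * t⁻¹ = x by group] at this

theorem S1.cj {j : Fin 3} (h : S1 X j) {t : Wr} (ht : t ∈ X) : S1 X (t.s j) := fun u hu => by
  have := mul_mem (mul_mem ht (h _ (Normal.conj_mem inferInstance u hu (t.m (t.s j))⁻¹)))
    (inv_mem ht)
  rwa [conj_sg, show t.m (t.s j) * ((t.m (t.s j))⁻¹ * u * (t.m (t.s j))⁻¹⁻¹) * (t.m (t.s j))⁻¹ = u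
    by group] at this

theorem all_of_der {P : Fin 3 → Prop} {s : Equiv.Perm (Fin 3)} (hs : ∀ i, s i ≠ i)
    (h : ∀ i, P i → P (s i)) {j : Fin 3} (hj : P j) (i : Fin 3) : P i := by
  rcases perm_der s hs j i with rfl | rfl | rfl
  exacts [hj, h _ hj, h _ (h _ hj)]

theorem S1.of_mem {e : Wr} (he : e ∈ X) (es : e.s = 1) (e3 : e ^ 3 = 1) {j : Fin 3}
    (ej : e.m j ≠ 1) {u : SL} (hu : u ∈ SL.Q8) (u1 : ¬ (u = 1 ∨ u = SL.ng)) (h : sg j u ∈ X) :
    S1 X j := fun v hv => by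
  obtain ⟨a, b, rfl⟩ := sl_gen u _ v hu u1 (m_cube e3 es j) ej hv
  have := mul_mem (mul_mem he h) (inv_mem he)
  rw [conj_sg, es] at this
  rw [map_mul, map_pow, map_pow]
  exact mul_mem (pow_mem h _) (pow_mem this _)

theorem dich {e e' : Wr} (he : e ∈ X) (es : e.s = 1) (e3 : e ^ 3 = 1) (he' : e' ∈ X)
    (es' : e'.s = 1) (e3' : e' ^ 3 = 1) {j : Fin 3} (ej : e.m j ≠ 1) (ej' : e'.m j ≠ 1)
    (h : ∀ i, i ≠ j → e.m i = 1 ∨ e'.m i = 1) : S0 X j ∨ S1 X j := by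
  refine or_iff_not_imp_left.2 fun c => ?_
  simp only [S0, not_forall] at c
  obtain ⟨x, hx, h8, c⟩ := c
  have h1 : x * e * x⁻¹ * e⁻¹ * e' * (x * e * x⁻¹ * e⁻¹)⁻¹ * e'⁻¹ ∈ X := by
    have := mul_mem (mul_mem (mul_mem hx he) (inv_mem hx)) (inv_mem he)
    exact mul_mem (mul_mem (mul_mem this he') (inv_mem this)) (inv_mem he')
  have h2 : ∀ i, (x * e * x⁻¹ * e⁻¹ * e' * (x * e * x⁻¹ * e⁻¹)⁻¹ * e'⁻¹).m i =
      x.m i * e.m i * (x.m i)⁻¹ * (e.m i)⁻¹ * e'.m i *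
        (x.m i * e.m i * (x.m i)⁻¹ * (e.m i)⁻¹)⁻¹ * (e'.m i)⁻¹ := fun i => by
    simp [h8.1, es, es']
  have h3 := eq_sg (x := x * e * x⁻¹ * e⁻¹ * e' * (x * e * x⁻¹ * e⁻¹)⁻¹ * e'⁻¹) (i := j)
    (by simp [h8.1, es, es']) fun i hi => by
      rw [h2]; rcases h i hi with c | c <;> simp [c]
  rw [h3, h2] at h1
  exact S1.of_mem he es e3 ej (SL.comm_q8 _ _)
    (fun c' => c (sl_cc _ _ _ (h8.2 j) (m_cube e3 es j) ej (m_cube e3' es' j) ej' c')) h1

namespace XD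

variable (h : XD X)
include h

theorem not_S0 : ¬ ∀ j, S0 X j := fun c => by
  have := Nat.card_le_card_of_injective (fun (x : ↥(X ⊓ B8)) i => decide (x.1.m i = 1))
    fun x y e => Subtype.ext (Wr.ext (x.2.2.1.trans y.2.2.1.symm) (funext fun i => by
      have h1 := congrFun e i
      rcases c i x x.2.1 x.2.2 with a | a <;> rcases c i y y.2.1 y.2.2 with b | b <;>
        simp_all [SL.ng_ne]))
  rw [h.card] at this
  simp at this

theorem not_S1 : ¬ ∀ j, S1 X j := fun c => by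
  have := Nat.card_le_card_of_injective (fun (x : Fin 3 → SL.Q8) =>
    (⟨bs fun i => x i, by
      rw [eq_prod (bs_s _)]
      exact mul_mem (mul_mem (c 0 _ (x 0).2) (c 1 _ (x 1).2)) (c 2 _ (x 2).2),
      rfl, fun i => (x i).2⟩ : ↥(X ⊓ B8)))
    fun x y e => funext fun i => Subtype.ext (congrFun (bs_inj (congrArg Subtype.val e)) i)
  rw [h.card, Nat.card_fun, SL.card_Q8] at this
  simp at this

theorem full {t : Wr} (ht : t ∈ X) (hs : ∀ i, t.s i ≠ i) {e : Wr} (he : e ∈ X) (es : e.s = 1)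
    (e3 : e ^ 3 = 1) (e1 : e ≠ 1) (i : Fin 3) : e.m i ≠ 1 := fun ei => by
  have fin : ∀ j, ¬ (S0 X j ∨ S1 X j) := fun j c => c.elim
    (fun c => h.not_S0 (all_of_der hs (fun _ a => a.cj ht) c))
    fun c => h.not_S1 (all_of_der hs (fun _ a => a.cj ht) c)
  have cj : ∀ {e : Wr}, e ∈ X → e.s = 1 → e ^ 3 = 1 → t * e * t⁻¹ ∈ X ∧ (t * e * t⁻¹).s = 1 ∧
      (t * e * t⁻¹) ^ 3 = 1 ∧ ∀ k, (t * e * t⁻¹).m (t.s k) = 1 ↔ e.m k = 1 := fun a b c =>
    ⟨mul_mem (mul_mem ht a) (inv_mem ht), conj_s t b, by rw [conj_pow, c]; simp, fun k => by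
      rw [conj_m t b, conj_eq_one_iff]⟩
  obtain ⟨a1, a2, a3, a4⟩ := cj he es e3
  by_cases c1 : e.m (t.s i) = 1
  · have c2 : e.m (t.s (t.s i)) ≠ 1 := fun c2 => e1 (Wr.ext es (funext fun k => by
      rcases perm_der _ hs i k with rfl | rfl | rfl <;> assumption))
    refine fin _ (dich he es e3 he es e3 c2 c2 fun k hk => ?_)
    rcases perm_der _ hs i k with rfl | rfl | rfl
    exacts [Or.inl ei, Or.inl c1, absurd rfl hk]
  by_cases c2 : e.m (t.s (t.s i)) = 1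
  · refine fin _ (dich he es e3 he es e3 c1 c1 fun k hk => ?_)
    rcases perm_der _ hs i k with rfl | rfl | rfl
    exacts [Or.inl ei, absurd rfl hk, Or.inl c2]
  refine fin _ (dich he es e3 a1 a2 a3 c2 (fun c => c1 ((a4 _).1 c)) fun k hk => ?_)
  rcases perm_der _ hs i k with rfl | rfl | rfl
  exacts [Or.inl ei, Or.inr ((a4 _).2 ei), absurd rfl hk]

theorem card_le {A : Type*} [Group A] [Finite A] (hA : IsPGroup 3 A) (f : A →* Wr)
    (hf : ∀ a, f a ∈ X) : Nat.card A ≤ 9 * Nat.card f.ker := by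
  have h3 : ∀ a, (f a).s = 1 → f a ^ 3 = 1 := fun a c =>
    let ⟨k, hk⟩ := hA a
    base_cube (k := k) (by rw [← map_pow, hk, map_one]) c
  by_cases c : ∀ a, (f a).s = 1
  · by_contra! hc
    refine h.not_S1 fun j => ?_
    obtain ⟨i, k, h1⟩ : ∃ i k : Fin 3, ∀ l, l ≠ j → l = i ∨ l = k := by revert j; decide
    have h2 := three_le hA (ev f c i) card_sl3
    have h4 := three_le (hA.to_subgroup (ev f c i).ker)
      ((ev f c k).comp (ev f c i).ker.subtype) card_sl3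
    obtain ⟨e, he, e1⟩ : ∃ e : (ev f c i).ker, ev f c k e = 1 ∧ f e ≠ 1 := by
      by_contra! c'
      have := Nat.card_le_card_of_injective (fun x : ((ev f c k).comp (ev f c i).ker.subtype).ker =>
        (⟨x.1.1, c' x.1 x.2⟩ : f.ker)) fun x y e => by
          ext; exact Subtype.mk.inj e
      omega
    have h5 : ∀ l, l ≠ j → (f e).m l = 1 := fun l hl => by
      rcases h1 l hl with rfl | rfl
      exacts [e.2, he]
    have h6 : (f e).m j ≠ 1 := fun c' => e1 (Wr.ext (c e) (funext fun l => by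
      by_cases a : l = j
      exacts [a ▸ c', h5 l a]))
    refine (dich (hf e) (c e) (h3 e (c e)) (hf e) (c e) (h3 e (c e)) h6 h6 fun l hl =>
      Or.inl (h5 l hl)).resolve_left fun c' => e1 (h.o3 _ (hf e) (c e) (h3 e (c e))
        fun x hx h8 => Wr.ext (by simp [c, h8.1]) (funext fun l => ?_))
    by_cases a : l = j
    · subst a
      rcases c' x hx h8 with b | b <;> simp [c, h8.1, b, SL.ng_comm]
    · simp [c, h8.1, h5 l a]
  · obtain ⟨t, ht⟩ := not_forall.1 c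
    obtain ⟨k, hk⟩ := hA t
    have hs := (s_cube (x := f t) (k := k) (by rw [← map_pow, hk, map_one])).resolve_left ht
    have h2 := three_le hA (sh.comp f) card_perm3
    have h4 := three_le (hA.to_subgroup (sh.comp f).ker)
      (ev (f.comp (sh.comp f).ker.subtype) (fun a => a.2) 0) card_sl3
    have := Nat.card_le_card_of_injective
      (fun x : (ev (f.comp (sh.comp f).ker.subtype) (fun a => a.2) 0).ker =>
        (⟨x.1.1, by_contra fun c' => h.full (hf t) hs (hf x.1.1) x.1.2 (h3 _ x.1.2) c' 0 x.2⟩ :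
          f.ker)) fun x y e => by ext; exact Subtype.mk.inj e
    omega

theorem comm {A : Type*} [Group A] [Finite A] (hA : IsPGroup 3 A) (f : A →* Wr)
    (hf : ∀ a, f a ∈ X) (a b : A) : Commute (f a) (f b) := by
  have := Fact.mk Nat.prime_three
  have h1 := hA.of_surjective _ f.rangeRestrict_surjective
  have h2 := h.card_le h1 f.range.subtype fun ⟨_, a, e⟩ => e ▸ hf a
  rw [ker_subtype, card_bot] at h2
  obtain ⟨k, hk⟩ := IsPGroup.iff_card.1 h1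
  have h3 : k ≤ 2 := by
    by_contra c
    have := Nat.pow_le_pow_right (show 0 < 3 by norm_num) (show 3 ≤ k by omega)
    omega
  have h4 : ∀ x y : f.range, x * y = y * x := by
    interval_cases k
    · have := (Nat.card_eq_one_iff_unique.1 hk).1
      exact fun x y => Subsingleton.elim _ _
    · have := isCyclic_of_prime_card (p := 3) hk
      exact (IsCyclic.commGroup (α := f.range)).mul_comm
    · exact (IsPGroup.commGroupOfCardEqPrimeSq hk).mul_comm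
  exact congrArg Subtype.val (h4 ⟨_, a, rfl⟩ ⟨_, b, rfl⟩)

end XD

/-- The shape of the image for the Fischer group. -/
structure XF (X : Subgroup Wr) (t d : Wr) : Prop extends XD X where
  tX : t ∈ X
  ts : ∀ i, t.s i ≠ i
  dX : d ∈ X
  ds : d.s = 1
  d3 : d ^ 3 = 1
  d1 : d ≠ 1

namespace XF

variable {t d : Wr} (h : XF X t d)
include h

theorem dm (i : Fin 3) : d.m i ≠ 1 := h.full h.tX h.ts h.dX h.ds h.d3 h.d1 i

theorem single {x : Wr} {i : Fin 3} (hx : x ∈ X) (xs : x.s = 1) (h1 : ∀ j, j ≠ i → x.m j = 1) :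
    x.m i = 1 ∨ x.m i = SL.ng := by
  rw [eq_sg xs h1] at hx
  have h2 : x.m i ∈ SL.Q8 := by
    by_contra c
    refine h.full h.tX h.ts (pow_mem hx 4) (by rw [← map_pow]; rfl)
      (by rw [← map_pow, ← map_pow, sl_four, map_one]) (fun c' => c ?_) (t.s i) ?_
    · have := congrFun (congrArg Wr.m c') i
      rwa [← map_pow, sg_m, Pi.mulSingle_eq_same] at this
    · rw [← map_pow, sg_m, Pi.mulSingle_eq_of_ne (h.ts i)]
  by_contra c
  exact h.not_S1 (all_of_der h.ts (fun _ a => a.cj h.tX)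
    (S1.of_mem h.dX h.ds h.d3 (h.dm i) h2 c hx))

theorem single' {x : Wr} {i : Fin 3} (hx : x ∈ X) (xs : x.s = 1)
    (h1 : ∀ j, j ≠ i → x.m j = 1 ∨ x.m j = SL.ng) : x.m i = 1 ∨ x.m i = SL.ng := by
  have h2 : ∀ j, j ≠ i → ∀ y ∈ X, y.s = 1 → y.m j = 1 ∨ y.m j = SL.ng →
      ∃ w ∈ X, w.s = 1 ∧ w.m j = 1 ∧ ∀ k, k ≠ j → w.m k = y.m k := fun j _ y hy ys c => by
    rcases c with c | c
    · exact ⟨y, hy, ys, c, fun _ _ => rfl⟩
    · exact ⟨y * r j, mul_mem hy (h.r j), by simp [ys, Wr.r], by simp [ys, Wr.r, sg_m, c, SL.ng_sq],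
        fun k hk => by simp [ys, Wr.r, sg_m, Pi.mulSingle_eq_of_ne hk]⟩
  obtain ⟨j, k, a, b, c, e⟩ := fin3 i
  obtain ⟨w, w1, w2, w3, w4⟩ := h2 j a x hx xs (h1 j a)
  obtain ⟨y, y1, y2, y3, y4⟩ := h2 k b w w1 w2 (w4 k c.symm ▸ h1 k b)
  rw [← w4 i a.symm, ← y4 i b.symm]
  refine h.single y1 y2 fun l hl => ?_
  rcases e l hl with rfl | rfl
  exacts [(y4 _ c).trans w3, y3]

/-- The projection to two places. -/
def pr2 (X : Subgroup Wr) (j k : Fin 3) : ↥(X ⊓ B8) →* SL.Q8 × SL.Q8 :=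
  MonoidHom.mk' (fun x => (⟨x.1.m j, x.2.2.2 j⟩, ⟨x.1.m k, x.2.2.2 k⟩)) fun a b => by
    ext <;> simp [a.2.2.1]

theorem ker_pr2 {i j k : Fin 3} (e : ∀ l, l ≠ i ↔ l = j ∨ l = k) (x : ↥(X ⊓ B8)) :
    pr2 X j k x = 1 ↔ x.1 = 1 ∨ x.1 = r i := by
  constructor
  · intro c
    have h1 : ∀ l, l ≠ i → x.1.m l = 1 := fun l hl => by
      rcases (e l).1 hl with rfl | rfl
      exacts [congrArg (·.1.1) c, congrArg (·.2.1) c]
    have h2 := eq_sg x.2.2.1 h1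
    rcases h.single x.2.1 x.2.2.1 h1 with a | a <;> rw [a] at h2
    exacts [Or.inl (h2.trans (map_one _)), Or.inr h2]
  · have a := (e j).2 (Or.inl rfl)
    have b := (e k).2 (Or.inr rfl)
    rintro (c | c) <;> ext <;>
      simp [pr2, c, Wr.r, sg_m, Pi.mulSingle_eq_of_ne a, Pi.mulSingle_eq_of_ne b]

theorem pr2_surj {j k : Fin 3} (hjk : j ≠ k) : Function.Surjective (pr2 X j k) := by
  obtain ⟨i, e⟩ : ∃ i : Fin 3, ∀ l, l ≠ i ↔ l = j ∨ l = k := by revert j k; decide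
  rw [← MonoidHom.range_eq_top]
  refine eq_top_of_card_eq _ (le_antisymm (card_le_card_group _) ?_)
  have h1 := (pr2 X j k).ker.card_mul_index
  have h2 : Nat.card (pr2 X j k).ker ≤ Nat.card Bool :=
    Nat.card_le_card_of_injective (fun x => decide (x.1.1 = 1)) fun x y c => by
      ext1; ext1
      rcases (h.ker_pr2 e _).1 x.2 with a | a <;> rcases (h.ker_pr2 e _).1 y.2 with b | b <;>
        simp_all
  rw [index_ker, h.card] at h1
  rw [Nat.card_prod, SL.card_Q8]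
  simp only [Nat.card_eq_fintype_card, Fintype.card_bool] at h1 h2 ⊢
  nlinarith

theorem exists_pr {j k : Fin 3} (hjk : j ≠ k) {b c : SL} (hb : b ∈ SL.Q8) (hc : c ∈ SL.Q8) :
    ∃ x : ↥(X ⊓ B8), x.1.m j = b ∧ x.1.m k = c :=
  let ⟨x, e⟩ := h.pr2_surj hjk (⟨b, hb⟩, ⟨c, hc⟩)
  ⟨x, congrArg (·.1.1) e, congrArg (·.2.1) e⟩

theorem r_comm (i : Fin 3) : ∃ x y : ↥(X ⊓ B8), (x * y * x⁻¹ * y⁻¹).1 = r i := by
  obtain ⟨j, k, a, b, e⟩ : ∃ j k : Fin 3, i ≠ j ∧ i ≠ k ∧ ∀ l, l ≠ i → l = j ∨ l = k := by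
    revert i; decide
  obtain ⟨x, x1, x2⟩ := h.exists_pr a (b := qi) (by decide +kernel) (one_mem _)
  obtain ⟨y, y1, y2⟩ := h.exists_pr b (b := qj) (by decide +kernel) (one_mem _)
  refine ⟨x, y, (eq_sg (i := i) (x * y * x⁻¹ * y⁻¹).2.2.1 fun l hl => ?_).trans ?_⟩
  · rcases e l hl with rfl | rfl <;> simp [x.2.2.1, y.2.2.1, x2, y2]
  · rw [Wr.r]; congr 1
    simp only [coe_mul, coe_inv, mul_m, inv_m, mul_s, inv_s, x.2.2.1, y.2.2.1, inv_one, mul_one,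
      Equiv.Perm.one_apply, x1, y1]
    decide +kernel

omit h in
theorem sq_eq {x w : Wr} (hx : x ∈ B8) (ws : w.s = 1)
    (e : ∀ l, (x.m l = 1 ∧ w.m l = 1) ∨ (¬ (x.m l = 1 ∨ x.m l = SL.ng) ∧ w.m l = SL.ng)) :
    x * x = w := by
  refine Wr.ext (by simp [hx.1, ws]) (funext fun l => ?_)
  rcases e l with c | c
  · simp [hx.1, c]
  · simp [hx.1, c.2, sl_sq _ (hx.2 l) c.1]

theorem q8_two {j k : Fin 3} (hjk : j ≠ k) : ∃ x y : ↥(X ⊓ B8), (x * x).1 = r j * r k ∧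
    (y * y).1 = r j * r k ∧ (x * y * (x * y)).1 = r j * r k := by
  obtain ⟨i, a, b, e⟩ : ∃ i : Fin 3, j ≠ i ∧ k ≠ i ∧ ∀ l, l = i ∨ l = j ∨ l = k := by
    revert j k; decide
  have key : ∀ x : ↥(X ⊓ B8), x.1.m i = 1 → ¬ (x.1.m j = 1 ∨ x.1.m j = SL.ng) →
      x.1 * x.1 = r j * r k := fun x x1 x2 => sq_eq x.2.2 (by simp [Wr.r]) fun l => by
    rcases e l with rfl | rfl | rfl
    · exact Or.inl ⟨x1, by simp [Wr.r, sg_m, Pi.mulSingle_eq_of_ne a.symm,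
        Pi.mulSingle_eq_of_ne b.symm]⟩
    · exact Or.inr ⟨x2, by simp [Wr.r, sg_m, Pi.mulSingle_eq_of_ne hjk]⟩
    · refine Or.inr ⟨fun c => x2 (h.single' x.2.1 x.2.2.1 fun m hm => ?_),
        by simp [Wr.r, sg_m, Pi.mulSingle_eq_of_ne hjk.symm]⟩
      rcases e m with rfl | rfl | rfl
      exacts [Or.inl x1, absurd rfl hm, c]
  obtain ⟨x, x1, x2⟩ := h.exists_pr a (b := qi) (by decide +kernel) (one_mem _)
  obtain ⟨y, y1, y2⟩ := h.exists_pr a (b := qj) (by decide +kernel) (one_mem _)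
  refine ⟨x, y, key x x2 (by rw [x1]; decide +kernel), key y y2 (by rw [y1]; decide +kernel),
    key (x * y) (by simp [x.2.2.1, x2, y2]) ?_⟩
  simp only [coe_mul, mul_m, x.2.2.1, inv_one, Equiv.Perm.one_apply, x1, y1]
  decide +kernel

theorem q8_three : ∃ x y : ↥(X ⊓ B8), (x * x).1 = r 0 * r 1 * r 2 ∧
    (y * y).1 = r 0 * r 1 * r 2 ∧ (x * y * (x * y)).1 = r 0 * r 1 * r 2 := by
  have key : ∀ x : ↥(X ⊓ B8), (∀ l, ¬ (x.1.m l = 1 ∨ x.1.m l = SL.ng)) →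
      x.1 * x.1 = r 0 * r 1 * r 2 := fun x x1 => sq_eq x.2.2 (by simp [Wr.r]) fun l =>
    Or.inr ⟨x1 l, by fin_cases l <;> simp [Wr.r, sg_m]⟩
  obtain ⟨x, hx⟩ : ∃ x : ↥(X ⊓ B8), ∀ l, ¬ (x.1.m l = 1 ∨ x.1.m l = SL.ng) := by
    obtain ⟨x, x1, x2⟩ := h.exists_pr (j := 0) (k := 1) (by decide) (b := qi) (c := qi)
      (by decide +kernel) (by decide +kernel)
    obtain ⟨y, y1, y2⟩ := h.exists_pr (j := 0) (k := 1) (by decide) (b := qi) (c := qj)
      (by decide +kernel) (by decide +kernel)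
    by_cases c : x.1.m 2 = 1 ∨ x.1.m 2 = SL.ng
    · refine ⟨y, fun l => ?_⟩
      fin_cases l
      · exact y1 ▸ by decide +kernel
      · exact y2 ▸ by decide +kernel
      · intro c'
        have := h.single' (i := 1) (x⁻¹ * y).2.1 (x⁻¹ * y).2.2.1 fun l hl => by
          fin_cases l
          · simp [x.2.2.1, x1, y1]
          · exact absurd rfl hl
          · simp only [coe_mul, coe_inv, mul_m, inv_m, inv_s, x.2.2.1, inv_one,
              Equiv.Perm.one_apply]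
            change _ = 1 ∨ _ = SL.ng at c'
            rcases c with c | c <;> rcases c' with c' | c' <;> erw [c, c'] <;> decide +kernel
        simp only [coe_mul, coe_inv, mul_m, inv_m, inv_s, x.2.2.1, inv_one, Equiv.Perm.one_apply,
          x2, y2] at this
        revert this
        decide +kernel
    · refine ⟨x, fun l => ?_⟩
      fin_cases l
      exacts [x1 ▸ by decide +kernel, x2 ▸ by decide +kernel, c]
  let y : ↥(X ⊓ B8) := ⟨d * x * d⁻¹, X.mul_mem (X.mul_mem h.dX x.2.1) (X.inv_mem h.dX),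
    Normal.conj_mem inferInstance _ x.2.2 _⟩
  have h1 := fun l => sl_rot _ _ (x.2.2.2 l) (hx l) (m_cube h.d3 h.ds l) (h.dm l)
  exact ⟨x, y, key x hx, key y fun l => by simpa [y, h.ds, x.2.2.1] using (h1 l).1,
    key (x * y) fun l => by simpa [y, h.ds, x.2.2.1] using (h1 l).2⟩

theorem norm_mem {x : Wr} (hx : x ∈ B8) :
    x * (d * x * d⁻¹) * (d⁻¹ * x * d) ∈ closure (Set.range Wr.r) := by
  have h1 : ∀ l, sg l ((x * (d * x * d⁻¹) * (d⁻¹ * x * d)).m l) ∈ closure (Set.range Wr.r) :=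
    fun l => by
      have := sl_norm _ _ (hx.2 l) (m_cube h.d3 h.ds l) (h.dm l)
      rw [show (x * (d * x * d⁻¹) * (d⁻¹ * x * d)).m l = x.m l * (d.m l * x.m l * (d.m l)⁻¹) *
        ((d.m l)⁻¹ * x.m l * d.m l) by simp [hx.1, h.ds]]
      rcases this with c | c <;> rw [c]
      exacts [map_one (sg l) ▸ one_mem _, subset_closure ⟨l, rfl⟩]
  rw [eq_prod (x := x * _ * _) (by simp [hx.1, h.ds])]
  exact mul_mem (mul_mem (h1 0) (h1 1)) (h1 2)

end XF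

end Cfsg.Agent.F22L
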