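import Mathlib
import Cfsg.Agent.F22L.XD

/-! A group element of order three whose centralizer is given in coordinates. -/

set_option autoImplicit false

namespace Cfsg.Agent.F22L

open Subgroup Wr

/-- The form as a bilinear map. -/
def omB : LinearMap.BilinForm F3 V :=
  LinearMap.mk₂ F3 om om_add_left om_smul_left om_add_right om_smul_right

theorem iso_le (W : AddSubgroup V) (h : ∀ v ∈ W, ∀ w ∈ W, om v w = 0) : Nat.card W ≤ 27 := by
  let S : Submodule F3 V := AddSubgroup.toZModSubmodule 3 W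
  have h1 : omB.Nondegenerate :=
    ⟨fun v hv => om_nondeg hv, fun v hv => om_nondeg fun w => by
      rw [om_swap, neg_eq_zero]; exact hv w⟩
  have h2 := LinearMap.BilinForm.finrank_orthogonal h1 S
  have h3 := Submodule.finrank_mono (show S ≤ omB.orthogonal S from fun v hv w hw => h w hw v hv)
  have h4 : Module.finrank F3 V = 6 := by simp [V, W2, Module.finrank_pi_fintype]
  have h5 : Nat.card S = 3 ^ Module.finrank F3 S := by
    rw [Module.natCard_eq_pow_finrank (K := F3)]; simp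
  calc Nat.card W = 3 ^ Module.finrank F3 S := h5
    _ ≤ 3 ^ 3 := Nat.pow_le_pow_right (by norm_num) (by omega)

/-- The preimage of a subspace. -/
def pre (W : AddSubgroup V) : Subgroup Hs where
  carrier := {x | x.v ∈ W}
  one_mem' := W.zero_mem
  mul_mem' := fun ha hb => W.add_mem ha hb
  inv_mem' := fun ha => W.neg_mem ha

theorem mem_pre {W : AddSubgroup V} {x : Hs} : x ∈ pre W ↔ x.v ∈ W := Iff.rfl

instance (W : AddSubgroup V) : (pre W).Normal := ⟨fun n hn g => by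
  simpa [mem_pre] using hn⟩

theorem card_pre (W : AddSubgroup V) : Nat.card (pre W) = 3 * Nat.card W := by
  rw [Nat.card_congr (⟨fun x => (x.1.c, ⟨x.1.v, x.2⟩), fun p => ⟨⟨p.2, p.1⟩, p.2.2⟩, fun _ => rfl,
    fun _ => rfl⟩ : pre W ≃ F3 × W)]
  simp

theorem Hs.card_comm (A : Subgroup Hs) (h : ∀ a ∈ A, ∀ b ∈ A, Commute a b) : Nat.card A ≤ 81 := by
  let W : AddSubgroup V :=
    { carrier := {v | ∃ a ∈ A, a.v = v}
      zero_mem' := ⟨1, A.one_mem, rfl⟩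
      add_mem' := by rintro _ _ ⟨a, ha, rfl⟩ ⟨b, hb, rfl⟩; exact ⟨_, A.mul_mem ha hb, rfl⟩
      neg_mem' := by rintro _ ⟨a, ha, rfl⟩; exact ⟨_, A.inv_mem ha, rfl⟩ }
  have h1 := iso_le W (by
    rintro _ ⟨a, ha, rfl⟩ _ ⟨b, hb, rfl⟩; exact Hs.commute_iff.1 (h a ha b hb))
  have h2 := card_le_of_le (show A ≤ pre W from fun a ha => ⟨a, ha, rfl⟩)
  rw [card_pre] at h2
  omega

/-- The span of the three fixed vectors of a base element. -/
def L0 (g : Wr) : AddSubgroup V where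
  carrier := {v | ∀ i, ∃ c : F3, v i = c • SL.fx (g.m i)}
  zero_mem' := fun _ => ⟨0, by simp⟩
  add_mem' := fun ha hb i => by
    obtain ⟨a, e⟩ := ha i
    obtain ⟨b, e'⟩ := hb i
    exact ⟨a + b, by rw [Pi.add_apply, e, e', add_smul]⟩
  neg_mem' := fun ha i => by
    obtain ⟨a, e⟩ := ha i
    exact ⟨-a, by rw [Pi.neg_apply, e, neg_smul]⟩

theorem card_L0 (g : Wr) : Nat.card (L0 g) = 27 := by
  rw [← Nat.card_eq_of_bijective (fun c : Fin 3 → F3 =>
    (⟨fun i => c i • SL.fx (g.m i), fun i => ⟨c i, rfl⟩⟩ : L0 g)) ⟨fun a b e => funext fun i =>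
      smul_left_injective F3 (SL.fx_ne _) (congrFun (congrArg Subtype.val e) i), fun v => by
        choose c hc using v.2
        exact ⟨c, Subtype.ext (funext fun i => (hc i).symm)⟩⟩]
  simp

theorem single_L0 (g : Wr) (i : Fin 3) (c : F3) : Pi.single i (c • SL.fx (g.m i)) ∈ L0 g :=
  fun j => by
    by_cases e : j = i
    · subst e; exact ⟨c, by simp⟩
    · exact ⟨0, by simp [e]⟩

theorem single_mem {g : Wr} {v : V} (h : v ∈ L0 g) (i : Fin 3) : Pi.single i (v i) ∈ L0 g := by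
  obtain ⟨c, e⟩ := h i
  rw [e]; exact single_L0 g i c

theorem om_L0 {g : Wr} {v w : V} (hv : v ∈ L0 g) (hw : w ∈ L0 g) : om v w = 0 :=
  Finset.sum_eq_zero fun i _ => by
    obtain ⟨a, e⟩ := hv i
    obtain ⟨b, e'⟩ := hw i
    simp [e, e', o2_smul_left, o2_smul_right]

theorem L0_perp {g : Wr} {v : V} (h : ∀ w ∈ L0 g, om w v = 0) : v ∈ L0 g := fun i =>
  o2_par _ _ (SL.fx_ne _) (by
    have := h _ (single_L0 g i 1)
    rwa [om_single_left, one_smul] at this)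

theorem smul_L0 {g : Wr} (gs : g.s = 1) (g3 : g ^ 3 = 1) {v : V} (h : v ∈ L0 g) : g • v = v :=
  funext fun i => by
    obtain ⟨c, e⟩ := h i
    rw [base_smul gs, e]
    exact (map_f3 (DistribSMul.toAddMonoidHom W2 (g.m i)) c _).trans
      (congrArg _ (SL.smul_fx _ (m_cube g3 gs i)))

theorem sub_L0 {g : Wr} (gs : g.s = 1) (g3 : g ^ 3 = 1) (v : V) : v - g • v ∈ L0 g := fun i => by
  rw [Pi.sub_apply, base_smul gs]; exact SL.sub_mem _ (m_cube g3 gs i) _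

theorem fix_L0 {g : Wr} (gs : g.s = 1) (g3 : g ^ 3 = 1) (f : ∀ i, g.m i ≠ 1) {v : V}
    (h : g • v = v) : v ∈ L0 g := fun i =>
  (SL.fix_iff _ (m_cube g3 gs i) (f i) _).1 (by rw [← base_smul gs, h])

theorem exists_sub_L0 {g : Wr} (gs : g.s = 1) (g3 : g ^ 3 = 1) {w : V} (h : w ∈ L0 g)
    (f : ∀ i, g.m i = 1 → w i = 0) : ∃ v, v - g • v = w ∧ ∀ i, w i = 0 → v i = 0 := by
  have : ∀ i, ∃ a : W2, a - g.m i • a = w i ∧ (w i = 0 → a = 0) := fun i => by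
    by_cases c : w i = 0
    · exact ⟨0, by simp [c], fun _ => rfl⟩
    · obtain ⟨k, e⟩ := h i
      obtain ⟨a, ha⟩ := SL.exists_sub _ (m_cube g3 gs i) (fun c' => c (f i c')) k
      exact ⟨a, ha.trans e.symm, fun c' => absurd c' c⟩
  choose a ha using this
  exact ⟨a, funext fun i => by rw [Pi.sub_apply, base_smul gs, (ha i).1], fun i => (ha i).2⟩

theorem base_of_fix {g x : Wr} (h : ∀ v ∈ L0 g, x • v = v) : x.s = 1 ∧ x ^ 3 = 1 := by
  have h1 := fun i => s_eq_of_single (smul_ne_zero one_ne_zero (SL.fx_ne _))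
    (h _ (single_L0 g i 1))
  have h2 : x.s = 1 := Equiv.ext fun i => (h1 i).1
  refine ⟨h2, Wr.ext (by rw [pow_s, h2]; simp) (funext fun i => ?_)⟩
  rw [pow_m h2]
  exact SL.cube_of_fix _ _ (smul_ne_zero one_ne_zero (SL.fx_ne _)) (h1 i).2

/-- The fixed vectors. -/
def Fx (g : Wr) : AddSubgroup V where
  carrier := {v | g • v = v}
  zero_mem' := smul_zero g
  add_mem' := fun {a b} ha hb => by
    change g • _ = _ at ha hb ⊢; rw [smul_add, ha, hb]
  neg_mem' := fun {a} ha => by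
    change g • _ = _ at ha ⊢; rw [smul_neg, ha]

theorem mem_Fx {g : Wr} {v : V} : v ∈ Fx g ↔ g • v = v := Iff.rfl

theorem om_fix {g : Wr} {f : V} (h : g • f = f) (v : V) : om (v - g • v) f = 0 := by
  rw [om_sub_left, sub_eq_zero, ← om_smul g v f, h]

theorem der_ext {g : Wr} (hs : ∀ i, g.s i ≠ i) {v w : V} (hv : g • v = v) (hw : g • w = w)
    {i : Fin 3} (e : v i = w i) : v = w := by
  refine funext (all_of_der (P := fun i => v i = w i) hs (fun j c => ?_) e)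
  rw [← hv, ← hw, smul_apply, smul_apply]
  simp [c]

theorem card_Fx {g : Wr} (hs : ∀ i, g.s i ≠ i) : Nat.card (Fx g) ≤ 9 := by
  have := Nat.card_le_card_of_injective (fun v : Fx g => v.1 0)
    fun v w e => Subtype.ext (der_ext hs v.2 w.2 e)
  simpa using this

theorem norm_fix {g : Wr} (g3 : g ^ 3 = 1) (v : V) :
    g • (v + g • v + g • g • v) = v + g • v + g • g • v := by
  have : g • g • g • v = v := by
    rw [← mul_smul, ← mul_smul, ← pow_three', g3, one_smul]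
  simp only [smul_add, this]; abel

theorem norm_single {g : Wr} (hs : ∀ i, g.s i ≠ i) (i : Fin 3) (a : W2) :
    ((Pi.single i a : V) + g • (Pi.single i a : V) + g • g • (Pi.single i a : V)) i = a := by
  have : g.s (g.s i) ≠ i := fun c => hs i (by
    have := perm_der3 _ hs i
    rwa [c] at this)
  simp [smul_single, (hs i).symm, this.symm]

theorem exists_norm {g : Wr} (hs : ∀ i, g.s i ≠ i) (g3 : g ^ 3 = 1) {f : V} (h : g • f = f) :
    ∃ v, v + g • v + g • g • v = f :=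
  ⟨_, der_ext hs (norm_fix g3 _) h (norm_single hs 0 (f 0))⟩

variable {G : Type*} [Group G]

/-- The centralizer of `z` in coordinates. -/
structure HS (z : G) (ψ : Hs →* G) (ρ : G → Wr) (l : G → V →+ F3) (X : Subgroup Wr) : Prop where
  inj : Function.Injective ψ
  zz : ψ ⟨0, 1⟩ = z
  act : ∀ h, Commute h z → ∀ x, h * ψ x * h⁻¹ = ψ ⟨ρ h • x.v, x.c + l h x.v⟩
  ker : ∀ h, Commute h z → ρ h = 1 → h ∈ ψ.range
  memX : ∀ x, x ∈ X ↔ ∃ h, Commute h z ∧ ρ h = x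

namespace HS

variable {z : G} {ψ : Hs →* G} {ρ : G → Wr} {l : G → V →+ F3} {X : Subgroup Wr}
  (h : HS z ψ ρ l X)
include h

theorem cψ (x : Hs) : Commute (ψ x) z := by
  rw [← h.zz]
  exact ((Hs.commute_iff (x := x) (y := ⟨0, 1⟩)).2 (om_zero_right x.v)).map ψ

theorem zmem : z ∈ ψ.range := ⟨_, h.zz⟩

theorem z3 : z ^ 3 = 1 := by rw [← h.zz, ← map_pow, Hs.cube, map_one]

theorem z1 : z ≠ 1 := fun c => by
  have := h.inj (h.zz.trans (c.trans (map_one ψ).symm))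
  exact absurd (congrArg Hs.c this) (by decide)

theorem ord : orderOf z = 3 := have := Fact.mk Nat.prime_three; orderOf_eq_prime h.z3 h.z1

theorem cen (c : F3) : ψ ⟨0, c⟩ = z ^ c.val := by
  rw [← h.zz, ← map_pow, Hs.pow_val]; simp

theorem mem_zp {x : Hs} : ψ x ∈ zpowers z ↔ x.v = 0 := by
  constructor
  · intro c
    rw [← h.zz, ← MonoidHom.map_zpowers, mem_map_iff_mem h.inj] at c
    exact zpowers_le_of_mem (H := pre ⊥) (mem_pre.2 (zero_mem _)) c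
  · intro c
    rw [show x = ⟨0, x.c⟩ from Hs.ext c rfl, h.cen]
    exact pow_mem (mem_zpowers z) _

theorem of_zp {a : G} (c : a ∈ zpowers z) : ∃ k, a = ψ ⟨0, k⟩ := by
  obtain ⟨x, rfl⟩ := zpowers_le_of_mem h.zmem c
  exact ⟨x.c, congrArg ψ (Hs.ext (h.mem_zp.1 c) rfl)⟩

theorem eq_of {a : G} (ha : Commute a z) {x : Wr} {f : V → F3}
    (e : ∀ v, a * ψ ⟨v, 0⟩ * a⁻¹ = ψ ⟨x • v, f v⟩) : ρ a = x ∧ ∀ v, l a v = f v := by
  have := fun v => h.inj ((h.act a ha ⟨v, 0⟩).symm.trans (e v))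
  exact ⟨ext_smul fun v => congrArg Hs.v (this v), fun v => by simpa using congrArg Hs.c (this v)⟩

theorem ρl_ψ (x : Hs) : ρ (ψ x) = 1 ∧ ∀ v, l (ψ x) v = -om x.v v := h.eq_of (h.cψ x) fun v => by
  rw [← map_inv, ← map_mul, ← map_mul, ← inv_mul_cancel_right (x * _ * x⁻¹) ⟨v, 0⟩, Hs.comm]
  simp [Hs.mk_mul]

theorem ρ_ψ (x : Hs) : ρ (ψ x) = 1 := (h.ρl_ψ x).1

theorem l_ψ (x : Hs) (v : V) : l (ψ x) v = -om x.v v := (h.ρl_ψ x).2 v

theorem ρl_mul {a b : G} (ha : Commute a z) (hb : Commute b z) :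
    ρ (a * b) = ρ a * ρ b ∧ ∀ v, l (a * b) v = l b v + l a (ρ b • v) :=
  h.eq_of (ha.mul_left hb) fun v => by
    rw [show a * b * ψ ⟨v, 0⟩ * (a * b)⁻¹ = a * (b * ψ ⟨v, 0⟩ * b⁻¹) * a⁻¹ by group, h.act b hb,
      h.act a ha]
    simp [mul_smul]

theorem ρ_mul {a b : G} (ha : Commute a z) (hb : Commute b z) : ρ (a * b) = ρ a * ρ b :=
  (h.ρl_mul ha hb).1

theorem l_mul {a b : G} (ha : Commute a z) (hb : Commute b z) (v : V) :
    l (a * b) v = l b v + l a (ρ b • v) := (h.ρl_mul ha hb).2 v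

/-- The action as a homomorphism. -/
def ρh : centralizer ({z} : Set G) →* Wr :=
  MonoidHom.mk' (fun a => ρ a) fun a b =>
    h.ρ_mul (mem_centralizer_singleton_iff.1 a.2) (mem_centralizer_singleton_iff.1 b.2)

/-- The action of a subgroup. -/
def ρs (A : Subgroup G) (hA : ∀ a ∈ A, Commute a z) : A →* Wr :=
  MonoidHom.mk' (fun a => ρ a) fun a b => h.ρ_mul (hA _ a.2) (hA _ b.2)

theorem ρ_one : ρ 1 = 1 := map_one h.ρh

theorem ρ_z : ρ z = 1 := h.zz ▸ h.ρ_ψ _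

theorem l_cen (c : F3) : l (ψ ⟨0, c⟩) = 0 := AddMonoidHom.ext fun v => by simp [h.l_ψ]

theorem l_one : l 1 = 0 := by simpa [Hs.mk_one] using h.l_cen 0

theorem ρ_inv {a : G} (ha : Commute a z) : ρ a⁻¹ = (ρ a)⁻¹ :=
  map_inv h.ρh ⟨a, mem_centralizer_singleton_iff.2 ha⟩

theorem ρ_pow {a : G} (ha : Commute a z) (n : ℕ) : ρ (a ^ n) = ρ a ^ n :=
  map_pow h.ρh ⟨a, mem_centralizer_singleton_iff.2 ha⟩ n

theorem ρ_mem {a : G} (ha : Commute a z) : ρ a ∈ X := (h.memX _).2 ⟨a, ha, rfl⟩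

theorem ρ_eq_one {a : G} (ha : Commute a z) : ρ a = 1 ↔ a ∈ ψ.range :=
  ⟨h.ker a ha, by rintro ⟨x, rfl⟩; exact h.ρ_ψ x⟩

theorem ρ_comm {a b : G} (ha : Commute a z) (hb : Commute b z) (c : Commute a b) :
    Commute (ρ a) (ρ b) := by
  rw [Commute, SemiconjBy, ← h.ρ_mul ha hb, ← h.ρ_mul hb ha, c.eq]

theorem conj_mem {a b : G} (ha : Commute a z) (hb : b ∈ ψ.range) : a * b * a⁻¹ ∈ ψ.range := by
  obtain ⟨x, rfl⟩ := hb
  exact ⟨_, (h.act a ha x).symm⟩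

theorem l0_mul {a b : G} (ha : Commute a z) (hb : Commute b z) (la : l a = 0) (lb : l b = 0) :
    l (a * b) = 0 := AddMonoidHom.ext fun v => by simp [h.l_mul ha hb, la, lb]

theorem l0_inv {a : G} (ha : Commute a z) (la : l a = 0) : l a⁻¹ = 0 :=
  AddMonoidHom.ext fun v => by
    simpa [h.l_one, la] using (h.l_mul ha ha.inv_left v).symm

/-- The complement of `Q/Z` in `H/Z`. -/
def H0 : Subgroup G where
  carrier := {a | Commute a z ∧ l a = 0}
  one_mem' := ⟨Commute.one_left z, h.l_one⟩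
  mul_mem' := fun ha hb => ⟨ha.1.mul_left hb.1, h.l0_mul ha.1 hb.1 ha.2 hb.2⟩
  inv_mem' := fun ha => ⟨ha.1.inv_left, h.l0_inv ha.1 ha.2⟩

theorem zp_of {a : G} (ha : a ∈ h.H0) (e : ρ a = 1) : a ∈ zpowers z := by
  obtain ⟨x, rfl⟩ := h.ker a ha.1 e
  exact h.mem_zp.2 (om_nondeg fun w => by simpa [ha.2] using (h.l_ψ x w).symm)

theorem zp_le : zpowers z ≤ h.H0 := zpowers_le_of_mem ⟨Commute.refl z, h.zz ▸ h.l_cen 1⟩

omit h in
theorem zp_comm {a b : G} (ha : Commute a z) (hb : b ∈ zpowers z) : Commute a b := by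
  obtain ⟨k, rfl⟩ := hb
  exact ha.zpow_right k

theorem exists_lift {x : Wr} (hx : x ∈ X) : ∃ a ∈ h.H0, ρ a = x := by
  obtain ⟨a, ha, rfl⟩ := (h.memX x).1 hx
  obtain ⟨u, hu⟩ := exists_dual (l a)
  refine ⟨a * ψ ⟨u, 0⟩, ⟨ha.mul_left (h.cψ _), AddMonoidHom.ext fun v => ?_⟩, ?_⟩
  · simp [h.l_mul ha (h.cψ _), h.l_ψ, h.ρ_ψ, hu]
  · rw [h.ρ_mul ha (h.cψ _), h.ρ_ψ, mul_one]

theorem act0 {a : G} (ha : a ∈ h.H0) (x : Hs) : a * ψ x * a⁻¹ = ψ ⟨ρ a • x.v, x.c⟩ := by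
  simp [h.act a ha.1, ha.2]

theorem commute_iff {a : G} (ha : Commute a z) {x : Hs} :
    Commute a (ψ x) ↔ ρ a • x.v = x.v ∧ l a x.v = 0 := by
  rw [Commute, SemiconjBy, ← mul_inv_eq_iff_eq_mul, h.act a ha, h.inj.eq_iff, Hs.ext_iff]
  simp

theorem conj_eq {y : G} (hy : Commute y z) (x : Hs) : ψ x * y * (ψ x)⁻¹ =
    ψ ⟨x.v - ρ y • x.v, -l y x.v - om x.v (ρ y • x.v)⟩ * y := by
  rw [show ψ x * y * (ψ x)⁻¹ = ψ x * (y * ψ x * y⁻¹)⁻¹ * y by group, h.act y hy, ← map_inv,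
    ← map_mul]
  congr 2
  ext1
  · simp [sub_eq_add_neg]
  · simp [om_neg_right]; ring

theorem cj (g : G) : HS (g * z * g⁻¹) ((MulAut.conj g).toMonoidHom.comp ψ)
    (fun a => ρ (g⁻¹ * a * g)) (fun a => l (g⁻¹ * a * g)) X := by
  have e : ∀ a, Commute a (g * z * g⁻¹) ↔ Commute (g⁻¹ * a * g) z := fun a => by
    constructor <;> intro c
    · simpa [mul_assoc] using c.map (MulAut.conj g⁻¹)
    · simpa [mul_assoc] using c.map (MulAut.conj g)
  refine ⟨(MulAut.conj g).injective.comp h.inj, by simp [h.zz], fun a ha x => ?_,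
    fun a ha c => ?_, fun x => ?_⟩
  · have := h.act _ ((e a).1 ha) x
    simp only [MulEquiv.toMonoidHom_eq_coe, MonoidHom.comp_apply, MonoidHom.coe_coe,
      MulAut.conj_apply, ← this]
    group
  · obtain ⟨x, hx⟩ := h.ker _ ((e a).1 ha) c
    exact ⟨x, by simp [hx, mul_assoc]⟩
  · rw [h.memX]
    exact ⟨fun ⟨a, ha, c⟩ => ⟨g * a * g⁻¹, (e _).2 (by simpa [mul_assoc] using ha),
      by simpa [mul_assoc] using c⟩, fun ⟨a, ha, c⟩ => ⟨_, (e a).1 ha, c⟩⟩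

omit h in
theorem pg_range : IsPGroup 3 ψ.range := Hs.isPGroup.of_surjective _ ψ.rangeRestrict_surjective

theorem card_map (A : Subgroup Hs) : Nat.card (A.map ψ) = Nat.card A :=
  card_map_of_injective h.inj

theorem card_comm (A : Subgroup G) (hA : A ≤ ψ.range) (c : ∀ a ∈ A, ∀ b ∈ A, Commute a b) :
    Nat.card A ≤ 81 := by
  rw [← map_comap_eq_self hA, h.card_map]
  exact Hs.card_comm _ fun a ha b hb => h.inj (by rw [map_mul, map_mul]; exact (c _ ha _ hb).eq)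

theorem ker_ρs (A : Subgroup G) (hA : ∀ a ∈ A, Commute a z) :
    Nat.card (h.ρs A hA).ker = Nat.card ↥(A ⊓ ψ.range) := by
  rw [show (h.ρs A hA).ker = (A ⊓ ψ.range).subgroupOf A from Subgroup.ext fun a => by
    rw [mem_subgroupOf, mem_inf, and_iff_right a.2]; exact h.ρ_eq_one (hA _ a.2)]
  exact Nat.card_congr (subgroupOfEquivOfLe inf_le_left).toEquiv

theorem pow_nine {a : G} (ha : Commute a z) (e : ρ a ^ 3 = 1) : a ^ 9 = 1 := by
  obtain ⟨x, hx⟩ := h.ker _ (ha.pow_left 3) ((h.ρ_pow ha 3).trans e)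
  rw [show 9 = 3 * 3 from rfl, pow_mul, ← hx, ← map_pow, Hs.cube, map_one]

variable [Finite G]

theorem card_le (xd : XD X) {A : Subgroup G} (p : IsPGroup 3 A) (hA : ∀ a ∈ A, Commute a z) :
    Nat.card A ≤ 9 * Nat.card ↥(A ⊓ ψ.range) :=
  h.ker_ρs A hA ▸ xd.card_le p (h.ρs A hA) fun a => h.ρ_mem (hA _ a.2)

theorem comm_mem (xd : XD X) {A : Subgroup G} (p : IsPGroup 3 A) (hA : ∀ a ∈ A, Commute a z)
    {a b : G} (ha : a ∈ A) (hb : b ∈ A) : a * b * a⁻¹ * b⁻¹ ∈ ψ.range := by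
  have := xd.comm p (h.ρs A hA) (fun a => h.ρ_mem (hA _ a.2)) ⟨a, ha⟩ ⟨b, hb⟩
  refine h.ker _ (hA _ (mul_mem (mul_mem (mul_mem ha hb) (inv_mem ha)) (inv_mem hb))) ?_
  have e := map_commutatorElement (h.ρs A hA) ⟨a, ha⟩ ⟨b, hb⟩
  rw [commutatorElement_eq_one_iff_commute.2 this] at e
  exact e

theorem exists_κ : ∃ κ : ↥(X ⊓ B8) →* G, ∀ x, κ x ∈ h.H0 ∧ ρ (κ x) = x := by
  have := Fact.mk Nat.prime_two
  let R : Subgroup G :=
    { carrier := {a | a ∈ h.H0 ∧ ρ a ∈ B8}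
      one_mem' := ⟨one_mem _, h.ρ_one ▸ one_mem _⟩
      mul_mem' := fun ha hb => ⟨mul_mem ha.1 hb.1, h.ρ_mul ha.1.1 hb.1.1 ▸ mul_mem ha.2 hb.2⟩
      inv_mem' := fun ha => ⟨inv_mem ha.1, h.ρ_inv ha.1.1 ▸ inv_mem ha.2⟩ }
  let f : R →* ↥(X ⊓ B8) :=
    (h.ρs R fun a ha => ha.1.1).codRestrict _ fun a => ⟨h.ρ_mem a.2.1.1, a.2.2⟩
  have hf : Function.Surjective f := fun x =>
    let ⟨a, ha, e⟩ := h.exists_lift x.2.1
    ⟨⟨a, ha, e ▸ x.2.2⟩, Subtype.ext e⟩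
  obtain ⟨P⟩ : Nonempty (Sylow 2 R) := inferInstance
  have h1 : P.1.map f = ⊤ := ((P.mapSurjective hf).3 (Q := ⊤)
    (fun x => ⟨2, Subtype.ext (Subtype.ext (pow_four x.1.2.2))⟩) le_top).symm
  have h2 : Function.Bijective (f.comp P.1.subtype) := by
    refine ⟨(injective_iff_map_eq_one _).2 fun a e => ?_, fun x => ?_⟩
    · obtain ⟨c, hc⟩ := h.of_zp (h.zp_of a.1.2.1 (congrArg Subtype.val e))
      obtain ⟨k, hk⟩ := P.2 a
      have h3 : a ^ 3 = 1 := Subtype.ext (Subtype.ext (by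
        simp only [SubmonoidClass.coe_pow, hc, ← map_pow, Hs.cube, map_one, OneMemClass.coe_one]))
      exact (pow_eq_one_iff_of_coprime (Nat.Coprime.pow_left k (by norm_num))).1 ⟨hk, h3⟩
    · obtain ⟨a, ha, e⟩ := h1.ge (mem_top x)
      exact ⟨⟨a, ha⟩, e⟩
  refine ⟨R.subtype.comp (P.1.subtype.comp (MulEquiv.ofBijective _ h2).symm), fun x => ?_⟩
  exact ⟨((MulEquiv.ofBijective _ h2).symm x).1.2.1,
    congrArg Subtype.val ((MulEquiv.ofBijective _ h2).apply_symm_apply x)⟩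

end HS

end Cfsg.Agent.F22L
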