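import Mathlib
import Cfsg.Agent.F22L.HS
import Cfsg.Agent.Loc3.Tools
import Cfsg.Agent.Grp.Extraspecial
import Cfsg.Agent.PLocal.FStar

/-! The centralizer of the lift of a reflection: the `3`-local structure of the quotient. -/

set_option autoImplicit false

namespace Cfsg.Agent.F22L

open Subgroup Wr Cfsg.Agent.PLocal.Amb

/-- The quaternion group in `SL₂(3)`. -/
def qf : QuaternionGroup 2 → SL
  | .a n => qi ^ n.val
  | .xa n => qj * qi ^ n.val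

theorem q8_equiv : Nonempty (SL.Q8 ≃* QuaternionGroup 2) :=
  ⟨(MulEquiv.ofBijective ((MonoidHom.mk' qf (by decide +kernel)).codRestrict SL.Q8
    (by decide +kernel)) ((Nat.bijective_iff_injective_and_card _).2 ⟨fun a b e => by
      have : ∀ a b, qf a = qf b → a = b := by decide +kernel
      exact this a b (congrArg Subtype.val e), by
      rw [SL.card_Q8, Nat.card_eq_fintype_card, QuaternionGroup.card]⟩)).symm⟩

theorem r_fix {i : Fin 3} {v : V} : r i • v = v ↔ v i = 0 := by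
  have e : ∀ a : W2, -a = a ↔ a = 0 := by decide +kernel
  refine ⟨fun c => (e _).1 (by simpa [r_smul] using congrFun c i), fun c => funext fun j => ?_⟩
  rw [r_smul]
  split_ifs with h
  · subst h; exact (e _).2 c
  · rfl

theorem r_m {i j : Fin 3} (h : j ≠ i) : (r i).m j = 1 := by
  rw [Wr.r, sg_m, Pi.mulSingle_eq_of_ne h]

theorem r_cube (i : Fin 3) : r i ^ 3 ≠ 1 := fun c => by
  rw [pow_three, r_sq, mul_one] at c
  have := congrFun (congrArg Wr.m c) i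
  rw [Wr.r, sg_m, Pi.mulSingle_eq_same] at this
  exact SL.ng_ne this

theorem s_fix {x : Wr} {i : Fin 3} (h : Commute x (r i)) : x.s i = i := by
  by_contra c
  have h1 := conj_r x i
  rw [h.eq, mul_inv_cancel_right] at h1
  have := congrFun (congrArg Wr.m h1) i
  rw [r_m (Ne.symm c), Wr.r, sg_m, Pi.mulSingle_eq_same] at this
  exact SL.ng_ne this

/-- The fixed vectors of a reflection. -/
def Wi (i : Fin 3) : AddSubgroup V := (Pi.evalAddMonoidHom (fun _ => W2) i).ker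

theorem mem_Wi {i : Fin 3} {v : V} : v ∈ Wi i ↔ v i = 0 := Iff.rfl

theorem card_Wi (i : Fin 3) : Nat.card (Wi i) = 81 := by
  have h1 := (Wi i).card_mul_index
  rw [Wi, AddSubgroup.index_ker, AddMonoidHom.range_eq_top.2
    fun a => ⟨Pi.single i a, Pi.single_eq_same _ _⟩, AddSubgroup.card_top] at h1
  simp only [Nat.card_eq_fintype_card, Fintype.card_pi, Fintype.card_prod, ZMod.card,
    Finset.prod_const, Finset.card_univ, Fintype.card_fin] at h1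
  rw [Wi, Nat.card_eq_fintype_card]
  omega

variable {G : Type*} [Group G]

/-- The setting. -/
structure Ct (z : G) (ψ : Hs →* G) (ρ : G → Wr) (l : G → V →+ F3) (X : Subgroup Wr) (t : Wr)
    (d : G) (κ : ↥(X ⊓ B8) →* G) (i : Fin 3) (s : G) {Y : Type*} [Group Y] (π : G → Y) : Prop where
  h : HS z ψ ρ l X
  hd : Commute d z ∧ l d = 0
  xf : XF X t (ρ d)
  hκ : ∀ x, (Commute (κ x) z ∧ l (κ x) = 0) ∧ ρ (κ x) = x
  supp : ∀ (g : G) (x : Hs), ψ x = g * z * g⁻¹ → x.v ≠ 0 → ∀ i, x.v i ≠ 0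
  hs : ∃ x : ↥(X ⊓ B8), x.1 = r i ∧ κ x = s
  q : Loc3.CQ s π

namespace Ct

variable {z : G} {ψ : Hs →* G} {ρ : G → Wr} {l : G → V →+ F3} {X : Subgroup Wr} {t : Wr} {d : G}
  {κ : ↥(X ⊓ B8) →* G} {i : Fin 3} {s : G} {Y : Type*} [Group Y] {π : G → Y}
  (c : Ct z ψ ρ l X t d κ i s π)
include c

theorem sz : Commute s z := let ⟨x, _, e⟩ := c.hs; e ▸ (c.hκ x).1.1

theorem ls : l s = 0 := let ⟨x, _, e⟩ := c.hs; e ▸ (c.hκ x).1.2

theorem ρs : ρ s = r i := let ⟨x, e', e⟩ := c.hs; e ▸ (c.hκ x).2.trans e'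

theorem s2 : s * s = 1 := by
  obtain ⟨x, e', e⟩ := c.hs
  rw [← e, ← map_mul, show x * x = 1 from Subtype.ext (by simp [e', r_sq]), map_one]

theorem s3 {a : G} (a3 : a ^ 3 = 1) (ha : Commute a z) : ρ a ≠ r i := fun e =>
  r_cube i (by rw [← e, ← c.h.ρ_pow ha, a3, c.h.ρ_one])

theorem cop : Nat.Coprime 3 (orderOf s) :=
  Nat.Coprime.coprime_dvd_right (orderOf_dvd_of_pow_eq_one (by rw [pow_two, c.s2])) (by norm_num :
    Nat.Coprime 3 2)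

theorem κs (x : ↥(X ⊓ B8)) : Commute (κ x) s := by
  obtain ⟨y, e', e⟩ := c.hs
  refine e ▸ Commute.map (Subtype.ext ?_) κ
  simpa [e'] using (Wr.r_comm (x := x) (i := i) (by rw [x.2.2.1]; rfl)).eq

theorem ψs {x : Hs} : Commute (ψ x) s ↔ x.v i = 0 := by
  rw [Commute.symm_iff, c.h.commute_iff c.sz, c.ρs, c.ls, r_fix]; simp

theorem comm_z {a : G} (ha : Commute a s) : Commute (π a) (π z) ↔ Commute a z :=
  ⟨fun e => c.q.comm_of_comm ha c.sz.symm e c.h.z3 c.cop, fun e => by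
    rw [Commute, SemiconjBy, ← c.q.mul ha c.sz.symm, ← c.q.mul c.sz.symm ha, e.eq]⟩

theorem mem_H {y : Y} : y ∈ 𝐂[zpowers (π z)] ↔ ∃ a, Commute a s ∧ Commute a z ∧ π a = y := by
  rw [centralizer_zpowers, Loc3.mem_cent]
  obtain ⟨a, ha, rfl⟩ := c.q.surj y
  exact ⟨fun e => ⟨a, ha, (c.comm_z ha).1 e, rfl⟩, fun ⟨b, hb, e, e'⟩ => e' ▸ (c.comm_z hb).2 e⟩

/-- The embedding of `C_Q(s)`. -/
def φ : pre (Wi i) →* Y := MonoidHom.mk' (fun x => π (ψ x)) fun x y => by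
  rw [coe_mul, map_mul, c.q.mul (c.ψs.2 x.2) (c.ψs.2 y.2)]

theorem mem_Q {y : Y} : y ∈ c.φ.range ↔ ∃ x : Hs, x.v i = 0 ∧ π (ψ x) = y :=
  ⟨fun ⟨x, e⟩ => ⟨x, x.2, e⟩, fun ⟨x, hx, e⟩ => ⟨⟨x, hx⟩, e⟩⟩

theorem mem_Q' {a : G} (ha : Commute a s) (hz : Commute a z) :
    π a ∈ c.φ.range ↔ ρ a = 1 ∨ ρ a = r i := by
  rw [c.mem_Q]
  constructor
  · rintro ⟨x, hx, e⟩
    rcases (c.q.eq_iff_two c.s2 ha (c.ψs.2 hx)).1 e.symm with rfl | rfl
    · exact .inl (c.h.ρ_ψ x)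
    · exact .inr (by rw [c.h.ρ_mul (c.h.cψ x) c.sz, c.h.ρ_ψ, one_mul, c.ρs])
  · rintro (e | e)
    · obtain ⟨x, rfl⟩ := c.h.ker a hz e
      exact ⟨x, c.ψs.1 ha, rfl⟩
    · obtain ⟨x, hx⟩ := c.h.ker (a * s) (hz.mul_left c.sz) (by rw [c.h.ρ_mul hz c.sz, e, c.ρs, r_sq])
      exact ⟨x, c.ψs.1 (hx ▸ ha.mul_left (Commute.refl s)), by
        rw [hx, c.q.mul ha (Commute.refl s), c.q.map_s, mul_one]⟩

theorem eq_ψ {a : G} (ha : Commute a s) (a3 : a ^ 3 = 1) {x : Hs} (hx : x.v i = 0)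
    (e : π a = π (ψ x)) : a = ψ x := by
  refine ((c.q.eq_iff_two c.s2 ha (c.ψs.2 hx)).1 e).resolve_right fun e' => ?_
  refine c.s3 a3 (e' ▸ (c.h.cψ x).mul_left c.sz) ?_
  rw [e', c.h.ρ_mul (c.h.cψ x) c.sz, c.h.ρ_ψ, one_mul, c.ρs]

theorem ψ3 (x : Hs) : ψ x ^ 3 = 1 := by rw [← map_pow, Hs.cube, map_one]

theorem φ_inj : Function.Injective c.φ := fun x y e =>
  Subtype.ext (c.h.inj (c.eq_ψ (c.ψs.2 x.2) (c.ψ3 _) y.2 e))

theorem card_Q : Nat.card c.φ.range = 3 ^ 5 := by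
  rw [← Nat.card_congr (MonoidHom.ofInjective c.φ_inj).toEquiv, card_pre, card_Wi]; rfl

theorem Q_le : c.φ.range ≤ 𝐂[zpowers (π z)] := fun _ hy =>
  let ⟨x, hx, e⟩ := c.mem_Q.1 hy
  c.mem_H.2 ⟨_, c.ψs.2 hx, c.h.cψ x, e⟩

theorem norm_Q : 𝐂[zpowers (π z)] ≤ 𝐍[c.φ.range] := le_normalizer_iff_cj.2 fun y hy => by
  rw [cj_le_iff_forall]
  intro w hw
  obtain ⟨a, ha, hz, rfl⟩ := c.mem_H.1 hy
  obtain ⟨x, hx, rfl⟩ := c.mem_Q.1 hw
  have h1 := c.ψs.2 hx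
  rw [← c.q.map_conj ha h1]
  have h2 := (ha.mul_left h1).mul_left ha.inv_left
  rw [c.h.act a hz] at h2 ⊢
  exact c.mem_Q.2 ⟨_, c.ψs.1 h2, rfl⟩

theorem single {a : G} (hz : Commute a z) (as : (ρ a).s = 1) (h1 : ∀ j, j ≠ i → (ρ a).m j = 1) :
    ρ a = 1 ∨ ρ a = r i := by
  have h2 := eq_sg as h1
  rcases c.xf.single (c.h.ρ_mem hz) as h1 with e | e <;> rw [e] at h2
  exacts [.inl (h2.trans (map_one _)), .inr h2]

theorem cent {a : G} (h1 : ∀ x : Hs, x.v i = 0 → Commute a (ψ x)) :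
    Commute a z ∧ (ρ a = 1 ∨ ρ a = r i) := by
  have hz : Commute a z := c.h.zz ▸ h1 ⟨0, 1⟩ rfl
  have h2 : ∀ j, j ≠ i → ∀ b : W2, ρ a • (Pi.single j b : V) = Pi.single j b := fun j hj b =>
    ((c.h.commute_iff hz).1 (h1 ⟨Pi.single j b, 0⟩ (Pi.single_eq_of_ne hj.symm _))).1
  have h3 : ∀ (p : Equiv.Perm (Fin 3)) (i : Fin 3), (∀ j, j ≠ i → p j = j) → p = 1 := by decide
  have as := h3 _ i fun j hj => (s_eq_of_single (a := (1, 0)) (by decide) (h2 j hj _)).1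
  refine ⟨hz, c.single hz as fun j hj => SL.ext_smul _ _ fun b => ?_⟩
  simpa [base_smul as] using congrFun (h2 j hj b) j

theorem cent_Q : 𝐂[c.φ.range] ≤ c.φ.range := fun y hy => by
  obtain ⟨a, ha, rfl⟩ := c.q.surj y
  have := c.cent (a := a) fun x hx => c.q.comm_of_comm ha (c.ψs.2 hx)
    (hy _ (c.mem_Q.2 ⟨x, hx, rfl⟩)).symm (c.ψ3 x) c.cop
  exact (c.mem_Q' ha this.1).2 this.2

theorem three {a : G} (ha : Commute a s) (hz : Commute a z) {k : ℕ} (e : π a ^ 3 ^ k = 1) :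
    (ρ a).s = 1 ∧ ∀ j, j ≠ i → (ρ a).m j ^ 3 = 1 := by
  have h1 : ρ a ^ 3 ^ k = 1 ∨ ρ a ^ 3 ^ k = r i := by
    rw [← c.h.ρ_pow hz, ← c.mem_Q' (ha.pow_left _) (hz.pow_left _), c.q.map_pow ha, e]
    exact one_mem _
  have as : (ρ a).s = 1 := by
    refine (perm_cube _ (cube_of_pow (fun s h => perm_pow s ▸ h) (k := k) ?_)).resolve_right
      fun h => h i (s_fix (c.ρs ▸ c.h.ρ_comm hz c.sz ha))
    rw [← pow_s]
    rcases h1 with h1 | h1 <;> rw [h1] <;> rfl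
  refine ⟨as, fun j hj => cube_of_pow sl_pow (k := k) ?_⟩
  rw [← pow_m as]
  rcases h1 with h1 | h1 <;> rw [h1]
  exacts [rfl, r_m hj]

theorem zp {k : F3} : π (ψ ⟨0, k⟩) ∈ zpowers (π z) := by
  rw [c.h.cen, c.q.map_pow c.sz.symm]
  exact pow_mem (mem_zpowers _) _

theorem zQ : π z ∈ c.φ.range := c.mem_Q.2 ⟨⟨0, 1⟩, rfl, by rw [c.h.zz]⟩

theorem ord_z : orderOf (π z) = 3 := Loc3.orderOf_three
  (by rw [← c.q.map_pow c.sz.symm, c.h.z3, c.q.map_one]) fun e => c.h.z1 (by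
    simpa using c.eq_ψ c.sz.symm c.h.z3 (x := 1) rfl (by rw [e, map_one, c.q.map_one]))

theorem isES : Grp.ES.IsES 3 (π z) c.φ.range := by
  refine ⟨c.ord_z, c.zQ, fun y hy => (c.Q_le hy _ (mem_zpowers _)).symm, ?_, ?_⟩
  · rintro _ ⟨x, rfl⟩ _ ⟨y, rfl⟩
    rw [← map_commutatorElement]
    change π (ψ (x.1 * y.1 * x.1⁻¹ * y.1⁻¹)) ∈ _
    rw [Hs.comm]
    exact c.zp
  · rintro _ ⟨x, rfl⟩ hx
    have h1 : x.1.v = 0 := funext fun j => by
      by_cases hj : j = i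
      · exact hj ▸ x.2
      by_contra h2
      obtain ⟨b, hb⟩ := o2_ex _ h2
      let y : pre (Wi i) := ⟨⟨Pi.single j b, 0⟩, Pi.single_eq_of_ne (Ne.symm hj) _⟩
      have h3 : Commute x y := c.φ_inj (by rw [map_mul, map_mul]; exact (hx _ ⟨y, rfl⟩).eq)
      have h4 := Hs.commute_iff.1 (h3.map (pre (Wi i)).subtype)
      simp only [coe_subtype, y, om_single_right, hb] at h4
      exact absurd h4 (by decide)
    change π (ψ x.1) ∈ _
    rw [show x.1 = ⟨0, x.1.c⟩ from Hs.ext h1 rfl]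
    exact c.zp

variable [Finite Y]

theorem core : pCore 3 𝐂[zpowers (π z)] = c.φ.range.subgroupOf _ := by
  refine le_antisymm (fun y hy => ?_) (Grp.le_pCore (normal_subgroupOf' c.norm_Q)
    (isPGroup_subgroupOf c.isES.isPGroup _))
  have h1 : ∀ a (ha : Commute a s) (hz : Commute a z),
      ⟨π a, c.mem_H.2 ⟨a, ha, hz, rfl⟩⟩ ∈ pCore 3 𝐂[zpowers (π z)] →
        (ρ a).s = 1 ∧ ∀ j, j ≠ i → (ρ a).m j ^ 3 = 1 := fun a ha hz e => by
    obtain ⟨k, hk⟩ := isPGroup_iff.1 (Grp.pCore_isPGroup 3 _) _ e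
    exact c.three ha hz (congrArg Subtype.val hk)
  obtain ⟨y, hy'⟩ := y
  obtain ⟨a, ha, hz, rfl⟩ := c.mem_H.1 hy'
  obtain ⟨as, a3⟩ := h1 a ha hz hy
  refine (c.mem_Q' ha hz).2 (c.single hz as fun j hj => ?_)
  obtain ⟨x, x1, -⟩ := c.xf.exists_pr hj (b := qi) (by decide +kernel) (one_mem _)
  have xs := c.κs x
  have xz := (c.hκ x).1.1
  have h2 := h1 (a * (κ x * a⁻¹ * (κ x)⁻¹))
    (ha.mul_left ((xs.mul_left ha.inv_left).mul_left xs.inv_left))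
    (hz.mul_left ((xz.mul_left hz.inv_left).mul_left xz.inv_left)) (by
      convert mul_mem hy (Normal.conj_mem inferInstance _ (inv_mem hy)
        ⟨_, c.mem_H.2 ⟨_, xs, xz, rfl⟩⟩) using 1
      exact Subtype.ext (by
        simp only [c.q.mul ha ((xs.mul_left ha.inv_left).mul_left xs.inv_left),
          c.q.map_conj xs ha.inv_left, c.q.map_inv ha]; rfl))
  have h3 := h2.2 j hj
  rw [c.h.ρ_mul hz ((xz.mul_left hz.inv_left).mul_left xz.inv_left),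
    c.h.ρ_mul (xz.mul_left hz.inv_left) xz.inv_left, c.h.ρ_mul xz hz.inv_left, c.h.ρ_inv hz,
    c.h.ρ_inv xz, (c.hκ x).2] at h3
  simp only [mul_m, inv_m, mul_s, inv_s, as, x.2.2.1, inv_one, mul_one, Equiv.Perm.one_apply,
    x1] at h3
  have : ∀ u : SL, u ^ 3 = 1 → (u * (qi * u⁻¹ * qi⁻¹)) ^ 3 = 1 → u = 1 := by decide +kernel
  exact this _ (a3 j hj) h3

theorem fstar : generalizedFittingSubgroup 𝐂[zpowers (π z)] = c.φ.range.subgroupOf _ := by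
  have := Fact.mk Nat.prime_three
  rw [← c.core, PLocal.fstar_eq_pCore_iff, c.core]
  exact fun g hg => c.cent_Q fun y hy => congrArg Subtype.val (hg ⟨y, c.Q_le hy⟩ hy)

omit [Finite Y] in
theorem isES' : Grp.ES.IsES 3 (⟨π z, c.Q_le c.zQ⟩ : 𝐂[zpowers (π z)]) (c.φ.range.subgroupOf _) := by
  have e : ∀ a : 𝐂[zpowers (π z)], a.1 ∈ zpowers (π z) → a ∈ zpowers ⟨π z, c.Q_le c.zQ⟩ :=
    fun a ⟨k, hk⟩ => ⟨k, Subtype.ext hk⟩
  exact ⟨(orderOf_coe _).symm.trans c.ord_z, c.zQ, fun y hy => Subtype.ext (c.isES.central _ hy),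
    fun a ha b hb => e _ (c.isES.comm _ ha _ hb), fun a ha h => e _ (c.isES.center _ ha
      fun b hb => congrArg Subtype.val (h ⟨b, c.Q_le hb⟩ hb))⟩

omit [Finite Y] in
theorem card_Q' : Nat.card (c.φ.range.subgroupOf 𝐂[zpowers (π z)]) = 3 ^ 5 :=
  (Nat.card_congr (subgroupOfEquivOfLe c.Q_le).toEquiv).trans c.card_Q

theorem extra : IsExtraspecial 3 (c.φ.range.subgroupOf 𝐂[zpowers (π z)]) :=
  have := Fact.mk Nat.prime_three
  c.isES'.isExtraspecial fun e => by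
    have h1 := c.card_Q'
    rw [e, Nat.card_zpowers, c.isES'.ord] at h1
    norm_num at h1

omit [Finite Y] in
theorem center_eq : center (c.φ.range.subgroupOf 𝐂[zpowers (π z)]) =
    (center 𝐂[zpowers (π z)]).subgroupOf _ := by
  ext x
  rw [mem_subgroupOf, mem_center_iff, mem_center_iff]
  refine ⟨fun h g => ?_, fun h g => Subtype.ext (h g.1)⟩
  obtain ⟨k, e⟩ := c.isES'.center _ x.2 fun b hb => (congrArg Subtype.val (h ⟨b, hb⟩)).symm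
  exact Subtype.ext (g.2 _ ⟨k, congrArg Subtype.val e⟩).symm

omit [Finite Y] in
theorem exists_N : ∃ _ : (c.φ.range.subgroupOf 𝐂[zpowers (π z)]).Normal,
    ∃ N : Subgroup (𝐂[zpowers (π z)] ⧸ c.φ.range.subgroupOf 𝐂[zpowers (π z)]), N.Normal ∧
      Nonempty (N ≃* QuaternionGroup 2 × QuaternionGroup 2) := by
  have := normal_subgroupOf' c.norm_Q
  let f₀ : ↥(X ⊓ B8) →* 𝐂[zpowers (π z)] := MonoidHom.mk'
    (fun x => ⟨π (κ x), c.mem_H.2 ⟨_, c.κs x, (c.hκ x).1.1, rfl⟩⟩) fun x y =>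
      Subtype.ext (by simp only [map_mul, c.q.mul (c.κs x) (c.κs y)]; rfl)
  let f := (QuotientGroup.mk' (c.φ.range.subgroupOf 𝐂[zpowers (π z)])).comp f₀
  obtain ⟨j, k, hjk, e⟩ := (by decide :
    ∀ i : Fin 3, ∃ j k : Fin 3, j ≠ k ∧ ∀ m, m ≠ i ↔ m = j ∨ m = k) i
  have hk : f.ker = (XF.pr2 X j k).ker := Subgroup.ext fun x => by
    rw [MonoidHom.mem_ker, MonoidHom.mem_ker, c.xf.ker_pr2 e, ← (c.hκ x).2,
      ← c.mem_Q' (c.κs x) (c.hκ x).1.1]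
    exact QuotientGroup.eq_one_iff _
  obtain ⟨e8⟩ := q8_equiv
  refine ⟨this, f.range, ⟨?_⟩, ⟨(((QuotientGroup.quotientKerEquivRange f).symm.trans
    (QuotientGroup.quotientMulEquivOfEq hk)).trans (QuotientGroup.quotientKerEquivOfSurjective _
      (c.xf.pr2_surj hjk))).trans (e8.prodCongr e8)⟩⟩
  rintro _ ⟨x, rfl⟩ g
  obtain ⟨⟨g, hg⟩, rfl⟩ := QuotientGroup.mk'_surjective _ g
  obtain ⟨a, ha, hz, rfl⟩ := c.mem_H.1 hg
  let y : ↥(X ⊓ B8) := ⟨ρ a * x * (ρ a)⁻¹, X.mul_mem (X.mul_mem (c.h.ρ_mem hz) x.2.1)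
    (X.inv_mem (c.h.ρ_mem hz)), Normal.conj_mem inferInstance _ x.2.2 _⟩
  refine ⟨y, ?_⟩
  have xz := (c.hκ x).1.1
  have yz := (c.hκ y).1.1
  have h1 := (ha.mul_left (c.κs x)).mul_left ha.inv_left
  have h2 := (hz.mul_left xz).mul_left hz.inv_left
  have h3 := (c.mem_Q' ((c.κs y).inv_left.mul_left h1) (yz.inv_left.mul_left h2)).2 (.inl (by
    rw [c.h.ρ_mul yz.inv_left h2, c.h.ρ_mul (hz.mul_left xz) hz.inv_left, c.h.ρ_mul hz xz,
      c.h.ρ_inv hz, c.h.ρ_inv yz, (c.hκ x).2, (c.hκ y).2, inv_mul_cancel]))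
  rw [c.q.mul (c.κs y).inv_left h1, c.q.map_inv (c.κs y), c.q.map_conj ha (c.κs x)] at h3
  exact QuotientGroup.eq.2 h3

theorem wc : IsWeaklyClosed (zpowers (π z)) c.φ.range := by
  refine ⟨zpowers_le_of_mem c.zQ, fun y hy => cj_eq_iff.2 (mem_normalizer_of_cj_le ?_)⟩
  obtain ⟨a, ha, rfl⟩ := c.q.surj y
  obtain ⟨x, hx, e⟩ := c.mem_Q.1 (hy (conj_mem_cj _ (mem_zpowers _)))
  rw [← c.q.map_conj ha c.sz.symm] at e
  have h1 := c.eq_ψ ((ha.mul_left c.sz.symm).mul_left ha.inv_left)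
    (by rw [conj_pow, c.h.z3]; simp) hx e.symm
  have h2 : x.v = 0 := by_contra fun h => c.supp a x h1.symm h i hx
  rw [MonoidHom.map_zpowers, zpowers_le]
  change π a * π z * (π a)⁻¹ ∈ _
  rw [← c.q.map_conj ha c.sz.symm, ← e, show x = ⟨0, x.c⟩ from Hs.ext h2 rfl]
  exact c.zp

omit [Finite Y] in
theorem nwc {g : G} (gs : Commute g s) (gz : g * z * g⁻¹ = d) :
    ¬ IsWeaklyClosed (zpowers (π z)) 𝐂[zpowers (π z)] := fun h => by
  have ds : Commute d s := gz ▸ (gs.mul_left c.sz.symm).mul_left gs.inv_left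
  have h1 : cj(π g, zpowers (π z)) = zpowers (π d) := by
    rw [MonoidHom.map_zpowers, ← gz, c.q.map_conj gs c.sz.symm]; rfl
  have h2 := h.2 (π g) (h1 ▸ zpowers_le_of_mem (c.mem_H.2 ⟨d, ds, c.hd.1, rfl⟩))
  have h3 := zpowers_le_of_mem c.zQ ((h1.symm.trans h2).le (mem_zpowers _))
  rcases (c.mem_Q' ds c.hd.1).1 h3 with e | e
  exacts [c.xf.d1 e, r_cube i (e ▸ c.xf.d3)]

omit [Finite Y] in
theorem not_dvd [Finite G] : ¬ 3 ^ 7 ∣ Nat.card (centralizer ({s} : Set G)) := fun hd => by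
  have := Fact.mk Nat.prime_three
  obtain ⟨T, hT⟩ := exists_isSyl 3 (centralizer {s} ⊓ centralizer {z} : Subgroup G)
  have t1 : ∀ a ∈ T, Commute a s := fun a ha => Loc3.mem_cent.1 (hT.le ha).1
  have t2 : ∀ a ∈ T, Commute a z := fun a ha => Loc3.mem_cent.1 (hT.le ha).2
  have hQ : ∀ a, a ∈ (pre (Wi i)).map ψ ↔ a ∈ ψ.range ∧ Commute a s := fun a =>
    ⟨fun ⟨x, hx, e⟩ => ⟨⟨x, e⟩, e ▸ c.ψs.2 hx⟩, fun ⟨⟨x, e⟩, h⟩ => ⟨x, c.ψs.1 (e ▸ h), e⟩⟩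
  have h1 : (pre (Wi i)).map ψ ≤ T := hT.le_of_le_normalizer (HS.pg_range.to_le (map_le_range _ _))
    (by
      rintro _ ⟨x, hx, rfl⟩
      exact ⟨Loc3.mem_cent.2 (c.ψs.2 hx), Loc3.mem_cent.2 (c.h.cψ x)⟩)
    (le_normalizer_iff_cj.2 fun a ha => cj_le_iff_forall.2 fun b hb => (hQ _).2
      ⟨c.h.conj_mem (t2 a ha) ((hQ b).1 hb).1,
        ((t1 a ha).mul_left ((hQ b).1 hb).2).mul_left (t1 a ha).inv_left⟩)
  have h2 : ∀ a ∈ T, (ρ a).s = 1 ∧ ρ a ^ 3 = 1 := fun a ha => by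
    obtain ⟨k, hk⟩ := isPGroup_iff.1 hT.pgrp a ha
    have e : ρ a ^ 3 ^ k = 1 := by rw [← c.h.ρ_pow (t2 a ha), hk, c.h.ρ_one]
    have as := (s_cube e).resolve_right fun h =>
      h i (s_fix (c.ρs ▸ c.h.ρ_comm (t2 a ha) c.sz (t1 a ha)))
    exact ⟨as, base_cube e as⟩
  have h3 := three_le hT.pgrp (ev (c.h.ρs T t2) (fun a => (h2 a a.2).1) i) card_sl3
  have h4 : Nat.card (ev (c.h.ρs T t2) (fun a => (h2 a a.2).1) i).ker ≤
      Nat.card ((pre (Wi i)).map ψ) :=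
    Nat.card_le_card_of_injective (fun a => ⟨a.1.1, (hQ _).2 ⟨c.h.ker _ (t2 _ a.1.2) (by_contra
      fun e => c.xf.full c.xf.tX c.xf.ts (c.h.ρ_mem (t2 _ a.1.2)) (h2 _ a.1.2).1 (h2 _ a.1.2).2 e
        i a.2), t1 _ a.1.2⟩⟩) fun a b e => by ext; exact Subtype.mk.inj e
  have h5 : IsSyl 3 T (centralizer {s}) := by
    refine isSyl_of_isSyl_normalizer ⟨le_inf (hT.le.trans inf_le_left) le_normalizer, hT.pgrp,
      fun R hR h6 h7 => hT.max R hR h6 fun a ha => ⟨(h7 ha).1, ?_⟩⟩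
    have as := Loc3.mem_cent.1 (h7 ha).1
    have zT : z ∈ T := h1 ⟨⟨0, 1⟩, rfl, c.h.zz⟩
    have w3 : (a * z * a⁻¹) ^ 3 = 1 := by rw [conj_pow, c.h.z3]; simp
    obtain ⟨wz, hw⟩ := c.cent (a := a * z * a⁻¹) fun x hx => by
      simpa [mul_assoc] using Loc3.Commute.cj (t2 _ (inv_conj_mem_of_mem_normalizer (h7 ha).2
        (h1 ⟨x, hx, rfl⟩))).symm a
    obtain ⟨x, hx⟩ := c.h.ker _ wz (hw.resolve_right (c.s3 w3 wz))
    have h8 : x.v = 0 := by_contra fun h => c.supp a x hx h i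
      (c.ψs.1 (hx ▸ (as.mul_left c.sz.symm).mul_left as.inv_left))
    have h9 : a ^ 2 ∈ centralizer {z} := by
      refine Loc3.mem_cent.2 (Loc3.comm_of_conj ?_)
      rw [show a ^ 2 * z * (a ^ 2)⁻¹ = a * (a * z * a⁻¹) * a⁻¹ by rw [pow_two]; group]
      rcases (Loc3.mem_zpowers_three c.h.z3).1 (hx ▸ c.h.mem_zp.2 h8) with e | e | e
      · exact absurd (by simpa [mul_inv_eq_one] using e) c.h.z1
      · rw [e, e]
      · rw [e, ← conj_inv, e, inv_inv]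
    obtain ⟨k, hk⟩ := isPGroup_iff.1 hR a ha
    exact zpowers_le_of_mem h9 (mem_zpowers_pow_iff.2 (Nat.Coprime.coprime_dvd_right
      (orderOf_dvd_of_pow_eq_one hk) (Nat.Coprime.pow_right k (by norm_num))))
  have h6 := Nat.pow_le_pow_right (show 0 < 3 by norm_num)
    ((Nat.prime_three.pow_dvd_iff_le_factorization Nat.card_pos.ne').1 hd)
  rw [← h5.card_eq_pow] at h6
  rw [c.h.card_map, card_pre, card_Wi] at h4
  omega

end Ct

end Cfsg.Agent.F22L
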