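import Mathlib
import Cfsg.Prelude.Def_Transfer
import Cfsg.Prelude.Def_LocalStructure
import Cfsg.Agent.F22L.HS
import Cfsg.Agent.Loc3.Tools
import Cfsg.Agent.PLocal.FStar
import Cfsg.Agent.Grp.Extraspecial

/-! From the hypotheses of the `3`-local recognition theorem to coordinates. -/

set_option autoImplicit false

namespace Cfsg.Agent.F22L

open Subgroup Wr
open Cfsg.Agent.Loc3 Cfsg.Agent.PLocal.Amb
open Cfsg.Agent.Grp.ES (IsES)
open scoped commutatorElement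

theorem exists_conj_comm {G : Type*} [Group G] [Finite G] {z : G} (hz : orderOf z = 3)
    (S : Sylow 3 G) (hS : zpowers z ≤ S) (hn : ¬ IsWeaklyClosed (zpowers z) S) :
    ∃ g : G, Commute (g * z * g⁻¹) z ∧ g * z * g⁻¹ ∉ zpowers z := by
  have := Fact.mk Nat.prime_three
  have z3 : z ^ 3 = 1 := hz ▸ pow_orderOf_eq_one z
  by_cases h : (S : Subgroup G) ≤ centralizer {z}
  · obtain ⟨g, h1, h2⟩ : ∃ g : G, (zpowers z).map (MulAut.conj g).toMonoidHom ≤ S ∧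
        (zpowers z).map (MulAut.conj g).toMonoidHom ≠ zpowers z := by
      by_contra! h0
      exact hn ⟨hS, h0⟩
    refine ⟨g, mem_cent.1 (h (h1 ⟨z, mem_zpowers z, rfl⟩)), fun c => h2 (eq_of_le_of_card_ge ?_
      (card_map_of_injective (MulAut.conj g).injective).ge)⟩
    rw [MonoidHom.map_zpowers, zpowers_le]
    exact c
  · obtain ⟨g, ⟨g1, g2⟩, g3⟩ := SetLike.exists_of_lt (lt_inf_normalizer S.isPGroup'
      (R := S ⊓ centralizer {z}) (inf_lt_left.2 h))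
    refine ⟨g, mem_cent.1 (conj_mem_of_mem_normalizer g2
      ⟨hS (mem_zpowers z), mem_cent.2 (.refl z)⟩).2, fun c => g3 ⟨g1, mem_cent.2 ?_⟩⟩
    rcases (mem_zpowers_three z3).1 c with e | e | e
    · rw [show z = 1 by simpa using e]; exact .one_right g
    · exact comm_of_conj e
    · have c2 : Commute (g ^ 2) z := comm_of_conj (by
        rw [show g ^ 2 * z * (g ^ 2)⁻¹ = g * (g * z * g⁻¹) * g⁻¹ by rw [pow_two]; group, e,
          _root_.conj_inv.symm, e, inv_inv])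
      obtain ⟨k, hk⟩ := S.isPGroup' ⟨g, g1⟩
      obtain ⟨m, hm⟩ : Odd (3 ^ k) := Odd.pow (by decide)
      have e2 : (g ^ 2) ^ m * g = 1 := by
        rw [← pow_mul, ← pow_succ, ← hm]; exact congrArg Subtype.val hk
      rw [eq_inv_of_mul_eq_one_right e2]
      exact (c2.pow_left m).inv_left

namespace Mk

variable {K : Type*} [Group K]

theorem pw_add {x : K} (h : x ^ 3 = 1) (s t : F3) : x ^ (s + t).val = x ^ s.val * x ^ t.val := by
  rw [← pow_add, ZMod.val_add, ← pow_eq_pow_mod _ h]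

/-- one block -/
def blk (z a b : K) (v : W2) : K := a ^ v.1.val * b ^ v.2.val * z ^ (-(v.1 * v.2)).val

theorem blk_mul {z a b : K} (z3 : z ^ 3 = 1) (a3 : a ^ 3 = 1) (b3 : b ^ 3 = 1)
    (hz : ∀ g, Commute g z) (e : ⁅b, a⁆ = z) (v w : W2) :
    blk z a b v * blk z a b w = blk z a b (v + w) * z ^ (o2 v w).val := by
  have h1 : ⁅b ^ v.2.val, a ^ w.1.val⁆ = z ^ (v.2 * w.1).val := by
    have h2 := Grp.ES.comm_pow_right (a := b) (b := a) (e ▸ hz a) w.1.val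
    rw [Grp.ES.comm_pow_left (by rw [h2, e]; exact (hz b).pow_right _), h2, e, ← pow_mul,
      ZMod.val_mul, ← pow_eq_pow_mod _ z3, mul_comm]
  have h3 : b ^ v.2.val * a ^ w.1.val = a ^ w.1.val * b ^ v.2.val * z ^ (v.2 * w.1).val := by
    rw [((hz _).pow_right _).eq, ← h1, commutatorElement_def]; group
  rw [blk, blk, blk, ((hz _).pow_right _).symm.mul_mul_mul_comm, mul_assoc (a ^ _), ← mul_assoc (b ^ _),
    h3, mul_assoc _ (z ^ _), ← ((hz _).pow_right _).eq, Prod.fst_add, Prod.snd_add, pw_add a3,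
    pw_add b3]
  simp only [mul_assoc, ← pw_add z3]
  congr 6
  simp only [o2]
  linear_combination Hs.three (v.2 * w.1)

theorem exists_ψ [Finite K] {z : K} (z3 : z ^ 3 = 1) (z1 : z ≠ 1) (hz : ∀ g, Commute g z)
    {Q : Subgroup K} {R : Fin 3 → Subgroup K} (cQ : Nat.card Q = 3 ^ 7) (hR : ∀ i, R i ≤ Q)
    (zR : ∀ i, z ∈ R i) (cR : ∀ i, Nat.card (R i) = 27)
    (cm : ∀ i j, i ≠ j → ∀ a ∈ R i, ∀ b ∈ R j, Commute a b) (cu : ∀ i, ∀ a ∈ R i, a ^ 3 = 1)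
    (nc : ∀ i, ∃ a ∈ R i, ∃ b ∈ R i, ⁅b, a⁆ = z) :
    ∃ ψ : Hs →* K, Function.Injective ψ ∧ ψ.range = Q ∧ (∀ c, ψ ⟨0, c⟩ = z ^ c.val) ∧
      ∀ i q, q ∈ R i ↔ ∃ a c, q = ψ ⟨Pi.single i a, c⟩ := by
  choose a ha b hb e using nc
  let B : Fin 3 → W2 → K := fun i => blk z (a i) (b i)
  have m : ∀ i v, B i v ∈ R i := fun i v =>
    mul_mem (mul_mem (pow_mem (ha i) _) (pow_mem (hb i) _)) (pow_mem (zR i) _)
  have B0 : ∀ i, B i 0 = 1 := fun i => by simp [B, blk]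
  have Bm : ∀ i v w, B i v * B i w = B i (v + w) * z ^ (o2 v w).val := fun i =>
    blk_mul z3 (cu i _ (ha i)) (cu i _ (hb i)) hz (e i)
  have zc : ∀ (n : ℕ) g, Commute (z ^ n) g := fun n g => ((hz g).pow_right n).symm
  let ψ : Hs →* K := MonoidHom.mk'
    (fun x => B 0 (x.v 0) * (B 1 (x.v 1) * B 2 (x.v 2)) * z ^ x.c.val) fun x y => by
      rw [(zc _ _).mul_mul_mul_comm, ((cm 1 0 (by decide) _ (m _ _) _ (m _ _)).mul_left
        (cm 2 0 (by decide) _ (m _ _) _ (m _ _))).mul_mul_mul_comm,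
        (cm 2 1 (by decide) _ (m _ _) _ (m _ _)).mul_mul_mul_comm, Bm, Bm, Bm,
        (zc _ (B 2 _)).mul_mul_mul_comm, (zc _ (B 1 _ * B 2 _)).mul_mul_mul_comm]
      simp only [mul_assoc, ← pw_add z3, Hs.mul_v, Hs.mul_c, Pi.add_apply, om, Fin.sum_univ_three]
      congr 5
      ring
  have h0 : ∀ c, ψ ⟨0, c⟩ = z ^ c.val := fun c => by simp [ψ, B0]
  have h1 : ∀ i a c, ψ ⟨Pi.single i a, c⟩ ∈ R i := fun i a c => by
    have : ψ ⟨Pi.single i a, c⟩ = B i a * z ^ c.val := by fin_cases i <;> simp [ψ, B0]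
    exact this ▸ mul_mem (m i a) (pow_mem (zR i) _)
  have hz' : ∀ c : F3, z ^ c.val = 1 → c = 0 := fun c h => by
    rw [← orderOf_dvd_iff_pow_eq_one, orderOf_three z3 z1] at h
    revert c; decide
  have inj : Function.Injective ψ := (injective_iff_map_eq_one ψ).2 fun x hx => by
    have h2 : x.v = 0 := by_contra fun c => by
      obtain ⟨w, hw⟩ := exists_om c
      have := congrArg ψ (Hs.comm x ⟨w, 0⟩)
      rw [h0, hw] at this
      simp only [map_mul, map_inv, hx, one_mul, inv_one, mul_one, mul_inv_cancel] at this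
      exact absurd (hz' _ this.symm) (by decide)
    rw [show x = ⟨0, x.c⟩ from Hs.ext h2 rfl] at hx ⊢
    rw [hz' _ ((h0 _).symm.trans hx)]; rfl
  refine ⟨ψ, inj, eq_of_le_of_card_ge ?_ ?_, h0, fun i q => ⟨fun hq => ?_, ?_⟩⟩
  · rintro _ ⟨x, rfl⟩
    exact mul_mem (mul_mem (hR 0 (m _ _)) (mul_mem (hR 1 (m _ _)) (hR 2 (m _ _))))
      (pow_mem (hR 0 (zR 0)) _)
  · rw [cQ, ← Hs.card, Nat.card_congr (MonoidHom.ofInjective inj).toEquiv]
  · obtain ⟨x, hx⟩ := ((Nat.bijective_iff_injective_and_card (fun x : W2 × F3 =>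
      (⟨_, h1 i x.1 x.2⟩ : R i))).2 ⟨fun x y e => by
        have := inj (Subtype.mk.inj e)
        exact Prod.ext (Pi.single_injective i (congrArg Hs.v this)) (congrArg Hs.c this),
        by simp [cR]⟩).2 ⟨q, hq⟩
    exact ⟨_, _, (congrArg Subtype.val hx).symm⟩
  · rintro ⟨a, c, rfl⟩
    exact h1 i a c

theorem exists_f {ψ : Hs →* K} (inj : Function.Injective ψ) [hn : ψ.range.Normal]
    (hc : ∀ c g, Commute g (ψ ⟨0, c⟩)) (h : K) : ∃ (f : V →+ V) (l : V →+ F3),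
      (∀ v w, om (f v) (f w) = om v w) ∧ ∀ x, h * ψ x * h⁻¹ = ψ ⟨f x.v, x.c + l x.v⟩ := by
  choose γ hγ using fun x => hn.conj_mem _ ⟨x, rfl⟩ h
  have m : ∀ x y, γ (x * y) = γ x * γ y := fun x y => inj (by
    rw [map_mul, hγ, hγ, hγ, map_mul, conj_mul])
  have e : ∀ x, γ x = ⟨(γ ⟨x.v, 0⟩).v, x.c + (γ ⟨x.v, 0⟩).c⟩ := fun x => by
    have : γ ⟨0, x.c⟩ = ⟨0, x.c⟩ := inj (by rw [hγ, conj_of_comm (hc _ _)])
    conv_lhs => rw [show x = ⟨0, x.c⟩ * ⟨x.v, 0⟩ by simp [Hs.mk_mul], m, this]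
    ext1 <;> simp
  have o : ∀ v w, om (γ ⟨v, 0⟩).v (γ ⟨w, 0⟩).v = om v w := fun v w => by
    have h1 := inj (show ψ ⟨0, -om (γ ⟨v, 0⟩).v (γ ⟨w, 0⟩).v⟩ = ψ ⟨0, -om v w⟩ by
      rw [← Hs.comm, ← conj_of_comm (hc (-om v w) h), ← Hs.comm ⟨v, 0⟩ ⟨w, 0⟩]
      simp only [map_mul, map_inv, hγ]; group)
    exact neg_injective (congrArg Hs.c h1)
  have a : ∀ v w, (γ ⟨v + w, 0⟩).v = (γ ⟨v, 0⟩).v + (γ ⟨w, 0⟩).v ∧
      (γ ⟨v + w, 0⟩).c = (γ ⟨v, 0⟩).c + (γ ⟨w, 0⟩).c := fun v w => by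
    have := (e _).symm.trans (m ⟨v, 0⟩ ⟨w, 0⟩)
    have h2 := congrArg Hs.c this
    simp only [Hs.mul_c, Hs.mul_v, o] at h2
    exact ⟨congrArg Hs.v this, by linear_combination h2⟩
  exact ⟨.mk' (fun v => (γ ⟨v, 0⟩).v) fun v w => (a v w).1,
    .mk' (fun v => (γ ⟨v, 0⟩).c) fun v w => (a v w).2, o,
    fun x => by rw [← hγ, e]; rfl⟩

theorem add_ext {A : Type*} [AddCommGroup A] {f g : V →+ A}
    (h : ∀ i a, f (Pi.single i a) = g (Pi.single i a)) (v : V) : f v = g v := by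
  rw [eq_sum v]; simp only [map_add, h]

theorem w2_neg : ∀ w : W2, -w = w → w = 0 := by decide

theorem w2_ne : ((1, 0) : W2) ≠ 0 := by decide

theorem sl_cm : ∀ x y : SL, x ^ 3 = 1 → y ^ 3 = 1 →
    x * (x * y * x⁻¹ * y⁻¹) = x * y * x⁻¹ * y⁻¹ * x → x * y = y * x := by decide +kernel

set_option maxHeartbeats 1000000 in
theorem core [Finite K] {Q : Subgroup K} (hQF : Q = generalizedFittingSubgroup K) [Q.Normal]
    {z : K} (z3 : z ^ 3 = 1) (hz : center K = zpowers z) {P : Subgroup K}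
    (hP : P = (pCore 2 (K ⧸ Q)).comap (QuotientGroup.mk' Q)) {R : Fin 3 → Subgroup K}
    {ψ : Hs →* K} (inj : Function.Injective ψ) (hQ : ψ.range = Q)
    (h0 : ∀ c, ψ ⟨0, c⟩ = z ^ c.val) (hR : ∀ i q, q ∈ R i ↔ ∃ a c, q = ψ ⟨Pi.single i a, c⟩)
    (hnorm : ∀ x ∈ P, ∀ i, ∀ q ∈ R i, x * q * x⁻¹ ∈ R i)
    (hexp4 : ∀ x ∈ P, ∀ i, ∀ q ∈ R i, x ^ 4 * q * (x ^ 4)⁻¹ * q⁻¹ ∈ center K)
    (hinv : ∀ x ∈ P, ∀ i, (∀ q ∈ R i, x ^ 2 * q * (x ^ 2)⁻¹ * q⁻¹ ∈ center K) →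
      (∀ q ∈ R i, x * q * x⁻¹ * q⁻¹ ∈ center K) ∨ (∀ q ∈ R i, x * q * x⁻¹ * q ∈ center K))
    (hcent : ∀ i, ∃ x ∈ P, (∀ q ∈ R i, x * q * x⁻¹ * q ∈ center K) ∧
      ∀ j, j ≠ i → ∀ q ∈ R j, x * q * x⁻¹ * q⁻¹ ∈ center K) :
    ∃ (ρ : K →* Wr) (l : K → V →+ F3), ρ.ker = Q ∧
      (∀ h x, h * ψ x * h⁻¹ = ψ ⟨ρ h • x.v, x.c + l h x.v⟩) ∧ pCore 3 K = Q ∧
      (∀ i, r i ∈ ρ.range) ∧ Nat.card ↥(ρ.range ⊓ B8) = Nat.card (pCore 2 (K ⧸ Q)) ∧
      ∀ e ∈ ρ.range, e.s = 1 → e ^ 3 = 1 → (∀ x ∈ ρ.range, x ∈ B8 → Commute e x) → e = 1 := by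
  have := Fact.mk Nat.prime_three
  subst hQ
  have hc : ∀ c, ψ ⟨0, c⟩ ∈ center K := fun c => by rw [h0, hz]; exact pow_mem (mem_zpowers z) _
  have cen : ∀ x, ψ x ∈ center K ↔ x.v = 0 := fun x =>
    ⟨fun h => om_nondeg fun w => Hs.commute_iff.1 (show Commute x ⟨w, 0⟩ from inj (by
      rw [map_mul, map_mul, mem_center_iff.1 h])), fun h => by
      rw [show x = ⟨0, x.c⟩ from Hs.ext h rfl]; exact hc _⟩
  choose f l fo act using exists_f inj fun c g => mem_center_iff.1 (hc c) g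
  have f_mul : ∀ g k v, f (g * k) v = f g (f k v) := fun g k v =>
    congrArg Hs.v (inj ((act (g * k) ⟨v, 0⟩).symm.trans (by
      rw [show g * k * ψ ⟨v, 0⟩ * (g * k)⁻¹ = g * (k * ψ ⟨v, 0⟩ * k⁻¹) * g⁻¹ by group, act, act])))
  have f_one : ∀ v, f 1 v = v := fun v =>
    congrArg Hs.v (inj ((act 1 ⟨v, 0⟩).symm.trans (show _ = ψ ⟨v, 0⟩ by simp)))
  have fix : ∀ y i, (∀ q ∈ R i, y * q * y⁻¹ * q⁻¹ ∈ center K) ↔
      ∀ a, f y (Pi.single i a) = Pi.single i a := fun y i => by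
    refine ⟨fun h a => ?_, fun h q hq => ?_⟩
    · have := h _ ((hR i _).2 ⟨a, 0, rfl⟩)
      rwa [act, ← map_inv, ← map_mul, cen, Hs.mul_v, Hs.inv_v, add_neg_eq_zero] at this
    · obtain ⟨a, c, rfl⟩ := (hR i q).1 hq
      rw [act, ← map_inv, ← map_mul, cen, Hs.mul_v, Hs.inv_v, add_neg_eq_zero]
      exact h a
  have neg : ∀ y i, (∀ q ∈ R i, y * q * y⁻¹ * q ∈ center K) →
      ∀ a, f y (Pi.single i a) = -Pi.single i a := fun y i h a => by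
    have := h _ ((hR i _).2 ⟨a, 0, rfl⟩)
    rwa [act, ← map_mul, cen, Hs.mul_v, add_eq_zero_iff_eq_neg] at this
  have rr : ∀ i, ∃ x ∈ P, ∀ v, f x v = r i • v := fun i => by
    obtain ⟨x, hx, h1, h2⟩ := hcent i
    refine ⟨x, hx, add_ext (g := DistribSMul.toAddMonoidHom V (r i)) fun j a => ?_⟩
    refine Eq.trans ?_ (funext fun k => (r_smul i _ k).symm)
    by_cases c : j = i
    · subst c
      rw [neg x j h1]
      funext k
      by_cases c : k = j <;> simp [c]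
    · rw [(fix x j).1 (h2 j c)]
      funext k
      by_cases c' : k = i <;> simp [c', Ne.symm c]
  have Pn : P.Normal := hP ▸ inferInstance
  have blk : ∀ h i, ∃ j, ∀ a k, k ≠ j → f h (Pi.single i a) k = 0 := fun h i => by
    obtain ⟨x, hx, e⟩ := rr i
    have e1 : ∀ v, f (h * x * h⁻¹) v = f h (r i • f h⁻¹ v) := fun v => by rw [f_mul, f_mul, e]
    have i1 : ∀ v, f h⁻¹ (f h v) = v := fun v => by rw [← f_mul, inv_mul_cancel, f_one]
    have i2 : ∀ v, f h (f h⁻¹ v) = v := fun v => by rw [← f_mul, mul_inv_cancel, f_one]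
    have pm := fun k => (hinv _ (Pn.conj_mem x hx h) k ((fix _ k).2 fun a => by
      rw [pow_two, f_mul, e1, e1, i1, ← mul_smul, r_sq, one_smul, i2])).imp (fix _ k).1 (neg _ k)
    obtain ⟨j, hj⟩ : ∃ j, ∀ k, k ≠ j → ∀ a, f (h * x * h⁻¹) (Pi.single k a) = Pi.single k a := by
      by_contra! h1
      obtain ⟨j, -, a, hj⟩ := h1 0
      obtain ⟨k, hjk, b, hk⟩ := h1 j
      have h2 := (pm j).resolve_left fun c => hj (c a)
      have h3 := (pm k).resolve_left fun c => hk (c b)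
      have h4 : ∀ a b m, m ≠ i → f h⁻¹ (Pi.single j a + Pi.single k b) m = 0 := fun a b m hm => by
        have h5 := congrArg (f h⁻¹) (e1 (Pi.single j a + Pi.single k b))
        rw [i1, map_add (f _), h2, h3, ← neg_add, map_neg] at h5
        have h6 := congrFun h5 m
        rw [r_smul, if_neg hm, Pi.neg_apply] at h6
        exact w2_neg _ h6
      refine absurd (Fintype.card_le_of_injective (fun p : W2 × W2 =>
        f h⁻¹ (Pi.single j p.1 + Pi.single k p.2) i) fun p q e => ?_) (by simp)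
      have h5 : f h⁻¹ (Pi.single j p.1 + Pi.single k p.2) =
          f h⁻¹ (Pi.single j q.1 + Pi.single k q.2) := funext fun m => by
        by_cases c : m = i
        · exact c ▸ e
        · rw [h4 _ _ m c, h4 _ _ m c]
      have h6 := congrArg (f h) h5
      rw [i2, i2] at h6
      exact Prod.ext (by simpa [hjk.symm] using congrFun h6 j) (by simpa [hjk] using congrFun h6 k)
    refine ⟨j, fun a k hk => ?_⟩
    have h1 : f (h * x * h⁻¹) (f h (Pi.single i a)) = -f h (Pi.single i a) := by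
      rw [e1, i1, ← map_neg]
      congr 1
      funext m
      by_cases c : m = i <;> simp [r_smul, c]
    have h2 := add_ext (f := (Pi.evalAddMonoidHom (fun _ => W2) k).comp (f (h * x * h⁻¹)))
      (g := Pi.evalAddMonoidHom (fun _ => W2) k) (fun m b => by
        by_cases c : m = j
        · rcases pm m with h3 | h3 <;> simp [h3, c ▸ hk]
        · simp [hj m c]) (f h (Pi.single i a))
    simp only [AddMonoidHom.comp_apply, h1, Pi.evalAddMonoidHom_apply, Pi.neg_apply] at h2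
    exact w2_neg _ h2
  choose ρ0 hρ using fun h => exists_of_add (f h) (fo h) (blk h)
  let ρ : K →* Wr := MonoidHom.mk' ρ0 fun g k => ext_smul fun v => by
    rw [← hρ, f_mul, hρ, hρ, mul_smul]
  replace hρ : ∀ h v, f h v = ρ h • v := hρ
  have ker : ρ.ker = ψ.range := by
    refine le_antisymm (fun h e => ?_) ?_
    · obtain ⟨u, hu⟩ := exists_dual (l h)
      refine (ψ.range.mul_mem_cancel_right (x := ψ ⟨u, 0⟩) ⟨_, rfl⟩).1
        (hQF ▸ PLocal.centralizer_fstar_le K ?_)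
      rw [← hQF]
      rintro _ ⟨x, rfl⟩
      have h1 : (⟨u, 0⟩ : Hs) * x * ⟨u, 0⟩⁻¹ = ⟨x.v, x.c - om u x.v⟩ := by
        rw [← inv_mul_cancel_right (_ * x * _) x, Hs.comm]
        ext1
        · simp
        · simp; ring
      symm
      rw [← mul_inv_eq_iff_eq_mul, show h * ψ ⟨u, 0⟩ * ψ x * (h * ψ ⟨u, 0⟩)⁻¹ =
        h * ψ (⟨u, 0⟩ * x * ⟨u, 0⟩⁻¹) * h⁻¹ by simp only [map_mul, map_inv]; group, h1, act, hρ,
        MonoidHom.mem_ker.1 e, hu]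
      simp
    · rintro _ ⟨x, rfl⟩
      refine ext_smul fun v => ?_
      have := congrArg Hs.v (inj ((act (ψ x) ⟨v, 0⟩).symm.trans
        (by rw [← map_inv, ← map_mul, ← map_mul])))
      rw [← hρ, one_smul]
      simpa using this
  have h3 : pCore 3 K = ψ.range := le_antisymm (hQF ▸ PLocal.pCore_le_fstar 3)
    (Grp.le_pCore inferInstance HS.pg_range)
  refine ⟨ρ, l, ker, fun h x => by rw [act, hρ], h3, fun i => ?_, ?_, fun e he es e3 ec => ?_⟩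
  · obtain ⟨x, -, e⟩ := rr i
    exact ⟨x, ext_smul fun v => by rw [← hρ, e]⟩
  · let τ := QuotientGroup.lift ψ.range ρ fun x hx => ker.ge hx
    have τi : Function.Injective τ := (QuotientGroup.injective_lift_iff _ _ _).2 ker.symm
    rw [← card_map_of_injective τi]
    congr 2
    refine le_antisymm ?_ ?_
    · rintro _ ⟨⟨x, rfl⟩, hx⟩
      refine ⟨x, Grp.le_pCore (N := B8.comap τ) inferInstance (fun y => ⟨2, Subtype.ext (τi ?_)⟩) hx,
        rfl⟩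
      rw [coe_pow, map_pow, coe_one, map_one]
      exact pow_four y.2
    · rintro _ ⟨x, hx, rfl⟩
      obtain ⟨x, rfl⟩ := QuotientGroup.mk_surjective x
      have xP : x ∈ P := hP ▸ hx
      have s1 : (ρ x).s = 1 := Equiv.ext fun i => by
        obtain ⟨a, c, e⟩ := (hR i _).1 (hnorm x xP i _ ((hR i _).2 ⟨(1, 0), 0, rfl⟩))
        rw [act, hρ] at e
        exact (s_eq_of_single w2_ne (congrArg Hs.v (inj e))).1
      refine ⟨⟨x, rfl⟩, s1, fun i => SL.ext_smul _ _ fun a => ?_⟩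
      have := congrFun ((fix _ i).1 (hexp4 x xP i) a) i
      rw [hρ, map_pow, base_smul (by rw [pow_s, s1, one_pow]), pow_m s1, Pi.single_eq_same] at this
      exact this.trans (one_smul _ _).symm
  · let N : Wr → Prop := fun e => e.s = 1 ∧ e ^ 3 = 1 ∧ ∀ x ∈ ρ.range, x ∈ B8 → Commute e x
    have cm : ∀ a b, N (ρ a) → N (ρ b) → Commute (ρ a) (ρ b) := fun a b ha hb => by
      have h1 := ha.2.2 (ρ a * ρ b * (ρ a)⁻¹ * (ρ b)⁻¹) ⟨a * b * a⁻¹ * b⁻¹, by simp⟩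
        ⟨by simp [ha.1, hb.1], fun i => by simpa [ha.1, hb.1] using SL.comm_q8 _ _⟩
      refine Wr.ext (by simp [ha.1, hb.1]) (funext fun i => ?_)
      simpa [ha.1, hb.1] using sl_cm _ _ (m_cube ha.2.1 ha.1 i) (m_cube hb.2.1 hb.1 i)
        (by simpa [ha.1, hb.1] using congrFun (congrArg Wr.m h1.eq) i)
    let M : Subgroup K :=
      { carrier := {a | N (ρ a)}
        one_mem' := ⟨by simp, by simp, fun x _ _ => by simp⟩
        mul_mem' := fun {a b} ha hb => ⟨by simp [ha.1, hb.1], by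
          rw [map_mul, (cm a b ha hb).mul_pow, ha.2.1, hb.2.1, mul_one], fun x h1 h2 => by
          rw [map_mul]; exact (ha.2.2 x h1 h2).mul_left (hb.2.2 x h1 h2)⟩
        inv_mem' := fun {a} ha => ⟨by simp [ha.1], by simp [ha.2.1], fun x h1 h2 => by
          rw [map_inv]; exact (ha.2.2 x h1 h2).inv_left⟩ }
    have hM : M ≤ pCore 3 K := Grp.le_pCore ⟨fun a ha g => ⟨by simp [ha.1], by
      rw [map_mul, map_mul, map_inv, conj_pow, ha.2.1]; simp, fun x h1 h2 => by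
        have := (ha.2.2 ((ρ g)⁻¹ * x * (ρ g)⁻¹⁻¹) (mul_mem (mul_mem (inv_mem ⟨g, rfl⟩) h1)
          (inv_mem (inv_mem ⟨g, rfl⟩))) (Normal.conj_mem inferInstance _ h2 _)).map
          (MulAut.conj (ρ g))
        simpa [mul_assoc] using this⟩⟩ fun a => ⟨2, Subtype.ext (by
      obtain ⟨x, hx⟩ := ker.le (show (a : K) ^ 3 ∈ ρ.ker from (map_pow ρ _ _).trans a.2.2.1)
      rw [coe_pow, show 3 ^ 2 = 3 * 3 from rfl, pow_mul, ← hx, ← map_pow, Hs.cube, map_one, coe_one])⟩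
    obtain ⟨a, rfl⟩ := he
    exact ker.ge (h3.le (hM ⟨es, e3, ec⟩))

end Mk

theorem exists_HS {G : Type*} [Group G] [Finite G]
    (H : Subgroup G) (Q : Subgroup H) (hQF : Q = Cfsg.generalizedFittingSubgroup H) [hQn : Q.Normal]
    (hQex : Cfsg.IsExtraspecial 3 Q) (hQcard : Nat.card Q = 3 ^ 7)
    (hZZ : (Subgroup.center Q).map Q.subtype = Subgroup.center H)
    (P : Subgroup H) (hP : P = (Cfsg.pCore 2 (H ⧸ Q)).comap (QuotientGroup.mk' Q))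
    (Q₁ Q₂ Q₃ : Subgroup H) (hle : Q₁ ≤ Q ∧ Q₂ ≤ Q ∧ Q₃ ≤ Q)
    (hZle : Subgroup.center H ≤ Q₁ ∧ Subgroup.center H ≤ Q₂ ∧ Subgroup.center H ≤ Q₃)
    (hex : Cfsg.IsExtraspecial 3 Q₁ ∧ Cfsg.IsExtraspecial 3 Q₂ ∧ Cfsg.IsExtraspecial 3 Q₃)
    (hcard : Nat.card Q₁ = 27 ∧ Nat.card Q₂ = 27 ∧ Nat.card Q₃ = 27)
    (hcomm : (∀ a ∈ Q₁, ∀ b ∈ Q₂, a * b = b * a) ∧ (∀ a ∈ Q₁, ∀ b ∈ Q₃, a * b = b * a) ∧ (∀ a ∈ Q₂, ∀ b ∈ Q₃, a * b = b * a))
    (hprod : Q₁ ⊔ Q₂ ⊔ Q₃ = Q)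
    (hnorm : ∀ x ∈ P, ∀ Qᵢ ∈ [Q₁, Q₂, Q₃], ∀ q ∈ Qᵢ, x * q * x⁻¹ ∈ Qᵢ)
    (hexp4 : ∀ x ∈ P, ∀ Qᵢ ∈ [Q₁, Q₂, Q₃], ∀ q ∈ Qᵢ, x ^ 4 * q * (x ^ 4)⁻¹ * q⁻¹ ∈ Subgroup.center H)
    (hinv : ∀ x ∈ P, ∀ Qᵢ ∈ [Q₁, Q₂, Q₃], (∀ q ∈ Qᵢ, x ^ 2 * q * (x ^ 2)⁻¹ * q⁻¹ ∈ Subgroup.center H) →
      (∀ q ∈ Qᵢ, x * q * x⁻¹ * q⁻¹ ∈ Subgroup.center H) ∨ (∀ q ∈ Qᵢ, x * q * x⁻¹ * q ∈ Subgroup.center H))
    (hcent : ∀ Qᵢ ∈ [Q₁, Q₂, Q₃], ∃ x ∈ P, (∀ q ∈ Qᵢ, x * q * x⁻¹ * q ∈ Subgroup.center H) ∧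
      ∀ Qⱼ ∈ [Q₁, Q₂, Q₃], Qⱼ ≠ Qᵢ → ∀ q ∈ Qⱼ, x * q * x⁻¹ * q⁻¹ ∈ Subgroup.center H)
    (Z : Subgroup G) (hZ : Z = (Subgroup.center H).map H.subtype)
    (hHC : H = Subgroup.centralizer (Z : Set G)) :
    ∃ (z : G) (ψ : Hs →* G) (ρ : G → Wr) (l : G → V →+ F3) (X : Subgroup Wr), HS z ψ ρ l X ∧
      Z = zpowers z ∧ (pCore 3 H).map H.subtype = ψ.range ∧ (∀ i, r i ∈ X) ∧
      Nat.card ↥(X ⊓ B8) = Nat.card (pCore 2 (H ⧸ Q)) ∧
      ∀ e ∈ X, e.s = 1 → e ^ 3 = 1 → (∀ x ∈ X, x ∈ B8 → Commute e x) → e = 1 := by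
  classical
  have := Fact.mk Nat.prime_three
  obtain ⟨z, es, -, hz⟩ := Grp.ES.isES_of_isExtraspecial hQex
  replace hz : center H = zpowers z := by
    rw [← hZZ, ← hz]
    ext x
    exact ⟨by rintro ⟨y, hy, rfl⟩; exact ⟨y.2, fun q hq =>
      congrArg Subtype.val (mem_center_iff.1 hy ⟨q, hq⟩)⟩, fun h => ⟨⟨x, h.1⟩,
      mem_center_iff.2 fun q => Subtype.ext (h.2 q q.2), rfl⟩⟩
  have z3 : z ^ 3 = 1 := es.pow_eq_one (mem_zpowers z)
  have z1 : z ≠ 1 := fun a => by have := es.ord; rw [a, orderOf_one] at this; omega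
  have zc : z ∈ center H := hz ▸ mem_zpowers z
  let R : Fin 3 → Subgroup H := ![Q₁, Q₂, Q₃]
  have all : ∀ {p : Subgroup H → Prop}, p Q₁ ∧ p Q₂ ∧ p Q₃ → ∀ i, p (R i) := fun h i => by
    fin_cases i
    exacts [h.1, h.2.1, h.2.2]
  have mR : ∀ i, R i ∈ [Q₁, Q₂, Q₃] := all (p := (· ∈ [Q₁, Q₂, Q₃])) (by simp)
  have RQ : ∀ i, R i ≤ Q := all (p := (· ≤ Q)) hle
  have cm : ∀ i j, i ≠ j → ∀ a ∈ R i, ∀ b ∈ R j, Commute a b := fun i j h a ha b hb => by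
    fin_cases i <;> fin_cases j
    exacts [absurd rfl h, hcomm.1 a ha b hb, hcomm.2.1 a ha b hb, (hcomm.1 b hb a ha).symm,
      absurd rfl h, hcomm.2.2 a ha b hb, (hcomm.2.1 b hb a ha).symm, (hcomm.2.2 b hb a ha).symm,
      absurd rfl h]
  have nc : ∀ i, ∃ a ∈ R i, ∃ b ∈ R i, ⁅b, a⁆ = z := fun i => by
    obtain ⟨w, ew, ne, -⟩ := Grp.ES.isES_of_isExtraspecial
      (all (p := fun A => IsExtraspecial 3 A) hex i)
    obtain ⟨a, ha, b, hb, e⟩ := ew.exists_pair ne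
    rcases (mem_zpowers_three z3).1 (es.comm a (RQ i ha) b (RQ i hb)) with c | c | c
    · have := ew.ord
      rw [← e, c, orderOf_one] at this
      omega
    · exact ⟨b, hb, a, ha, c⟩
    · exact ⟨a, ha, b, hb, by rw [← commutatorElement_inv, c, inv_inv]⟩
  obtain ⟨ψ, inj, hQ, h0, hR⟩ := Mk.exists_ψ z3 z1 (fun g => mem_center_iff.1 zc g) hQcard RQ
    (fun i => all (p := (center H ≤ ·)) hZle i zc) (all (p := fun A => Nat.card A = 27) hcard) cm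
    (fun i q hq => by
      obtain ⟨x, -, h, -⟩ := hcent _ (mR i)
      have h1 := h q hq
      have h2 : q ^ 3 ∈ center H := hz ▸ es.pow_mem (RQ i hq)
      have h3 : (x * q * x⁻¹ * q * q⁻¹) ^ 3 = q ^ 3 := by
        rw [mul_inv_cancel_right, conj_pow, mem_center_iff.1 h2, mul_inv_cancel_right]
      rw [(show Commute _ q⁻¹ from (mem_center_iff.1 h1 _).symm).mul_pow,
        es.pow_eq_one (hz ▸ h1), one_mul, inv_pow] at h3
      have h4 := es.pow_eq_one (hz ▸ h2)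
      rwa [pow_succ, pow_two, eq_inv_iff_mul_eq_one.1 h3.symm, one_mul] at h4) nc
  obtain ⟨ρ, l, ker, act, h3, hr, h8, hN⟩ := Mk.core hQF z3 hz hP inj hQ h0 hR
    (fun x hx i => hnorm x hx _ (mR i)) (fun x hx i => hexp4 x hx _ (mR i))
    (fun x hx i => hinv x hx _ (mR i)) fun i => by
      obtain ⟨x, hx, h1, h2⟩ := hcent _ (mR i)
      refine ⟨x, hx, h1, fun j hj => h2 _ (mR j) fun e => ?_⟩
      obtain ⟨a, ha, b, hb, c⟩ := nc i
      exact z1 (c ▸ commutatorElement_eq_one_iff_commute.2 (cm j i hj b (e ▸ hb) a ha))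
  have hZ' : Z = zpowers (z : G) := by rw [hZ, hz, MonoidHom.map_zpowers]; rfl
  have mH : ∀ g, Commute g (z : G) ↔ g ∈ H := fun g => by
    refine ⟨fun c => hHC.ge ?_, fun h => congrArg Subtype.val (mem_center_iff.1 zc ⟨g, h⟩)⟩
    rw [hZ']
    rintro _ ⟨k, rfl⟩
    exact (c.zpow_right k).symm.eq
  refine ⟨z, H.subtype.comp ψ, fun g => if h : g ∈ H then ρ ⟨g, h⟩ else 1,
    fun g => if h : g ∈ H then l ⟨g, h⟩ else 0, ρ.range, ⟨H.subtype_injective.comp inj,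
      congrArg Subtype.val ((h0 1).trans (pow_one z)), fun g c x => ?_, fun g c e => ?_,
      fun x => ⟨?_, ?_⟩⟩, hZ', by rw [h3, ← hQ, MonoidHom.range_comp], hr, h8, hN⟩
  · simp only [dif_pos ((mH g).1 c)]
    exact congrArg Subtype.val (act ⟨g, (mH g).1 c⟩ x)
  · rw [dif_pos ((mH g).1 c)] at e
    obtain ⟨x, hx⟩ := hQ.ge (ker.le e)
    exact ⟨x, congrArg Subtype.val hx⟩
  · rintro ⟨g, rfl⟩
    exact ⟨g, (mH _).2 g.2, dif_pos g.2⟩
  · rintro ⟨g, c, rfl⟩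
    exact ⟨⟨g, (mH g).1 c⟩, by rw [dif_pos ((mH g).1 c)]⟩

end Cfsg.Agent.F22L
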