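import Mathlib
import Cfsg.Agent.F22L.HS

/-! The centre is not weakly closed in `Q`. -/

set_option autoImplicit false

namespace Cfsg.Agent.F22L

open Subgroup Wr

variable {G : Type*} [Group G] [Finite G] {z : G} {ψ : Hs →* G} {ρ : G → Wr} {l : G → V →+ F3}
  {X : Subgroup Wr}

theorem card_le_ker (W : AddSubgroup V) (f : V →+ F3) :
    Nat.card W ≤ 3 * Nat.card ↥(W ⊓ f.ker) := by
  have h1 := (f.comp W.subtype).ker.card_mul_index
  have h2 := AddSubgroup.card_le_card_addGroup (f.comp W.subtype).range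
  have h3 : Nat.card (f.comp W.subtype).ker ≤ Nat.card ↥(W ⊓ f.ker) :=
    Nat.card_le_card_of_injective (fun x => ⟨x.1.1, x.1.2, x.2⟩) fun x y e => by
      ext1; ext1; exact Subtype.mk.inj e
  rw [AddSubgroup.index_ker] at h1
  rw [Nat.card_zmod] at h2
  nlinarith

theorem block_not_iso {W : AddSubgroup V} (h : ∀ v ∈ W, ∀ w ∈ W, om v w = 0) (i : Fin 3) :
    ¬ ∀ a : W2, Pi.single i a ∈ W := fun c => by
  have := h _ (c (1, 0)) _ (c (0, 1))
  rw [om_single_left, Pi.single_eq_same] at this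
  exact absurd this (by decide)

theorem fix_single {g : Wr} (gs : g.s = 1) {i : Fin 3} (e : g.m i = 1) (a : W2) :
    g • (Pi.single i a : V) = Pi.single i a := by
  rw [smul_single, gs]; simp [e]

theorem v_three (v : V) : v + v + v = 0 := by funext i; ext <;> simp [Hs.three]

theorem sub_sub_smul (g : Wr) (x : V) : x - g • x - g • (x - g • x) = x + g • x + g • g • x := by
  rw [smul_sub]
  linear_combination (exp := 1) -v_three (g • x)

/-- The commutators with `g`. -/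
def dl (g : Wr) : V →+ V := AddMonoidHom.id V - DistribSMul.toAddMonoidHom V g

theorem dl_apply (g : Wr) (v : V) : dl g v = v - g • v := rfl

/-- Weak closure of the centre. -/
def WC (z : G) (ψ : Hs →* G) : Prop := ∀ t, IsConj z t → t ∈ ψ.range → t ∈ zpowers z

omit [Finite G] in
theorem WC.cj (h : WC z ψ) (g : G) : WC (g * z * g⁻¹) ((MulAut.conj g).toMonoidHom.comp ψ) := by
  rintro _ ht ⟨x, rfl⟩
  have h1 : IsConj z (ψ x) := ((isConj_iff.2 ⟨g, rfl⟩ : IsConj z _).trans ht).trans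
    (isConj_iff.2 ⟨g, rfl⟩ : IsConj (ψ x) _).symm
  obtain ⟨k, e⟩ := h _ h1 ⟨x, rfl⟩
  exact ⟨k, by simp [← e]⟩

omit [Finite G] in
theorem HS.eq_one (h : HS z ψ ρ l X) {K : Subgroup G} (n : z ∉ K) {a : G} (ha : a ∈ zpowers z)
    (hK : a ∈ K) : a = 1 := by
  obtain ⟨k, rfl⟩ := h.of_zp ha
  rw [h.cen] at hK ⊢
  have e : ∀ k : F3, k.val = 0 ∨ k.val = 1 ∨ k.val = 2 := by decide
  rcases e k with c | c | c <;> rw [c] at hK ⊢
  · exact pow_zero z
  · exact absurd (pow_one z ▸ hK) n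
  · have := pow_mem hK 2
    rw [← pow_mul, show 2 * 2 = 3 + 1 from rfl, pow_succ, h.z3, one_mul] at this
    exact absurd this n

/-- The commutator of an element of `Q` with `y`. -/
def gam (ψ : Hs →* G) (g : Wr) (f : V →+ F3) (v : V) : G := ψ ⟨v - g • v, -f v - om v (g • v)⟩

/-- Two commuting conjugates. -/
structure Pr (z : G) (ψ : Hs →* G) (ρ : G → Wr) (l : G → V →+ F3) (y : G) (ψ' : Hs →* G)
    (ρ' : G → Wr) (l' : G → V →+ F3) (X : Subgroup Wr) : Prop where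
  h : HS z ψ ρ l X
  h' : HS y ψ' ρ' l' X
  xd : XD X
  wc : WC z ψ
  wc' : WC y ψ'
  cj : IsConj z y
  cm : Commute y z
  nz : y ∉ zpowers z

namespace Pr

variable {y : G} {ψ' : Hs →* G} {ρ' : G → Wr} {l' : G → V →+ F3}
  (p : Pr z ψ ρ l y ψ' ρ' l' X)
include p

omit [Finite G]

theorem symm : Pr y ψ' ρ' l' z ψ ρ l X :=
  ⟨p.h', p.h, p.xd, p.wc', p.wc, p.cj.symm, p.cm.symm, fun c =>
    p.h.z1 (p.h'.eq_one p.nz c (mem_zpowers z))⟩

theorem nQ : y ∉ ψ.range := fun c => p.nz (p.wc y p.cj c)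

theorem g3 : ρ y ^ 3 = 1 := by rw [← p.h.ρ_pow p.cm, p.h'.z3, p.h.ρ_one]

theorem gam_mul (x : Hs) : gam ψ (ρ y) (l y) x.v * y = ψ x * y * (ψ x)⁻¹ := (p.h.conj_eq p.cm x).symm

theorem gam_conj (v : V) : IsConj y (gam ψ (ρ y) (l y) v * y) :=
  isConj_iff.2 ⟨_, (p.gam_mul ⟨v, 0⟩).symm⟩

theorem star {v : V} (c : gam ψ (ρ y) (l y) v ∈ ψ'.range) : gam ψ (ρ y) (l y) v = 1 :=
  p.h'.eq_one p.nQ (((zpowers y).mul_mem_cancel_right (mem_zpowers y)).1
    (p.wc' _ (p.gam_conj v) (mul_mem c p.h'.zmem))) ⟨_, rfl⟩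

theorem fix_of_star {v : V} (c : gam ψ (ρ y) (l y) v = 1) : v - ρ y • v = 0 :=
  congrArg Hs.v (p.h.inj (c.trans (map_one ψ).symm))

theorem comm_y {x : Hs} : Commute (ψ x) y ↔ x.v ∈ Fx (ρ y) ⊓ (l y).ker :=
  Commute.symm_iff.trans (p.h.commute_iff p.cm)

theorem comm_pre {W : AddSubgroup V} (hW : W ≤ Fx (ρ y) ⊓ (l y).ker) :
    ∀ a ∈ (pre W).map ψ, Commute a y := by
  rintro _ ⟨x, hx, rfl⟩
  exact p.comm_y.2 (hW hx)

omit p in
theorem pg_pre (W : AddSubgroup V) : IsPGroup 3 ((pre W).map ψ) :=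
  HS.pg_range.to_le (map_le_range _ _)

theorem l_der (hs : ∀ i, (ρ y).s i ≠ i) {f : V} (hf : ρ y • f = f) : l y f = 0 := by
  obtain ⟨v, rfl⟩ := exists_norm hs p.g3 hf
  have := p.h.l_mul p.cm (p.cm.mul_left p.cm) v
  rw [← pow_three, p.h'.z3, p.h.l_one, p.h.l_mul p.cm p.cm, p.h.ρ_mul p.cm p.cm, mul_smul] at this
  rw [map_add, map_add, ← this]; rfl

theorem nine_le : 9 ≤ Nat.card ↥(Fx (ρ y) ⊓ (l y).ker) := by
  rcases s_cube (k := 1) p.g3 with gs | hs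
  · have h1 := card_le_ker (L0 (ρ y)) (l y)
    have h2 := AddSubgroup.card_le_of_le (inf_le_inf_right (l y).ker
      (show L0 (ρ y) ≤ Fx (ρ y) from fun v hv => smul_L0 gs p.g3 hv))
    rw [card_L0] at h1
    omega
  · have := Nat.card_le_card_of_injective (fun a : W2 => (⟨_, norm_fix p.g3 (Pi.single 0 a),
      p.l_der hs (norm_fix p.g3 _)⟩ : ↥(Fx (ρ y) ⊓ (l y).ker))) fun a b e => by
        have := congrFun (congrArg Subtype.val e) 0
        simpa only [norm_single hs] using this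
    simpa using this

variable [Finite G]

theorem iso : ∀ v ∈ Fx (ρ y) ⊓ (l y).ker, ∀ w ∈ Fx (ρ y) ⊓ (l y).ker, om v w = 0 :=
  fun v hv w hw => by
    have h1 := p.h'.comm_mem p.xd (pg_pre _) (p.comm_pre le_rfl) (mem_map_of_mem ψ (x := ⟨v, 0⟩) hv)
      (mem_map_of_mem ψ (x := ⟨w, 0⟩) hw)
    rw [← map_inv, ← map_inv, ← map_mul, ← map_mul, ← map_mul, Hs.comm] at h1
    have h2 := p.h.eq_one p.symm.nQ (p.h.mem_zp.2 rfl) h1
    exact neg_eq_zero.1 (congrArg Hs.c (p.h.inj (h2.trans (map_one ψ).symm)))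

theorem not_der (hs : ∀ i, (ρ y).s i ≠ i) : False := by
  have f1 : ∀ x, ρ y • (dl (ρ y) x - ρ y • dl (ρ y) x) = dl (ρ y) x - ρ y • dl (ρ y) x := fun x => by
    rw [dl_apply, sub_sub_smul]; exact norm_fix p.g3 x
  have f2 : ∀ x w, om (dl (ρ y) x) (ρ y • dl (ρ y) w) = om (dl (ρ y) x) (dl (ρ y) w) := fun x w => by
    have := om_fix (f1 w) x
    rw [om_sub_right, sub_eq_zero] at this
    exact this.symm
  have f3 : ∀ x w, gam ψ (ρ y) (l y) (dl (ρ y) x) * (gam ψ (ρ y) (l y) (dl (ρ y) w))⁻¹ =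
      gam ψ (ρ y) (l y) (dl (ρ y) (x - w)) := fun x w => by
    simp only [gam, f2, om_self, ← map_inv, ← map_mul, Hs.mk_inv, Hs.mk_mul, om_neg_right,
      om_fix (f1 w)]
    congr 2
    · rw [map_sub, smul_sub]; abel
    · rw [map_sub, map_sub]; ring
  have f4 : ∀ x, Commute (gam ψ (ρ y) (l y) (dl (ρ y) x)) y := fun x =>
    p.comm_y.2 ⟨f1 x, p.l_der hs (f1 x)⟩
  set U := (pre (Fx (ρ' z) ⊓ (l' z).ker)).map ψ' with hU
  have u1 : ∀ a ∈ U, Commute a z := p.symm.comm_pre le_rfl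
  have u2 : U ≤ ψ'.range := map_le_range _ _
  have u3 : ∀ a ∈ U, Commute a y := fun a ha => by
    obtain ⟨x, rfl⟩ := u2 ha
    exact p.h'.cψ x
  have u4 : ∀ a ∈ U, (ρ a).s = 1 → a ∈ ψ.range := fun a ha as => by
    have c1 := (p.h.ρ_comm (u1 a ha) p.cm (u3 a ha)).eq
    have c2 : ∀ v : V, ρ a • (v - ρ y • v) = ρ a • v - ρ y • ρ a • v := fun v => by
      rw [smul_sub, ← mul_smul, c1, mul_smul]
    have c3 : ∀ v, a * gam ψ (ρ y) (l y) v * a⁻¹ = gam ψ (ρ y) (l y) (ρ a • v) := fun v => by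
      have e1 := p.gam_mul ⟨ρ a • v, 0 + l a v⟩
      rw [← p.h.act a (u1 a ha) ⟨v, 0⟩] at e1
      refine mul_right_cancel (b := y) (Eq.trans ?_ e1.symm)
      calc a * gam ψ (ρ y) (l y) v * a⁻¹ * y = a * (gam ψ (ρ y) (l y) v * y) * a⁻¹ := by
            rw [mul_assoc, (u3 a ha).inv_left.eq]; group
        _ = a * ψ ⟨v, 0⟩ * (y * a * y⁻¹)⁻¹ * y * a * (ψ ⟨v, 0⟩)⁻¹ * a⁻¹ := by
            rw [p.gam_mul ⟨v, 0⟩]; group
        _ = _ := by rw [← (u3 a ha).eq]; group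
    have c4 : ∀ x : V, ρ a • (x + ρ y • x + ρ y • ρ y • x) = x + ρ y • x + ρ y • ρ y • x :=
        fun x => by
      have e1 := f3 (ρ a • x) x
      have e2 : dl (ρ y) (ρ a • x) = ρ a • dl (ρ y) x := (c2 x).symm
      have e3 := mul_mem (u2 ha) (p.h'.conj_mem (f4 x) (inv_mem (u2 ha)))
      rw [← mul_assoc, ← mul_assoc, c3, ← e2, e1] at e3
      have e4 := p.fix_of_star (p.star e3)
      rw [map_sub, smul_sub, e2, sub_sub_sub_comm, ← c2, sub_eq_zero, dl_apply, sub_sub_smul] at e4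
      exact e4
    refine p.h.ker a (u1 a ha) (Wr.ext as (funext fun i => SL.ext_smul _ _ fun b => ?_))
    have := congrFun (c4 (Pi.single i b)) i
    rw [base_smul as, norm_single hs] at this
    simpa using this
  have u5 : ∀ a : ↥(U ⊓ ψ.range), ∃ k x, a.1 = gam ψ (ρ y) (l y) (dl (ρ y) x) * ψ ⟨0, k⟩ := by
    rintro ⟨_, ha, ⟨f, c⟩, rfl⟩
    obtain ⟨x, rfl⟩ := exists_norm hs p.g3 (p.comm_y.1 (u3 _ ha)).1
    refine ⟨c + l y (dl (ρ y) x), x, ?_⟩
    simp only [gam, f2, ← map_mul, Hs.mk_mul]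
    rw [← sub_sub_smul, ← dl_apply _ x]
    simp
  choose k x hk using u5
  have h1 := Nat.card_le_card_of_injective k fun a b e => by
    have e1 : (a.1 * b.1⁻¹) = gam ψ (ρ y) (l y) (dl (ρ y) (x a - x b)) := by
      rw [← f3, hk a, hk b, e]; group
    have e2 := p.star (e1 ▸ u2 (mul_mem a.2.1 (inv_mem b.2.1)))
    exact Subtype.ext (mul_inv_eq_one.1 (e1.trans e2))
  have h2 := three_le (A := U) (pg_pre _) (sh.comp (p.h.ρs U u1)) card_perm3
  have h3 : Nat.card (sh.comp (p.h.ρs U u1)).ker ≤ Nat.card ↥(U ⊓ ψ.range) :=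
    Nat.card_le_card_of_injective (fun a => ⟨a.1.1, a.1.2, u4 _ a.1.2 a.2⟩) fun a b e => by
      ext; exact Subtype.mk.inj e
  have h4 := p.symm.nine_le
  have h5 : Nat.card U = _ := (p.h'.card_map _).trans (card_pre _)
  rw [Nat.card_zmod] at h1
  omega

theorem base : (ρ y).s = 1 := (s_cube (k := 1) p.g3).resolve_right p.not_der

theorem l_fix {f : V} (hf : ρ y • f = f) : l y f = 0 := by
  by_contra c
  have gs := p.base
  have hW : (dl (ρ y)).range ⊓ (l y).ker ≤ Fx (ρ y) ⊓ (l y).ker := inf_le_inf_right _ (by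
    rintro _ ⟨v, rfl⟩
    exact smul_L0 gs p.g3 (sub_L0 gs p.g3 v))
  have h1 : (pre ((dl (ρ y)).range ⊓ (l y).ker)).map ψ ⊓ ψ'.range = ⊥ := by
    rw [eq_bot_iff]
    rintro _ ⟨⟨⟨_, k⟩, ⟨⟨v, rfl⟩, -⟩, rfl⟩, ha⟩
    have e : ψ ⟨dl (ρ y) v, k⟩ =
        gam ψ (ρ y) (l y) (v + ((-l y v - om v (ρ y • v) - k) / l y f) • f) := by
      have e1 := om_fix hf v
      rw [om_sub_left, sub_eq_zero] at e1
      simp only [gam, smul_add, smul_f3, hf, map_add, map_f3, om_add_left, om_add_right,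
        om_smul_left, om_smul_right, om_self, om_swap f (ρ y • v), e1, smul_eq_mul]
      congr 2
      · rw [dl_apply]; abel
      · have := Fact.mk Nat.prime_three
        field_simp
        ring
    rw [e] at ha ⊢
    exact p.star ha
  have h2 := p.h'.card_le p.xd (pg_pre _) (p.comm_pre hW)
  rw [h1, card_bot, p.h.card_map, card_pre] at h2
  by_cases hm : ∀ i, (ρ y).m i ≠ 1
  · have h3 := card_le_ker (L0 (ρ y)) (l y)
    have h4 := AddSubgroup.card_le_of_le (inf_le_inf_right (l y).ker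
      (show L0 (ρ y) ≤ (dl (ρ y)).range from fun w hw =>
        (exists_sub_L0 gs p.g3 hw fun i e => absurd e (hm i)).imp fun _ e => e.1))
    rw [card_L0] at h3
    omega
  obtain ⟨i, hi⟩ := not_forall.1 hm
  rw [not_not] at hi
  have h3 : ∀ w, ρ y • w = w → w i = 0 → l y w = 0 := fun w hw wi => by
    let φ : W2 →+ F3 := (l y).comp (AddMonoidHom.single (fun _ => W2) i)
    have e1 : ∀ a, φ a = l y (Pi.single i a) := fun _ => rfl
    have e2 : ∀ a : W2, φ a = a.1 * φ (1, 0) + a.2 * φ (0, 1) := fun a => by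
      rw [← smul_eq_mul, ← smul_eq_mul, ← map_f3, ← map_f3, ← map_add]; simp
    have e3 : ∀ s t : F3, ¬ (s = 0 ∧ t = 0) → ∃ a b : W2, a.1 * s + a.2 * t = 1 ∧
        b.1 * s + b.2 * t = 0 ∧ o2 a b = 1 := by decide +kernel
    obtain ⟨a, b, a1, b1, ab⟩ := e3 (φ (1, 0)) (φ (0, 1)) fun c' => block_not_iso p.iso i
      fun a => ⟨fix_single gs hi a, by
        change l y _ = 0
        rw [← e1, e2, c'.1, c'.2]; simp⟩
    rw [← e2, e1] at a1 b1
    have := p.iso (w - l y w • (Pi.single i a : V)) ⟨by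
        change ρ y • _ = _
        rw [smul_sub, smul_f3, hw, fix_single gs hi], by
        change l y _ = 0
        rw [map_sub, map_f3, a1]; simp⟩ _ ⟨fix_single gs hi b, b1⟩
    rw [om_sub_left, om_smul_left, om_single_right, om_single_left, wi, Pi.single_eq_same,
      ab] at this
    simpa using this
  have h4 : ∀ j, j ≠ i → ∀ c : F3, Pi.single j (c • SL.fx ((ρ y).m j)) ∈
      (dl (ρ y)).range ⊓ (l y).ker := fun j hj c => by
    have e1 : (ρ y).m j ≠ 1 := fun e => block_not_iso p.iso j fun a =>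
      ⟨fix_single gs e a, h3 _ (fix_single gs e a) (Pi.single_eq_of_ne hj.symm _)⟩
    refine ⟨(exists_sub_L0 gs p.g3 (single_L0 _ j c) fun m e => ?_).imp fun _ e => e.1,
      h3 _ (smul_L0 gs p.g3 (single_L0 _ j c)) (Pi.single_eq_of_ne hj.symm _)⟩
    exact Pi.single_eq_of_ne (fun c' : m = j => e1 (c' ▸ e)) _
  obtain ⟨j, k, hj, hk, hjk, -⟩ := fin3 i
  have h5 := Nat.card_le_card_of_injective (fun c : F3 × F3 =>
    (⟨_, add_mem (h4 j hj c.1) (h4 k hk c.2)⟩ : ↥((dl (ρ y)).range ⊓ (l y).ker))) fun a b e => by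
      have e1 := congrFun (congrArg Subtype.val e) j
      have e2 := congrFun (congrArg Subtype.val e) k
      simp only [Pi.add_apply, Pi.single_eq_same, Pi.single_eq_of_ne hjk,
        Pi.single_eq_of_ne hjk.symm, add_zero, zero_add] at e1 e2
      exact Prod.ext (smul_left_injective F3 (SL.fx_ne _) e1) (smul_left_injective F3 (SL.fx_ne _) e2)
  rw [Nat.card_prod, Nat.card_zmod] at h5
  omega

theorem m_ne (i : Fin 3) : (ρ y).m i ≠ 1 := fun e => block_not_iso p.iso i fun a =>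
  ⟨fix_single p.base e a, p.l_fix (fix_single p.base e a)⟩

theorem gam_comm (v : V) : Commute (gam ψ (ρ y) (l y) v) y :=
  have := smul_L0 p.base p.g3 (sub_L0 p.base p.g3 v)
  p.comm_y.2 ⟨this, p.l_fix this⟩

theorem gam_add {v w : V} (h1 : om v (ρ y • w) = 0) (h2 : om w (ρ y • v) = 0) :
    gam ψ (ρ y) (l y) (v + w) = gam ψ (ρ y) (l y) v * gam ψ (ρ y) (l y) w := by
  simp only [gam, ← map_mul, Hs.mk_mul, om_L0 (sub_L0 p.base p.g3 v) (sub_L0 p.base p.g3 w),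
    smul_add, om_add_left, om_add_right, h1, h2, map_add]
  congr 2
  · abel
  · ring

theorem type_gam {v : V} (hv : v - ρ y • v ≠ 0) :
    (ρ' (gam ψ (ρ y) (l y) v)).s = 1 ∧ (ρ' (gam ψ (ρ y) (l y) v)).m 0 ≠ 1 := by
  have e := p.gam_mul ⟨v, 0⟩
  have q : Pr y ψ' ρ' l' (ψ ⟨v, 0⟩ * y * (ψ ⟨v, 0⟩)⁻¹) _ _ _ X :=
    ⟨p.h', p.h'.cj _, p.xd, p.wc', p.wc'.cj _, isConj_iff.2 ⟨_, rfl⟩,
      e ▸ (p.gam_comm v).mul_left (Commute.refl y), fun c => hv (p.fix_of_star (p.star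
        (zpowers_le_of_mem p.h'.zmem (((zpowers y).mul_mem_cancel_right (mem_zpowers y)).1
          (e ▸ c)))))⟩
  have h1 := q.base
  have h2 := q.m_ne 0
  rw [← e, p.h'.ρ_mul (p.gam_comm v) (Commute.refl y), p.h'.ρ_z, mul_one] at h1 h2
  exact ⟨h1, h2⟩

theorem false : False := by
  have gs := p.base
  have h1 : ∀ i, ∃ a : W2, a - (ρ y).m i • a ≠ 0 := fun i =>
    (SL.exists_sub _ (m_cube p.g3 gs i) (p.m_ne i) 1).imp fun a e => by
      rw [e, one_smul]; exact SL.fx_ne _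
  choose a ha using h1
  have h2 : ∀ (v : V) i, v i = a i → v - ρ y • v ≠ 0 := fun v i e c => ha i (by
    have := congrFun c i
    rwa [Pi.sub_apply, base_smul gs, e] at this)
  have h3 : ∀ (v : V) i, v i = 0 → gam ψ (ρ y) (l y) (v + Pi.single i (a i)) =
      gam ψ (ρ y) (l y) v * gam ψ (ρ y) (l y) (Pi.single i (a i)) := fun v i e =>
    p.gam_add (by rw [smul_single, om_single_right, gs]; simp [e])
      (by rw [om_single_left, base_smul gs, e]; simp)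
  have h4 : ∀ (v : V) i j, j ≠ i → v i = 0 → v j = a j →
      (ρ' (gam ψ (ρ y) (l y) (v + Pi.single i (a i)))).m 0 =
        (ρ' (gam ψ (ρ y) (l y) v)).m 0 * (ρ' (gam ψ (ρ y) (l y) (Pi.single i (a i)))).m 0 :=
    fun v i j _ e e' => by
      rw [h3 v i e, p.h'.ρ_mul (p.gam_comm _) (p.gam_comm _), mul_m, (p.type_gam (h2 v j e')).1]
      rfl
  have h5 : ∀ i, (ρ' (gam ψ (ρ y) (l y) (Pi.single i (a i)))).m 0 ^ 3 = 1 := fun i =>
    m_cube (by rw [← p.h'.ρ_pow (p.gam_comm _), gam, ← map_pow, Hs.cube, map_one, p.h'.ρ_one])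
      (p.type_gam (h2 _ i (Pi.single_eq_same _ _))).1 0
  have h6 : ∀ i, (ρ' (gam ψ (ρ y) (l y) (Pi.single i (a i)))).m 0 ≠ 1 := fun i =>
    (p.type_gam (h2 _ i (Pi.single_eq_same _ _))).2
  have h7 : ∀ i, i ≠ 0 → (ρ' (gam ψ (ρ y) (l y) (Pi.single i (a i)))).m 0 =
      (ρ' (gam ψ (ρ y) (l y) (Pi.single 0 (a 0)))).m 0 := fun i hi => by
    have e1 := h4 (Pi.single 0 (a 0)) i 0 hi.symm (Pi.single_eq_of_ne hi _) (Pi.single_eq_same _ _)
    have e2 := h4 (Pi.single i (a i)) 0 i hi (Pi.single_eq_of_ne hi.symm _) (Pi.single_eq_same _ _)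
    rw [add_comm, e1] at e2
    rcases SL.three_tri _ _ (h5 0) (h5 i) e2 (h6 0) with c | c | c
    · exact absurd c (h6 i)
    · exact c
    · rw [c, mul_inv_cancel] at e1
      exact absurd e1 (p.type_gam (h2 _ 0 (by simp [hi.symm]))).2
  have h8 := h4 (Pi.single 0 (a 0) + Pi.single 1 (a 1)) 2 0 (by decide) (by simp) (by simp)
  rw [h4 (Pi.single 0 (a 0)) 1 0 (by decide) (by simp) (by simp), h7 1 (by decide), h7 2 (by decide),
    ← pow_three', h5] at h8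
  exact (p.type_gam (h2 _ 0 (by simp))).2 h8

end Pr

/-- Proof. Suppose (WC) every conjugate of `z` in `Q = ψ.range` lies in `⟨z⟩`; WC passes to all
conjugate structures `h.cj g`. State the lemmas for two structures `h : HS z ψ ρ l X`,
`h' : HS y ψ' ρ' l' X` with WC, `y` conjugate to `z`, commuting, `y ∉ ⟨z⟩` (so `z ∉ ⟨y⟩`, `y ∉ Q`,
`z ∉ Q'`). `g := ρ y ≠ 1`, `g³ = 1`; `s_cube`: `g` is base or a derangement.
`γ v := ψ⟨v - g•v, -l y v - om v (g•v)⟩`, `γ v * y = ψ x * y * (ψ x)⁻¹` (`HS.conj_eq`).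
(*) `γ v ∈ Q' → γ v = 1` (`γ v * y ∈ Q'` is conjugate to `y`, so in `⟨y⟩`; `⟨y⟩ ∩ Q = 1`).
`U := Q ⊓ C(y)`, `U' := Q' ⊓ C(z)`. `U` is abelian: `[U,U] ≤ ⟨z⟩ ∩ Q' = 1` (`h'.comm_mem`).
(a) `27 ≤ |U|` always: base `g`: `L0 g ≤ Fx g` (`smul_L0`), `pre (L0 g ⊓ ker (l y))` has order `≥ 27`
(`three_le`); derangement: `y³ = 1` gives `l y (v + g•v + g•g•v) = 0` (`l_mul`), so `l y = 0` on
`Fx g` (`exists_norm`), and `a ↦ norm (single 0 a)` is injective (`norm_single`).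
(b) `g` is not a derangement. For `v = x - g•x` one has `v - g•v = x + g•x + g•g•x`, so these run
through `Fx g`, `γ v ∈ U`, and `γ v * (γ w)⁻¹ = γ (v - w)` for such `v w` (`om_fix`). For `u ∈ U'`,
`ρ u` commutes with `g`, `u (γ v) u⁻¹ = γ (ρ u • v)`, and `u (γ v) u⁻¹ (γ v)⁻¹ ∈ Q'` (`γ v ∈ C(y)`
normalizes `Q'`), so it is `1` by (*): `ρ u` fixes `Fx g` pointwise; if `ρ u` is base it is `1`
(`norm_single`, `ext_smul`). So `|U'| ≤ 3 |U' ⊓ Q|` (`three_le` with `sh ∘ ρs`, `card_perm3`), and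
`|U' ⊓ Q| ≤ 3`: each element is `γ v * z^k`, and `k` determines it by (*). This contradicts (a) for
the primed structure.
(c) base `g`, `l y f₀ ≠ 0` for some `f₀ ∈ Fx g` is impossible. Then `γ (v + k•f₀)` runs through all
`ψ⟨v - g•v, c⟩`. `T := pre W`, `W := {v - g•v} ⊓ ker (l y)`, lies in `U`, meets `Q'` trivially by (*),
so `|T| ≤ 9` (`h'.card_le`). But `|W| ≥ 9`: if all `g.m i ≠ 1`, `{v - g•v} = L0 g` (`exists_sub_L0`,
`sub_L0`) has order 27. If `g.m i = 1`: `U` abelian says `Fx g ⊓ ker (l y)` is isotropic; the block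
`i` lies in `Fx g`, so `l y ≠ 0` on it: `a b` in block `i`, `l y a = 1`, `l y b = 0`, `om a b ≠ 0`; for
`f ∈ Fx g` with `f i = 0`, `om (f - (l y f)•a) b = 0` gives `l y f = 0`; hence `g.m j ≠ 1` for
`j ≠ i` and `single j (fx (g.m j))`, `single k (fx (g.m k))` span a subspace of order 9 in `W`.
(d) So `g` is base, `l y = 0` on `Fx g`, `Fx g` is isotropic, all `g.m i ≠ 1` ("`y` is of type B1").
(e) Take `xᵢ = single i aᵢ` with `xᵢ - g•xᵢ ≠ 0`, `γᵢ = γ xᵢ ∈ U`; `γ (xᵢ + xⱼ) = γᵢ γⱼ` etc. For a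
nonempty set `I`, `w = γ (∑_I xᵢ) * y` is a conjugate of `y` commuting with `y`, not in `⟨y⟩`. By (d)
for the pair `(y, w)` (structures `h'` and `h'.cj _`), `ρ' (γ_I)` is base of order 3 with
`(ρ' γ_I).m 0 ≠ 1`. But three commuting elements `a b c ≠ 1` of order 3 of `SL` have `ab = 1`,
`ac = 1`, `bc = 1` or `abc = 1` (`SL.three_tri`). -/
theorem HS.not_wc (h : HS z ψ ρ l X) (xd : XD X) {g : G} (c : Commute (g * z * g⁻¹) z)
    (n : g * z * g⁻¹ ∉ zpowers z) :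
    ∃ g : G, g * z * g⁻¹ ∈ ψ.range ∧ g * z * g⁻¹ ∉ zpowers z := by
  by_contra! hc
  have wc : WC z ψ := fun t ht => by
    obtain ⟨k, rfl⟩ := isConj_iff.1 ht
    exact hc k
  exact Pr.false ⟨h, h.cj g, xd, wc, wc.cj g, isConj_iff.2 ⟨g, rfl⟩, c, n⟩

end Cfsg.Agent.F22L
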