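import Mathlib
import Cfsg.Agent.TT.Pt.OutRow
import Cfsg.Agent.S5470
import Cfsg.Agent.S1259
import Cfsg.Agent.TT.Tilde
import Cfsg.Agent.TT.TypeM

/-! Involutions of a group of type `M(22)` and of its automorphism group. -/

set_option autoImplicit false
set_option maxRecDepth 100000

namespace Cfsg.Agent.F22L

open Subgroup TT TT.Pt TT.Pt.M22

variable {G : Type*} [Group G] [Finite G] {D : Set G}

theorem out3 (h : M22g D) (hg : closure D = ⊤) (hZ : center G = ⊥) {β : MulAut G}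
    (h2 : β * β = 1) (hn : ∀ g, β ≠ MulAut.conj g) : ∃ a : Fin 3 → G, (∀ i, a i ∈ D) ∧
      (∀ i j, Commute (a i) (a j)) ∧ (∀ i j, Commute (a i) (β (a j))) ∧ (∀ i, β (a i) ≠ a i) ∧
      (∀ i j, i ≠ j → β (a i * a j) ≠ a i * a j) ∧ β (a 0 * a 1 * a 2) ≠ a 0 * a 1 * a 2 := by
  obtain ⟨M⟩ : Nonempty (FM G D E.n T) := fm h hg hZ
  obtain ⟨hA, α, hα⟩ := M.exists_aut (ok.aut 32) sig_out
    (by rw [h.card_aut hg hZ, card M]; norm_num)
  replace hα : ∀ x g, M.ρ (α x g) = x.1 * M.ρ g * x.1⁻¹ := hα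
  have ha : 550 < E.n := by decide +kernel
  obtain ⟨d, hd, e⟩ := h.exists_fixed (h.fiso_aut hg hZ β) fun y _ => by
    rw [← MulAut.mul_apply, h2]; rfl
  obtain ⟨p, hp, rfl⟩ := M.exists_pt hd
  obtain ⟨x, rfl⟩ := α.surjective β
  have e1 := hα x (M.τ p)
  rw [e, M.map p hp, Aut.conj x.2 hp] at e1
  rw [← map_mul, α.map_eq_one_iff] at h2
  obtain ⟨g, hg', u, hu, e3⟩ := cls (hA.trans (by rw [card M])) (fun q hq => by
      obtain ⟨k, -, hk⟩ := h.1.conn _ (M.τ_mem ha) _ (M.τ_mem hq)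
      exact ⟨_, M.aut k, M.τ_inj (M.lt k ha) hq ((M.conj k ha).symm.trans hk)⟩)
    x.2 (fun c => by
      obtain ⟨k, hk⟩ := M.exists_of_inn c
      exact hn k (MulEquiv.ext fun y => M.inj (by
        rw [hα, MulAut.conj_apply, map_mul, map_mul, map_inv, hk])))
    (congrArg Subtype.val h2) hp (M.sp.inj _ hp _ (Aut.lt x.2 hp) e1).symm
  let F : G →* Equiv.Perm ℕ := (MulAut.conj g).toMonoidHom.comp M.ρ
  have F1 : Function.Injective F := (MulAut.conj g).injective.comp M.inj
  have F2 : ∀ y, F (α x y) * E.val π u = E.val π u * F y := fun y => by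
    simp [F, hα, ← e3, mul_assoc]
  have F3 : E.val π u * E.val π u = 1 := by
    rw [← e3, conj_mul, show x.1 * x.1 = 1 from congrArg Subtype.val h2]; simp
  let q : Fin 3 → ℕ := ![1562, 116, 594]
  have q1 : ∀ i, q i < E.n := by decide +kernel
  have F4 : ∀ i, F (M.τ (g⁻¹ (q i))) = E.val π [64 + q i] := fun i => by
    have := Aut.lt (inv_mem hg') (q1 i)
    change g * M.ρ _ * g⁻¹ = _
    rw [M.map _ this, Aut.conj hg' this, ok.val_tau (q1 i)]
    simp
  have k1 : ∀ y w, F y = E.val π w → E.new (u ++ w) (w ++ u) = true → α x y ≠ y :=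
    fun y w c c' e => ok.new c' (by
      rw [Env.val_append, Env.val_append, ← c, ← F2, e])
  have k2 : ∀ u ∈ [[32], xa, xb], (∀ i j, E.eqw ([64 + q i] ++ [64 + q j])
      ([64 + q j] ++ [64 + q i]) = true ∧ E.eqw ([64 + q i] ++ (u ++ [64 + q j] ++ u))
      (u ++ [64 + q j] ++ u ++ [64 + q i]) = true ∧
      E.new (u ++ [64 + q i]) ([64 + q i] ++ u) = true ∧ (i ≠ j →
      E.new (u ++ ([64 + q i] ++ [64 + q j])) ([64 + q i] ++ [64 + q j] ++ u) = true)) ∧
      E.new (u ++ ([64 + q 0] ++ [64 + q 1] ++ [64 + q 2]))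
        ([64 + q 0] ++ [64 + q 1] ++ [64 + q 2] ++ u) = true := by decide +kernel
  obtain ⟨k3, k4⟩ := k2 u hu
  refine ⟨fun i => M.τ (g⁻¹ (q i)), fun i => M.τ_mem (Aut.lt (inv_mem hg') (q1 i)),
    fun i j => F1 ?_, fun i j => F1 ?_, fun i => k1 _ _ (F4 i) (k3 i i).2.2.1,
    fun i j c => k1 _ _ (by simp only [map_mul, F4, Env.val_append]) ((k3 i j).2.2.2 c),
    k1 _ _ (by simp only [map_mul, F4, Env.val_append]) k4⟩
  · simpa only [map_mul, F4, Env.val_append] using ok.eqw (k3 i j).1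
  · simpa only [Env.val_append, ← F4, ← F2, mul_assoc _ (E.val π u) (E.val π u), F3, mul_one,
      map_mul] using ok.eqw (k3 i j).2.1

theorem pCore_le {H : Type*} [Group H] [Finite H] (hq : IsQuasisimple H) (p : ℕ) [Fact p.Prime] :
    pCore p H ≤ center H := by
  refine (S1259.result hq _ (Normal.isSubnormal inferInstance)).resolve_left fun c => ?_
  have h1 : IsPGroup p H := (c ▸ Grp.pCore_isPGroup p H : IsPGroup p (⊤ : Subgroup H)).of_equiv
    topEquiv
  have := h1.isNilpotent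
  have := hq.2
  have := hq.1
  exact Group.IsPerfect.not_isNilpotent (H ⧸ center H) inferInstance

theorem mem_or (h : M22g D) (hg : closure D = ⊤) (hZ : center G = ⊥) {d y : G} (hd : d ∈ D)
    (hq : IsQuasisimple (centralizer ({d} : Set G))) (c : Commute d y) (y2 : y * y = 1)
    (y1 : y ≠ 1) {P : Subgroup G} (hP : Nat.card P = 81)
    (hc : ∀ p ∈ P, Commute p d ∧ Commute p y) : y ∈ D ∨ d * y ∈ D := by
  have := Fact.mk Nat.prime_two
  have := Fact.mk Nat.prime_three
  have hT := h.1.toIsTT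
  have key : ∀ a b c, CL D [a, b, c] → (∀ p ∈ P, Commute p (a * b * c)) → False :=
    fun a b c hl h1 => by
      have h2 := hl.nodup
      simp only [List.nodup_cons, List.mem_cons, not_or, List.not_mem_nil] at h2
      rw [h.centralizer_eq hg hZ hd] at hq
      have h3 := S5470.result ⟨hT.tt, fun g x hx => hT.conj_mem (hg ▸ mem_top g) hx, hg⟩
        h.1.primitive d hd (pCore_le hq 3) (pCore_le hq 2) (h.isOfType hg hZ) a b c
        (hl.mem _ (by simp)) (hl.mem _ (by simp)) (hl.mem _ (by simp)) h2.1.1 h2.1.2.1 h2.2.1.1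
        (hl.comm _ (by simp) _ (by simp)) (hl.comm _ (by simp) _ (by simp))
        (hl.comm _ (by simp) _ (by simp))
      have h4 := card_dvd_of_le (show P ≤ centralizer {a * b * c} from fun p hp =>
        mem_centralizer_singleton_iff.2 (h1 p hp))
      rw [hP, h3] at h4
      norm_num at h4
  obtain ⟨l, hl, h3, e⟩ := h.exists_CL_of_sq (x := y) (hg ▸ mem_top y) (y2 ▸ SameOn.refl _ _)
  replace e := e.eq hg hZ
  match l, hl, h3, e with
  | [], _, _, e => exact absurd e y1
  | [a], hl, _, e => exact Or.inl (by simpa [e] using hl.mem a (by simp))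
  | [a, b, c], hl, _, e => exact (key a b c hl fun p hp => by
      simpa [e, mul_assoc] using (hc p hp).2).elim
  | [a, b], hl, _, e =>
    have h4 := fun x => hl.commute_of_prod hT (by simp) hd (e ▸ c) (a := x)
    by_cases c1 : a = d
    · exact Or.inr (by simpa [e, c1, TT.mul_cancel_left hT.tt hd] using hl.mem b (by simp))
    by_cases c2 : b = d
    · rw [hl.prod_perm (List.Perm.swap _ _ _)] at e
      exact Or.inr (by simpa [e, c2, TT.mul_cancel_left hT.tt hd] using hl.mem a (by simp))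
    refine (key d a b (CL.cons_iff.2 ⟨hd, hl.nodup, ?_, hl.comm⟩) fun p hp => ?_).elim
    · simp only [List.forall_mem_cons]
      exact ⟨⟨hl.mem a (by simp), c1, h4 a (by simp)⟩, ⟨hl.mem b (by simp), c2, h4 b (by simp)⟩,
        by simp⟩
    · simpa [e, mul_assoc] using (hc p hp).1.mul_right (hc p hp).2

end Cfsg.Agent.F22L
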