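import Mathlib
import Cfsg.Agent.TT.TildePost

/-! A graph on a class of involutions which is locally the unitary space. -/

set_option autoImplicit false

namespace Cfsg.Agent.F22L

open Subgroup TT

variable {G : Type*} [Group G]

/-- A unitary space in the centralizer of `d`. -/
structure AH (d : G) (T : Set G) : Prop where
  sq : d * d = 1
  ne : d ≠ 1
  hU : IsU T 6
  comm : ∀ t ∈ T, t ≠ d ∧ Commute d t
  inv : ∀ k, Commute k d → ∀ t ∈ T, k * t * k⁻¹ ∈ T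
  rot : ∃ a ∈ T, ∃ b ∈ T, ∃ t, t * d * t⁻¹ = a ∧ t * a * t⁻¹ = b ∧ t * b * t⁻¹ = d

/-- The neighbours of a conjugate of `d`. -/
def Tx (d : G) (T : Set G) (x : G) : Set G := {y | ∃ g, g * d * g⁻¹ = x ∧ g⁻¹ * y * g ∈ T}

/-- The component of `d`. -/
def Dl (d : G) (T : Set G) : Set G := {y | Relation.ReflTransGen (fun a b => b ∈ Tx d T a) d y}

theorem Tx.cj {d x y : G} {T : Set G} (h : y ∈ Tx d T x) (k : G) :
    k * y * k⁻¹ ∈ Tx d T (k * x * k⁻¹) :=
  let ⟨g, e, hg⟩ := h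
  ⟨k * g, by rw [← e]; group, by simpa [mul_assoc] using hg⟩

theorem reach_cj {d x y : G} {T : Set G} (h : Relation.ReflTransGen (fun a b => b ∈ Tx d T a) x y)
    (k : G) : Relation.ReflTransGen (fun a b => b ∈ Tx d T a) (k * x * k⁻¹) (k * y * k⁻¹) :=
  h.lift (fun x => k * x * k⁻¹) fun _ _ c => Tx.cj c k

theorem Dl.cj {d g x : G} {T : Set G} (hg : g * d * g⁻¹ ∈ Dl d T) (hx : x ∈ Dl d T) :
    g * x * g⁻¹ ∈ Dl d T := Relation.ReflTransGen.trans hg (reach_cj hx g)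

namespace AH

variable {d : G} {T : Set G} (h : AH d T)
include h

theorem mem_Tx {g y : G} : g * y * g⁻¹ ∈ Tx d T (g * d * g⁻¹) ↔ y ∈ T := by
  refine ⟨fun ⟨k, e, hk⟩ => ?_, fun c => ⟨g, rfl, by simpa [mul_assoc] using c⟩⟩
  have := h.inv (g⁻¹ * k) (commute_of_conj_eq (by rw [← conj_inj g, ← e]; group)) _ hk
  simpa [mul_assoc] using this

theorem Tx_d : Tx d T d = T := Set.ext fun y => by simpa using h.mem_Tx (g := 1) (y := y)

theorem isU (g : G) : IsU (Tx d T (g * d * g⁻¹)) 6 := by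
  have e : Tx d T (g * d * g⁻¹) = (MulAut.conj g).toMonoidHom '' T := Set.ext fun y => by
    obtain ⟨y, rfl⟩ := (MulAut.conj g).surjective y
    exact h.mem_Tx.trans (MulAut.conj g).injective.mem_set_image.symm
  rw [e]
  exact h.hU.of_feq ⟨_, fiso_hom _ (MulAut.conj g).injective.injOn⟩
    (h.hU.tt.image _ fun x hx => by simpa using ne_one h.hU.tt.tt hx)

theorem comm' {c : G} (hc : c ∈ closure T) : Commute c d :=
  (commute_of_mem_closure (fun t ht => (h.comm t ht).2) hc).symm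

theorem of_Tx {x y : G} (c : y ∈ Tx d T x) :
    y ∈ conjugatesOf d ∧ y ≠ x ∧ Commute x y ∧ x ∈ Tx d T y := by
  obtain ⟨a, ha, b, hb, t, e1, e2, e3⟩ := h.rot
  obtain ⟨g, rfl, hg⟩ := c
  obtain ⟨c, hc, e⟩ := (h.hU.prim (by norm_num)).conn a ha _ hg
  obtain rfl : y = g * c * t * d * (g * c * t)⁻¹ := by
    rw [← conj_inj g⁻¹, inv_inv, ← e, ← e1]; group
  have e4 : g * d * g⁻¹ = g * c * t * b * (g * c * t)⁻¹ := by
    rw [← conj_eq_of_commute (h.comm' hc), ← e3]; group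
  rw [e4]
  exact ⟨isConj_iff.2 ⟨_, rfl⟩, fun c => (h.comm b hb).1 ((conj_inj _).1 c).symm,
    (commute_conj_iff' _ _ _).2 (h.comm b hb).2.symm, h.mem_Tx.2 hb⟩

variable [Finite G]

theorem tri {x y : G} (c : y ∈ Tx d T x) : loc (Tx d T x) y ⊆ Tx d T y := fun w hw => by
  obtain ⟨a, ha, b, hb, t, e1, e2, e3⟩ := h.rot
  obtain ⟨g, rfl, hg⟩ := c
  obtain ⟨y, rfl⟩ := (MulAut.conj g).surjective y
  obtain ⟨w, rfl⟩ := (MulAut.conj g).surjective w
  refine Tx.cj ?_ g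
  obtain ⟨c, hc, rfl, rfl⟩ := (h.hU.prim (by norm_num)).exists_conj_pair ha (b := b)
    ⟨hb, by rw [← e2, ← e1, Ne, conj_inj, e1]; exact (h.comm a ha).1, by
      rw [← e2, ← e1, commute_conj_iff', e1]; exact (h.comm a ha).2⟩
    (show y ∈ T by simpa [mul_assoc] using hg) (show w ∈ loc T y from ⟨h.mem_Tx.1 hw.1,
      fun c => hw.2.1 (c ▸ rfl), (commute_conj_iff' g _ _).1 hw.2.2⟩)
  refine Tx.cj ?_ c
  rw [← e2, ← e1, h.mem_Tx, e1]
  exact ha

theorem adj {f x y : G} (hx : x ∈ Tx d T f) (hy : y ∈ Tx d T f) (c : Commute x y) :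
    y = x ∨ y ∈ Tx d T x := or_iff_not_imp_left.2 fun e => h.tri hx ⟨hy, e, c⟩

theorem near {x y : G} (c : Relation.ReflTransGen (fun a b => b ∈ Tx d T a) x y) :
    ∃ f, (x = f ∨ x ∈ Tx d T f) ∧ (y = f ∨ y ∈ Tx d T f) := by
  induction c with
  | refl => exact ⟨x, Or.inl rfl, Or.inl rfl⟩
  | @tail b e _ he ih =>
    obtain ⟨f, h1, h2⟩ := ih
    by_cases c : x = b ∨ x ∈ Tx d T b
    · exact ⟨b, c, Or.inr he⟩
    replace h2 := h2.resolve_left fun e => c (e ▸ h1)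
    replace h1 := h1.resolve_left fun e => c (Or.inr (e ▸ (h.of_Tx h2).2.2.2))
    obtain ⟨g, rfl, -⟩ := id h1
    obtain ⟨k, rfl, -⟩ := id he
    obtain ⟨f, hf, c1, c2⟩ := diam22 (h.isU g) (h.isU k) h2 (h.tri h2) h1
      (fun e => c (h.adj h2 h1 e)) he
    exact ⟨f, h.adj hf.1 h1 c1.symm, h.adj (h.tri h2 hf) he c2.symm⟩

omit [Finite G] in
theorem reach {x y : G} (hx : x ∈ Dl d T) (hy : y ∈ Dl d T) :
    Relation.ReflTransGen (fun a b => b ∈ Tx d T a) x y := by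
  induction hx with
  | refl => exact hy
  | tail _ c ih => exact ih.head (h.of_Tx c).2.2.2

omit [Finite G] in
theorem sub {x : G} (hx : x ∈ Dl d T) : x ∈ conjugatesOf d := by
  rcases hx.cases_tail with c | ⟨_, -, c⟩
  exacts [c ▸ IsConj.refl _, (h.of_Tx c).1]

theorem loc_eq {x : G} (hx : x ∈ Dl d T) : loc (Dl d T) x = Tx d T x := by
  refine Set.ext fun y => ⟨fun hy => ?_, fun hy =>
    ⟨Relation.ReflTransGen.tail hx hy, (h.of_Tx hy).2.1, (h.of_Tx hy).2.2.1⟩⟩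
  obtain ⟨f, rfl | h1, rfl | h2⟩ := h.near (h.reach hx hy.1)
  · exact absurd rfl hy.2.1
  · exact h2
  · exact (h.of_Tx h1).2.2.2
  · exact (h.adj h1 h2 hy.2.2).resolve_left hy.2.1

theorem tt : IsTT (Dl d T) := by
  have hs : ∀ x ∈ Dl d T, x * x = 1 ∧ x ≠ 1 := fun x hx => by
    obtain ⟨g, rfl⟩ := isConj_iff.1 (h.sub hx)
    exact ⟨by rw [conj_mul, h.sq]; simp, by simpa using h.ne⟩
  refine ⟨⟨fun x hx => orderOf_eq_two_of (hs x hx).2 (hs x hx).1, fun x hx y hy => ?_⟩,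
    fun a ha b hb => ?_⟩
  · by_cases c : Commute x y
    · left
      rw [c.mul_pow, pow_two, pow_two, (hs x hx).1, (hs y hy).1, one_mul]
    obtain ⟨f, rfl | h1, rfl | h2⟩ := h.near (h.reach hx hy)
    · exact absurd (Commute.refl _) c
    · exact absurd (h.of_Tx h2).2.2.1 c
    · exact absurd (h.of_Tx h1).2.2.1.symm c
    · obtain ⟨g, rfl, -⟩ := id h1
      exact (h.isU g).tt.tt.2 x h1 y h2
  · have := reach_cj (h.reach ha hb) a
    rw [mul_inv_cancel_right, inv_eq_of_mul_self (hs a ha).1] at this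
    exact Relation.ReflTransGen.trans ha this

theorem m22g : M22g (Dl d T) := by
  have h1 : ∀ t ∈ Dl d T, IsU (loc (Dl d T) t) 6 := fun t ht => by
    rw [h.loc_eq ht]
    obtain ⟨g, rfl⟩ := isConj_iff.1 (h.sub ht)
    exact h.isU g
  have hd : d ∈ Dl d T := Relation.ReflTransGen.refl
  refine (prim_of_loc h.tt ⟨d, hd⟩ (fun P hP a ha b hb c => ?_) fun t ht =>
    let k := (h1 t ht).prim (by norm_num)
    ⟨k.conn, k.wide, k.wtriv⟩).m22g_of_loc hd (h1 d hd)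
  have := h.reach ha hb
  induction this with
  | refl => exact c
  | @tail x y h2 h3 ih =>
    have h4 : x ∈ Dl d T := Relation.ReflTransGen.trans ha h2
    exact hP x h4 y hb (h.of_Tx h3).2.2.1 (ih h4)

end AH

end Cfsg.Agent.F22L
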