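import Mathlib
import Cfsg.Agent.TT.TildeEnd

/-! Connectedness of a class of involutions, with the normalizer of the component. -/

set_option autoImplicit false

namespace Cfsg.Agent.F22L

open Subgroup TT

variable {G : Type*} [Group G]

/-- The hypotheses on the commuting component `Δ` of `d` in its conjugacy class. -/
structure EndM (d : G) (Δ : Set G) (M₀ : Subgroup G) : Prop where
  eq : Δ = ccpt (conjugatesOf d) d
  prim : Prim Δ
  cent : centralizer {d} ≤ M₀
  le : closure Δ ≤ M₀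
  nrm : ∀ g ∈ M₀, ∀ x ∈ Δ, g * x * g⁻¹ ∈ Δ
  fix : ∀ x ∈ M₀, x * x = 1 → ∃ e ∈ Δ, Commute x e
  uf : ∀ a b c e, CL Δ [a, b] → CL Δ [c, e] → a * b = c * e → c = a ∨ c = b
  odd : ∃ l, CL Δ l ∧ Odd l.length ∧ 2 ≤ l.length ∧ l.prod = 1

namespace EndM

variable {d : G} {Δ : Set G} {M₀ : Subgroup G} (h : EndM d Δ M₀)
include h

theorem sub {x : G} (hx : x ∈ Δ) : x ∈ conjugatesOf d := (h.eq ▸ hx).1

theorem self : d ∈ Δ := h.eq ▸ self_mem_ccpt (IsConj.refl d)

theorem mem_of_commute {e x : G} (he : e ∈ Δ) (hx : x ∈ conjugatesOf d) (hc : Commute e x) :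
    x ∈ Δ := h.eq ▸ mem_ccpt_of_commute (h.eq ▸ he) hx hc

theorem sq {x : G} (hx : x ∈ conjugatesOf d) : x * x = 1 := by
  obtain ⟨g, rfl⟩ := isConj_iff.1 hx
  simp [mul_assoc, mul_cancel_left h.prim.tt h.self]

theorem mem_of_conj {e g : G} (he : e ∈ Δ) (hg : g * e * g⁻¹ ∈ Δ) : g ∈ M₀ := by
  obtain ⟨a, ha, rfl⟩ := h.prim.conn d h.self e he
  obtain ⟨b, hb, e⟩ := h.prim.conn d h.self _ hg
  have : b⁻¹ * g * a ∈ M₀ := h.cent (mem_centralizer_singleton_iff.2
    (commute_of_conj_eq (by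
      rw [← conj_inj b, e]; group)).eq)
  simpa [mul_assoc] using mul_mem (mul_mem (h.le hb) this) (inv_mem (h.le ha))

theorem mem_of_mem {x : G} (hx : x ∈ conjugatesOf d) (hx' : x ∈ M₀) : x ∈ Δ :=
  let ⟨_, he, hc⟩ := h.fix x hx' (h.sq hx)
  h.mem_of_commute he hx hc.symm

theorem ccpt_eq {e : G} (he : e ∈ Δ) : ccpt (conjugatesOf d) e = Δ :=
  h.eq ▸ ccpt_eq_of_mem (IsConj.refl d) (h.eq ▸ he)

theorem map_conj {l : List G} (hl : CL Δ l) {g : G} (hg : g ∈ M₀) :
    CL Δ (l.map fun x => g * x * g⁻¹) :=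
  ⟨hl.nodup.map fun _ _ => (conj_inj g).1, by simpa using fun a ha => h.nrm g hg a (hl.mem a ha),
    by simpa using fun a ha b hb => (commute_conj_iff' g a b).2 (hl.comm a ha b hb)⟩

variable [Finite G]

theorem cent_pair' {e e' : G} {r : List G} (hl : CL Δ (e :: e' :: r)) (ho : Odd r.length)
    (h1 : (e :: e' :: r).prod = 1) {g : G} (hg : Commute g (e * e')) : g ∈ M₀ := by
  classical
  have hT := h.prim.toIsTT
  have he := hl.mem e (by simp)
  have he' := hl.mem e' (by simp)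
  have hee : Commute e e' := hl.comm e (by simp) e' (by simp)
  have hne : e ≠ e' := fun c => by simpa [c] using hl.nodup
  have hp : CL Δ [e, e'] := ⟨by simpa using hne, by simp [he, he'], by simp [hee, hee.symm]⟩
  let K := centralizer ({e * e'} : Set G)
  have hK : ∀ {x}, x ∈ K ↔ Commute x (e * e') := mem_centralizer_singleton_iff
  have hl' : ∀ p ∈ e :: e' :: r, p ∈ K := fun p hp =>
    hK.2 ((hl.comm p hp e (by simp)).mul_right (hl.comm p hp e' (by simp)))
  let w : K := ⟨e * e', hK.2 (Commute.refl _)⟩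
  have hw : w * w = 1 := Subtype.ext (by simpa using hp.prod_sq hT)
  have hN : (zpowers w).Normal := ⟨fun n hn k => by
    have : Commute k n := by
      obtain ⟨i, rfl⟩ := hn
      exact Commute.zpow_right (show k * w = w * k from Subtype.ext (hK.1 k.2).eq) i
    rwa [conj_eq_of_commute this]⟩
  have hq : ∀ x y : K, (x : K ⧸ zpowers w) = y → (y : G) = x ∨ (y : G) = x * (e * e') := by
    intro x y hxy
    obtain ⟨i, hi⟩ := QuotientGroup.eq.1 hxy
    have hi' : x * w ^ i = y := by simp only [hi]; group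
    rcases Int.even_or_odd' i with ⟨j, rfl | rfl⟩
    · left; rw [← hi', zpow_mul, zpow_ofNat, _root_.sq, hw]; simp
    · right; rw [← hi', zpow_add, zpow_mul, zpow_ofNat, _root_.sq, hw]; simp [w]
  let M := ((M₀).subgroupOf K).map (QuotientGroup.mk' (zpowers w))
  have hM : ∀ x : K, (x : K ⧸ zpowers w) ∈ M ↔ (x : G) ∈ M₀ := fun x =>
    ⟨fun ⟨y, hy, e1⟩ => by
      rcases hq y x e1 with e2 | e2 <;> rw [e2]
      exacts [hy, mul_mem hy (h.le (mul_mem (subset_closure he) (subset_closure he')))],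
    fun hx => ⟨x, hx, rfl⟩⟩
  let f : G → K ⧸ zpowers w := fun x => if hx : x ∈ K then (⟨x, hx⟩ : K) else 1
  have hf : ∀ x (hx : x ∈ K), f x = (⟨x, hx⟩ : K) := fun x hx => dif_pos hx
  have hcomm : ∀ x y : K, Commute (x : K ⧸ zpowers w) y →
      (x : G) * y * (x : G)⁻¹ = y ∨ (x : G) * y * (x : G)⁻¹ = y * (e * e') := fun x y hxy =>
    hq y (x * y * x⁻¹) (by simp [conj_eq_of_commute hxy])
  refine (hM ⟨g, hK.2 hg⟩).1 (eq_top_of_isolated M (u := f e) (l := (e :: e' :: r).map f)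
    ⟨?_, fun k hk => ?_⟩ (by simp) ?_ ?_ (by simpa [Nat.odd_add_one] using ho) ?_ ?_ ?_ _)
  · rw [hf e (hl' e (by simp))]
    refine orderOf_eq_two_of (fun c => ?_) ?_
    · rcases hq 1 _ c.symm with c | c
      · exact ne_one hT.tt he c
      · exact ne_one hT.tt he' (by simpa using c)
    · rw [← QuotientGroup.mk_mul]
      exact congrArg _ (Subtype.ext (hT.sq he))
  · obtain ⟨k, rfl⟩ := QuotientGroup.mk_surjective k
    rw [hf e (hl' e (by simp))] at hk ⊢
    have hx := conj_mem_conjugatesOf (h.sub he) k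
    have h2 : Commute e (k * e * (k : G)⁻¹) := by
      rcases hcomm (k * ⟨e, hl' e (by simp)⟩ * k⁻¹) ⟨e, hl' e (by simp)⟩
        (by simpa using hk.symm) with c | c
      · exact (commute_of_conj_eq c).symm
      · replace c : k * e * (k : G)⁻¹ * e * (k * e * (k : G)⁻¹)⁻¹ = e' := by
          rw [← mul_cancel_left hT.tt he e']; exact c
        have h3 := h.mem_of_mem hx (h.mem_of_conj he (c ▸ he'))
        by_contra hn
        exact not_commute_third_right hT.tt h3 he (fun c => hn c.symm)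
          (by rw [hT.inv h3] at c; rw [c]; exact hee)
    have h3 : k * e * (k : G)⁻¹ * (k * e' * (k : G)⁻¹) = e * e' := by
      rw [← conj_eq_of_commute (hK.1 k.2)]; group
    have h4 := h.mem_of_commute he hx h2
    have h5 := (commute_conj_iff' (k : G) e e').2 hee
    have h6 : CL Δ [k * e * (k : G)⁻¹, k * e' * (k : G)⁻¹] :=
      ⟨by simpa using hne, by
        simp only [List.mem_cons, List.not_mem_nil, or_false, forall_eq_or_imp, forall_eq]
        exact ⟨h4, h.mem_of_commute h4 (conj_mem_conjugatesOf (h.sub he') k) h5⟩, by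
        simp only [List.mem_cons, List.not_mem_nil, or_false, forall_eq_or_imp, forall_eq]
        exact ⟨⟨Commute.refl _, h5⟩, h5.symm, Commute.refl _⟩⟩
    rw [← QuotientGroup.mk_inv, ← QuotientGroup.mk_mul, ← QuotientGroup.mk_mul]
    rcases h.uf _ _ _ _ hp h6 h3.symm with c | c
    · exact congrArg _ (Subtype.ext c)
    · refine (QuotientGroup.eq.2 (mem_zpowers_iff.2 ⟨1, Subtype.ext ?_⟩)).symm
      simp only [zpow_one, coe_mul, coe_inv, c, hT.inv he, w]
  · intro p hp0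
    obtain ⟨p, hp, rfl⟩ := List.mem_map.1 hp0
    rw [hf p (hl' p hp), ← QuotientGroup.mk_mul]
    exact congrArg _ (Subtype.ext (hT.sq (hl.mem p hp)))
  · intro p hp0 q hq0
    obtain ⟨p, hp, rfl⟩ := List.mem_map.1 hp0
    obtain ⟨q, hq, rfl⟩ := List.mem_map.1 hq0
    rw [hf p (hl' p hp), hf q (hl' q hq)]
    exact Commute.map (x := (⟨p, hl' p hp⟩ : K)) (y := ⟨q, hl' q hq⟩)
      (Subtype.ext (hl.comm p hp q hq).eq) (QuotientGroup.mk' (zpowers w))
  · have : ∀ s : List G, (hs : ∀ p ∈ s, p ∈ K) →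
        (s.map f).prod = (⟨s.prod, K.list_prod_mem hs⟩ : K) := fun s hs => by
      induction s with
      | nil => rfl
      | cons a s ih =>
        rw [List.map_cons, List.prod_cons, ih fun p hp => hs p (by simp [hp]),
          hf a (hs a (by simp)), ← QuotientGroup.mk_mul]
        rfl
    rw [this _ hl']
    exact congrArg _ (Subtype.ext h1)
  · intro p hp0 k hk
    obtain ⟨p, hp, rfl⟩ := List.mem_map.1 hp0
    obtain ⟨k, rfl⟩ := QuotientGroup.mk_surjective k
    rw [hf p (hl' p hp)] at hk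
    refine (hM k).2 (h.mem_of_conj (hl.mem p hp) (h.mem_of_commute (hl.mem p hp)
      (conj_mem_conjugatesOf (h.sub (hl.mem p hp)) k) ?_))
    rcases hcomm k _ hk with c | c <;> rw [c]
    exact (Commute.refl p).mul_right (hK.1 (hl' p hp))
  · intro k hk
    obtain ⟨k, rfl⟩ := QuotientGroup.mk_surjective k
    rw [hf e (hl' e (by simp)), ← QuotientGroup.mk_inv, ← QuotientGroup.mk_mul,
      ← QuotientGroup.mk_mul, hM] at hk
    exact (hM k).2 (h.mem_of_conj he (h.mem_of_mem (conj_mem_conjugatesOf (h.sub he) k) hk))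

/-- The centralizer of the product of two commuting points of `Δ` normalizes `Δ`. -/
theorem cent_pair {a b g : G} (ha : a ∈ Δ) (hb : b ∈ loc Δ a) (hg : Commute g (a * b)) :
    g ∈ M₀ := by
  obtain ⟨l, h1, h2, h3, h4⟩ := h.odd
  match l, h1, h2, h3, h4 with
  | e :: e' :: r, h1, h2, _, h4 =>
  obtain ⟨k, hk, rfl, rfl⟩ := h.prim.exists_conj_pair (CL.cons_iff.1 h1).1
    ((CL.cons_iff.1 h1).2.mem e' (by simp)) ha hb
  have := h.cent_pair' h1 (by simpa [Nat.odd_add_one] using h2) h4 (g := k⁻¹ * g * k) (by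
    rw [← commute_conj_iff' k]
    convert hg using 1 <;> group)
  simpa [mul_assoc] using mul_mem (mul_mem (h.le hk) this) (inv_mem (h.le hk))

theorem mem_ccpt_of_pair {a b f : G} (ha : a ∈ conjugatesOf d) (hb : b ∈ conjugatesOf d)
    (hf : f ∈ conjugatesOf d) (hne : b ≠ a) (hab : Commute a b) (hc : Commute f (a * b)) :
    f ∈ ccpt (conjugatesOf d) a := by
  obtain ⟨k, rfl⟩ := isConj_iff.1 ha
  have h1 : Commute d (k⁻¹ * b * k⁻¹⁻¹) := by
    rw [← commute_conj_iff' k]; convert hab using 1; group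
  have h2 := h.mem_of_mem (conj_mem_conjugatesOf hf k⁻¹) (h.cent_pair h.self
    ⟨h.mem_of_commute h.self (conj_mem_conjugatesOf hb k⁻¹) h1, fun c => hne (by rw [← c]; group),
      h1⟩ (by rw [← commute_conj_iff' k]; convert hc using 1 <;> group))
  have := conj_mem_ccpt' k (h.eq ▸ h2)
  convert this using 1
  group

theorem odd_orderOf {e a : G} (he : e ∈ Δ) (ha : a ∈ conjugatesOf d) (haΔ : a ∉ Δ) :
    Odd (orderOf (e * a)) := by
  rw [← Nat.not_even_iff_odd]
  intro hev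
  have he2 := h.prim.toIsTT.sq he
  obtain ⟨k, h1, -, h3, h4, h5⟩ := exists_central_of_even_orderOf_mul he2 (h.sq ha) hev
  refine haΔ (h.ccpt_eq he ▸ h.mem_ccpt_of_pair (b := e * (e * a) ^ k) (h.sub he) ?_ ha
    (by simpa using h1) ((Commute.refl e).mul_right h3) (by rwa [← mul_assoc, he2, one_mul]))
  rcases h5 with ⟨m, c⟩ | ⟨m, c⟩ <;> rw [c]
  · simpa using conj_mem_conjugatesOf (h.sub he) ((e * a) ^ m)⁻¹
  · simpa using conj_mem_conjugatesOf ha ((e * a) ^ m)⁻¹

/-- The class of `d` is connected and generates. -/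
theorem eq_top (hsq : ∀ e ∈ Δ, ∀ e' ∈ Δ, Commute e e' → e * e' ∉ conjugatesOf d) (htri : ∀ l, CL Δ l → l.length = 3 →
      ∃ f ∈ Δ, ∃ g ∈ Δ, (∀ x ∈ l, Commute f x ∧ Commute g x) ∧ ¬ Commute f g) :
    Δ = conjugatesOf d ∧ M₀ = ⊤ := by
  have hT := h.prim.toIsTT
  suffices key : ∀ a ∈ conjugatesOf d, a ∈ Δ from
    ⟨Set.Subset.antisymm (fun _ => h.sub) key, eq_top_iff.2 fun g _ =>
      h.mem_of_conj h.self (key _ (conj_mem_conjugatesOf (IsConj.refl d) g))⟩
  intro a ha
  by_contra haΔ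
  obtain ⟨e, he, e', he', hne, hee⟩ := h.prim.wide
  have hi : e * e' * (e * e') = 1 := by
    rw [mul_assoc, ← mul_assoc e', ← hee.eq, mul_cancel_right hT.tt he', hT.sq he]
  have ha2 := h.sq ha
  rcases Nat.even_or_odd (orderOf (a * (e * e'))) with hev | hodd
  swap
  · obtain ⟨m, hm⟩ := conj_of_odd_orderOf_mul ha2 hi hodd
    exact hsq e he e' he' hee (hm ▸ conj_mem_conjugatesOf ha _)
  obtain ⟨k, h1, h2, h3, h4, h5⟩ := exists_central_of_even_orderOf_mul ha2 hi hev
  have h6 : ∀ m : ℕ, Commute ((a * (e * e')) ^ m) ((a * (e * e')) ^ k) := fun m =>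
    (Commute.refl _).pow_pow m k
  generalize (a * (e * e')) ^ k = w at h1 h2 h3 h4 h5 h6
  have hw : w ∈ M₀ := h.cent_pair he ⟨he', hne.symm, hee⟩ h4.symm
  rcases h5 with ⟨m, c⟩ | ⟨m, c⟩
  · obtain ⟨f, hf, hwf⟩ := h.fix w hw h2
    have := h.mem_ccpt_of_pair (b := a * w) ha
      (by simpa [c] using conj_mem_conjugatesOf ha ((a * (e * e')) ^ m)⁻¹) (h.sub hf)
      (by simpa using h1) ((Commute.refl a).mul_right h3)
      (by rw [← mul_assoc, ha2, one_mul]; exact hwf.symm)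
    exact haΔ (h.ccpt_eq hf ▸ (ccpt_eq_of_mem ha this).symm ▸ self_mem_ccpt ha)
  have h7 := h6 m
  generalize (a * (e * e')) ^ m = c₀ at c h7
  have h8 : e * e' * w = c₀ * a * c₀⁻¹ := by
    rw [show e * e' = c₀ * (a * w) * c₀⁻¹ by rw [c]; group, mul_assoc _ _ w, h7.inv_left.eq,
      mul_assoc, mul_assoc, ← mul_assoc w, h2]
    group
  have h9 : e * e' * w ∈ Δ := h.mem_of_mem (h8 ▸ conj_mem_conjugatesOf ha c₀)
    (mul_mem (h.le (mul_mem (subset_closure he) (subset_closure he'))) hw)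
  have hp : CL Δ [e, e'] := ⟨by simpa using hne, by simp [he, he'], by simp [hee, hee.symm]⟩
  have h10 : ∀ x ∈ [e, e'], Commute (e * e' * w) x := fun x hx =>
    hp.commute_of_prod hT (by simp) h9
      (by simpa using (Commute.refl (e * e')).mul_left (Commute.symm h4)) hx
  have h11 : e * e' * w * (e * e') = w := by rw [mul_assoc, ← h4, ← mul_assoc, hi, one_mul]
  have h12 : ∀ x ∈ Δ, w ≠ x := fun x hx c => haΔ (h.mem_of_commute hx ha (c ▸ Commute.symm h3))
  generalize e * e' * w = f₀ at h9 h10 h11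
  have hl : CL Δ [f₀, e, e'] := CL.cons_iff.2 ⟨h9, hp.nodup, fun x hx => ⟨hp.mem x hx, by
    rintro rfl
    rcases List.mem_pair.1 hx with rfl | rfl
    · exact h12 e' he' (by rw [← h11, mul_cancel_left hT.tt he])
    · exact h12 e he (by rw [← h11, hee.eq, mul_cancel_left hT.tt he']), h10 x hx⟩, hp.comm⟩
  have hpr : [f₀, e, e'].prod = w := by simpa using h11
  obtain ⟨f, hf, g, hg, h13, h14⟩ := htri _ hl rfl
  have h15 : ∀ x ∈ Δ, Commute x w → ∃ c, Commute c w ∧ c * x * c⁻¹ = a := fun x hx hxw =>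
    let ⟨m, hm⟩ := conj_of_odd_orderOf_mul (hT.sq hx) ha2 (h.odd_orderOf hx ha haΔ)
    ⟨_, (hxw.mul_left h3).pow_left m, hm⟩
  obtain ⟨c₁, h16, h17⟩ := h15 f hf (hpr ▸ CL.commute_prod fun x hx => (h13 x hx).1)
  obtain ⟨c₂, h18, h19⟩ := h15 f₀ h9 (hpr ▸ hl.mem_commute_prod (by simp))
  have h20 : c₁⁻¹ * c₂ * f₀ * (c₁⁻¹ * c₂)⁻¹ = f := by rw [← conj_inj c₁, h17, ← h19]; group
  have h21 := h.map_conj hl (h.mem_of_conj h9 (h20 ▸ hf))
  refine h14 (h21.commute_of_prod hT (by simp) hg ?_ (h20 ▸ List.mem_cons_self)).symm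
  rw [prod_map_conj, hpr, conj_eq_of_commute (h16.inv_left.mul_left h18), ← hpr]
  exact CL.commute_prod fun x hx => (h13 x hx).2

end EndM

end Cfsg.Agent.F22L
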