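import Mathlib
import Cfsg.Agent.F22L.AutA
import Cfsg.Agent.F22L.AutB
import Cfsg.Agent.F22L.AutC
import Cfsg.Agent.TT.TildeRows
import Cfsg.Agent.Loc3.Tools
import Cfsg.Agent.PLocal.Quasisimple

/-! Recognition of `Fi₂₂` and its automorphism group from the centralizer of a transposition. -/

set_option autoImplicit false

namespace Cfsg.Agent.F22L

open Subgroup TT

variable {G : Type*} [Group G] [Finite G] {d : G} {L : Subgroup G}

theorem exists_T (d2 : d * d = 1) (d1 : d ≠ 1) (hL : L ≤ centralizer {d}) (dL : d ∈ L)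
    (hq : IsQuasisimple L) (π : L →* PSU 6 Class.GF4 2) (hπ : Function.Surjective π)
    (hk : ∀ x : L, π x = 1 ↔ x.1 ∈ zpowers d) : ∃ T, IsU T 6 ∧ Subgroup.closure T = L ∧ d ∉ T ∧
      (∀ u ∈ L, u * u ≠ d) ∧ (∃ l, CL T l ∧ l.length = 6 ∧ l.prod = d) ∧
      ∀ y ∈ L, y * y = 1 → y ≠ 1 → y ≠ d → ∀ P ≤ L, Nat.card P = 81 → (∀ p ∈ P, Commute p y) →
        ∀ u ∈ L, u * u = d * y → y ∈ T := by
  have := fi22_finite
  have h := fi22D_geom
  have hg := fi22D_class.2.2
  obtain ⟨d₁, hd₁⟩ := h.1.nonempty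
  obtain ⟨σ, h1, h2⟩ := h.exists_covers hg fi22_center hd₁
  obtain ⟨ψ, hψ⟩ := DCov.exists_equiv (MulEquiv.refl _) multBound_psu6 (n := 3) le_rfl h1 h2
    (π := π) (w := ⟨d, dL⟩) ⟨hq.1, hπ, mem_center_iff.2 fun g =>
      Subtype.ext (mem_centralizer_singleton_iff.1 (hL g.2)), fun c => d1 (congrArg Subtype.val c),
      Subtype.ext d2, fun x => by
        rw [hk, Loc3.mem_zpowers_two d2, Subtype.ext_iff, Subtype.ext_iff]; rfl⟩
  let ι := L.subtype.comp ψ.toMonoidHom
  have hι : Function.Injective ι := Subtype.val_injective.comp ψ.injective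
  have hs : ∀ y ∈ L, ∃ x, ι x = y := fun y hy => ⟨ψ.symm ⟨y, hy⟩, by simp [ι]⟩
  have hz : ι ⟨d₁, mem_centralizer_singleton_iff.2 rfl⟩ = d := congrArg Subtype.val hψ
  have hc := h.centralizer_eq hg fi22_center hd₁
  have hT : loc fi22D d₁ ⊆ centralizer ({d₁} : Set _) := hc ▸ subset_closure
  have h3 := (h.1.toIsTT.loc d₁).preimage (centralizer ({d₁} : Set _))
  have ns : ∀ e ∈ fi22D, ∀ u, u * u ≠ e := fun e he u c =>
    h.not_sq hg fi22_center he ⟨u, by rw [pow_two, c]⟩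
  refine ⟨ι '' ((↑) ⁻¹' loc fi22D d₁), (h.2.1 d₁ hd₁).of_feq
    ((FEq.symm ⟨_, fiso_subtype _ hT⟩ h3).trans ⟨_, fiso_hom ι hι.injOn⟩)
    (h3.image ι fun x hx c => ne_one h3.tt hx (hι (c.trans (map_one ι).symm))), ?_, ?_,
    fun u hu c => ?_, ?_, fun y hy y2 y1 yd P PL hP hc' u hu e => ?_⟩
  · rw [← MonoidHom.map_closure, show closure ((↑) ⁻¹' loc fi22D d₁ : Set (centralizer {d₁})) = ⊤
      from map_injective (Subgroup.subtype_injective _) (by
        rw [MonoidHom.map_closure, ← MonoidHom.range_eq_map, range_subtype, coe_subtype,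
          Set.image_preimage_eq_of_subset (by simpa using hT), ← hc]), ← MonoidHom.range_eq_map]
    exact le_antisymm (by rintro _ ⟨x, rfl⟩; exact (ψ x).2) hs
  · rw [← hz, hι.mem_set_image]
    exact fun c => c.2.1 rfl
  · obtain ⟨u, rfl⟩ := hs u hu
    rw [← hz, ← map_mul] at c
    exact ns _ hd₁ u (congrArg Subtype.val (hι c))
  · obtain ⟨v, v1, v2, v3, v4, -⟩ := (h.locD hg fi22_center hd₁).hex
    refine ⟨List.ofFn fun i => ι ⟨v i, hT (v1 i)⟩, ⟨List.nodup_ofFn.2 fun i j c =>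
      v2 (congrArg Subtype.val (hι c)), ?_, ?_⟩, by simp, ?_⟩
    · simp only [List.forall_mem_ofFn_iff]
      exact fun i => ⟨_, v1 i, rfl⟩
    · simp only [List.forall_mem_ofFn_iff]
      exact fun i j => Commute.map (Subtype.ext (v3 i j).eq) ι
    · simp only [List.ofFn_succ, List.ofFn_zero, List.prod_cons, List.prod_nil, mul_one,
        ← map_mul, ← hz]
      exact congrArg ι (Subtype.ext (by simpa [mul_assoc] using v4))
  · obtain ⟨y, rfl⟩ := hs y hy
    obtain ⟨u, rfl⟩ := hs u hu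
    rw [← hz, ← map_mul, ← map_mul] at e
    rw [← map_mul, map_eq_one_iff _ hι] at y2
    have c := (mem_centralizer_singleton_iff.1 y.2).symm
    refine ⟨y, ⟨(mem_or h hg fi22_center hd₁ (PLocal.qs_congr hq ψ.symm) c
      (congrArg Subtype.val y2) (fun c => y1 (by rw [show y = 1 from Subtype.ext c, map_one]))
      (P := (P.comap ι).map (Subgroup.subtype _)) ?_ ?_).resolve_right fun c =>
        ns _ c u (congrArg Subtype.val (hι e)), fun c => yd (hz ▸ congrArg ι (Subtype.ext c)), c⟩,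
      rfl⟩
    · rw [card_map_of_injective (Subgroup.subtype_injective _), ← card_map_of_injective hι,
        map_comap_eq_self fun x hx => hs x (PL hx), hP]
    · rintro _ ⟨p, hp, rfl⟩
      exact ⟨mem_centralizer_singleton_iff.1 p.2,
        ((commute_map_iff hι).1 (hc' _ hp)).map (Subgroup.subtype _)⟩

omit [Finite G] in
theorem sq_mem (two : ∀ x y, Commute x d → Commute y d → x ∉ L → y ∉ L → x * y ∈ L) {w x y : G}
    (hx : Commute x d) (hy : Commute y d) (e : x * x = w ∧ y * y = w ∧ x * y * (x * y) = w) :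
    ∃ u ∈ L, u * u = w := by
  by_cases c : x ∈ L
  · exact ⟨x, c, e.1⟩
  by_cases c' : y ∈ L
  exacts [⟨y, c', e.2.1⟩, ⟨_, two x y hx hy c c', e.2.2⟩]

theorem aut_end {T : Set G} (h : AH d T) (hL : closure T = L)
    (two : ∀ x y, Commute x d → Commute y d → x ∉ L → y ∉ L → x * y ∈ L)
    (hC : ∀ k, Commute k d → (∀ x ∈ L, Commute k x) → k ∈ zpowers d)
    (ns : ∀ u ∈ L, u * u ≠ d) (hex : ∃ l, CL T l ∧ l.length = 6 ∧ l.prod = d)
    {a b : G} (ha : a ∈ T) (hb : b ∈ loc T a)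
    (q2 : ∃ x y, x * x = d * a ∧ y * y = d * a ∧ x * y * (x * y) = d * a)
    (q3 : ∃ x y, x * x = d * a * b ∧ y * y = d * a * b ∧ x * y * (x * y) = d * a * b) :
    M22g (conjugatesOf d) ∧ centralizer (closure (conjugatesOf d) : Set G) = ⊥ := by
  have hm := h.m22g
  have hT := h.tt
  have hd : d ∈ Dl d T := Relation.ReflTransGen.refl
  have hl : loc (Dl d T) d = T := (h.loc_eq hd).trans h.Tx_d
  have LG : L ≤ closure (Dl d T) := hL ▸ closure_mono (hl.ge.trans (loc_subset _ _))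
  have h0 : ∀ k, (∀ x ∈ Dl d T, Commute k x) → k = 1 := fun k hk => by
    obtain ⟨x, hx, c⟩ := hm.1.exists_not_commute hd
    exact ((Loc3.mem_zpowers_two h.sq).1 (hC k (hk d hd) fun y hy =>
      commute_of_mem_closure hk (LG hy))).resolve_right fun e => c (e ▸ hk x hx)
  have same : ∀ {x y}, SameOn (Dl d T) x y → x = y := fun c =>
    (inv_mul_eq_one.1 (h0 _ (SameOn.one_iff.1 (SameOn.iff_inv_mul.1 c)))).symm
  have q8 : ∀ w ∈ conjugatesOf d, ∀ g w', g * w' * g⁻¹ = w →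
      ¬ ∃ x y, x * x = w' ∧ y * y = w' ∧ x * y * (x * y) = w' := by
    rintro _ hw g w rfl ⟨x, y, e⟩
    obtain ⟨k, hk⟩ := isConj_iff.1 ((isConj_iff.2 ⟨g, rfl⟩).trans (IsConj.symm hw))
    have e1 : ∀ u, u * u = w → Commute (k * u * k⁻¹) d ∧ k * u * k⁻¹ * (k * u * k⁻¹) = d :=
      fun u c => by
        rw [conj_mul, c, ← hk, commute_conj_iff', ← c]
        exact ⟨(Commute.refl u).mul_right (Commute.refl u), rfl⟩
    obtain ⟨u, hu, c⟩ := sq_mem two (e1 x e.1).1 (e1 y e.2.1).1 ⟨(e1 x e.1).2, (e1 y e.2.1).2, by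
      rw [conj_mul]; exact (e1 _ e.2.2).2⟩
    exact ns u hu c
  have cl : CL (Dl d T) [d, a, b] := CL.cons_iff.2 ⟨hd, hl.symm ▸ CL.cons_iff.2
    ⟨ha, CL.cons_iff.2 ⟨hb, CL.nil _⟩⟩⟩
  have sq : ∀ x ∈ conjugatesOf d, x * x = 1 ∧ x ≠ 1 := fun x hx => by
    obtain ⟨g, rfl⟩ := isConj_iff.1 hx
    exact ⟨by rw [conj_mul, h.sq]; simp, by simpa using h.ne⟩
  have inn : ∀ x ∈ conjugatesOf d, x ∈ closure (Dl d T) → x ∈ Dl d T := fun x hx hx' => by
    obtain ⟨l, h1, h3, e⟩ := hm.exists_CL_of_sq hx' ((sq x hx).1 ▸ SameOn.refl _ _)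
    replace e := same e
    match l, h1, h3, e with
    | [], _, _, e => exact absurd e (sq x hx).2
    | [u], h1, _, e => simpa [e] using h1.mem u (by simp)
    | [u, v], h1, _, e =>
      obtain ⟨g, -, c⟩ := hm.primTo.exists_conj (CL.left (l := [d, a]) cl) h1 (by simp) rfl
      exact (q8 x hx g _ (by rw [e, ← c, prod_map_conj]; simp) q2).elim
    | [u, v, w], h1, _, e =>
      obtain ⟨g, -, c⟩ := hm.primTo.exists_conj cl h1 (by simp) rfl
      exact (q8 x hx g _ (by rw [e, ← c, prod_map_conj]; simp [mul_assoc]) q3).elim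
  have uf : ∀ a b c e, CL (Dl d T) [a, b] → CL (Dl d T) [c, e] → a * b = c * e → c = a ∨ c = b :=
    fun a b c e h1 h2 h3 => by
      simpa using hm.primTo.subset_of_sameOn h1 h2 (by simp) (by simp)
        (SameOn.of_eq (by simpa using h3)) (e := c) (by simp)
  let M : Subgroup G :=
    { carrier := {g | g * d * g⁻¹ ∈ Dl d T}
      one_mem' := by simpa using hd
      mul_mem' := fun {x y} hx hy => by simpa [mul_assoc] using Dl.cj hx hy
      inv_mem' := fun {x} hx => by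
        obtain ⟨g, hg, e⟩ := hm.1.conn _ hx _ hd
        simpa [mul_assoc] using Dl.cj (g := x⁻¹ * g⁻¹) (by
          rw [conj_eq_of_commute (by
            simpa using (commute_of_conj_eq (g := g * x) (Eq.trans (by group) e)).inv_left)]
          exact hd) (hT.conj_mem hg hd) }
  have nrm : ∀ g ∈ M, ∀ x ∈ Dl d T, g * x * g⁻¹ ∈ Dl d T := fun g hg x hx => Dl.cj hg hx
  have GM : closure (Dl d T) ≤ M := fun g hg => hT.conj_mem hg hd
  have KM : centralizer {d} ≤ M := fun g hg => show _ ∈ Dl d T by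
    rwa [conj_eq_of_commute (mem_centralizer_singleton_iff.1 hg)]
  have out : ∀ y ∈ conjugatesOf d, y ∈ M → y ∈ Dl d T := fun y hy yM => inn y hy (by
    by_contra c
    have hN : M ≤ normalizer (closure (Dl d T) : Set G) := fun g hg => mem_normalizer_iff.2 fun x =>
      ⟨conj_mem_closure (nrm g hg), fun c => by
        simpa [mul_assoc] using conj_mem_closure (nrm _ (inv_mem hg)) c⟩
    have g1 := hT.group
    obtain ⟨v, v1, v2, v3, v4, v5, v6⟩ := out3 (hm.of_feq (FEq.symm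
      ⟨_, fiso_subtype (closure (Dl d T)) subset_closure⟩ (isTT_of_group g1)) (isTT_of_group g1))
      g1.2.2 (eq_bot_iff.2 fun k hk => Subtype.ext (h0 k fun x hx => congrArg Subtype.val
        (mem_center_iff.1 hk ⟨x, subset_closure hx⟩).symm))
      (β := (closure (Dl d T)).normalizerMonoidHom ⟨y, hN yM⟩)
      (by rw [← map_mul]; exact (congrArg _ (Subtype.ext (sq y hy).1)).trans (map_one _))
      fun g e => c (by
        rw [← inv_mul_eq_one.1 (h0 (g.1⁻¹ * y) fun x hx => commute_of_conj_eq (by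
          have := congrArg (fun φ : MulAut _ => (φ ⟨x, subset_closure hx⟩).1) e
          change y * x * y⁻¹ = g * x * g.1⁻¹ at this
          rw [← conj_inj g.1, ← this]; group))]
        exact g.2)
    obtain ⟨g, rfl⟩ := isConj_iff.1 hy
    let u : Fin 3 → G := fun i => g⁻¹ * v i * g
    have e1 : ∀ x : closure (Dl d T), (closure (Dl d T)).normalizerMonoidHom ⟨_, hN yM⟩ x = x ↔
        Commute d (g⁻¹ * x * g) := fun x => by
      rw [Subtype.ext_iff, ← commute_conj_iff' g]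
      simpa [mul_assoc] using (⟨commute_of_conj_eq, conj_eq_of_commute⟩ :
        g * d * g⁻¹ * x * (g * d * g⁻¹)⁻¹ = x ↔ _)
    have u2 : ∀ i j, Commute (u i) (u j) ∧ Commute (u i) (d * u j * d⁻¹) := fun i j => by
      rw [← commute_conj_iff' g, ← commute_conj_iff' g (u i)]
      exact ⟨by simpa [u, mul_assoc] using (v2 i j).map (Subgroup.subtype _),
        by simpa [u, mul_assoc] using (v3 i j).map (Subgroup.subtype _)⟩
    have u3 : ∀ x ∈ closure (Set.range u), ∀ y ∈ closure (Set.range u),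
        Commute x y ∧ Commute x (d * y * d⁻¹) := fun x hx y hy => by
      have k : ∀ i, Commute (u i) y ∧ Commute (u i) (d * y * d⁻¹) := fun i =>
        ⟨commute_of_mem_closure (Set.forall_mem_range.2 fun j => (u2 i j).1) hy, by
          rw [← commute_conj_iff' d⁻¹]
          simpa [mul_assoc] using commute_of_mem_closure (g := d⁻¹ * u i * d)
            (Set.forall_mem_range.2 fun j => by
              rw [← commute_conj_iff' d]; simpa [mul_assoc] using (u2 i j).2) hy⟩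
      exact ⟨(commute_of_mem_closure (Set.forall_mem_range.2 fun i => (k i).1.symm) hx).symm,
        (commute_of_mem_closure (Set.forall_mem_range.2 fun i => (k i).2.symm) hx).symm⟩
    have u4 : ∀ x ∈ closure (Set.range u), x * x = 1 := fun x hx => by
      induction hx using closure_induction with
      | mem x hx =>
        obtain ⟨i, rfl⟩ := hx
        simp [u, mul_assoc, TT.mul_cancel_left hT.tt (v1 i)]
      | one => simp
      | mul x y hx hy h1 h2 => rw [(u3 y hy x hx).1.mul_mul_mul_comm, h1, h2, one_mul]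
      | inv x _ h1 => rw [← mul_inv_rev, h1, inv_one]
    have di := inv_eq_of_mul_self h.sq
    have u5 : ∀ x ∈ closure (Set.range u), ∀ y ∈ closure (Set.range u),
        x * d * x⁻¹ * (y * d * y⁻¹) = d * (x * y * d * (x * y)⁻¹) := fun x hx y hy => by
      have := (u3 x hx _ (mul_mem hx hy)).2.eq
      rw [mul_inv_rev, inv_eq_of_mul_self (u4 x hx), inv_eq_of_mul_self (u4 y hy)]
      rw [di] at this
      calc _ = x * (d * (x * y) * d) * y := by group
        _ = _ := by rw [this, mul_assoc _ x, (u3 x hx y hy).1.eq]; group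
    have u6 : ∀ x ∈ closure (Set.range u), Commute d (x * d * x⁻¹) := fun x hx => by
      simpa [commute_iff_eq] using (u5 x hx 1 (one_mem _)).symm
    have u7 : ∀ x ∈ closure (Set.range u), d * (x * d * x⁻¹) ∈ L → x * d * x⁻¹ ∈ Dl d T :=
      fun x hx c => inn _ (isConj_iff.2 ⟨x, rfl⟩) (by
        simpa [← mul_assoc, h.sq] using mul_mem (subset_closure hd) (LG c))
    have u8 : ∀ x ∈ closure (Set.range u), ∀ y ∈ closure (Set.range u),
        d * (x * d * x⁻¹) * (d * (y * d * y⁻¹)) = d * (x * y * d * (x * y)⁻¹) := fun x hx y hy => by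
      rw [(u6 x hx).eq, mul_assoc, ← mul_assoc d, h.sq, one_mul, u5 x hx y hy]
    have key : ∀ x ∈ closure (Set.range u), ∀ y ∈ closure (Set.range u), d * (x * d * x⁻¹) ∈ L →
        d * (y * d * y⁻¹) ∈ L → ¬ Commute d x → ¬ Commute d y → ¬ Commute d (x * y) → False :=
      fun x hx y hy c1 c2 n1 n2 n3 => by
        have c3 := u7 _ (mul_mem hx hy) (u8 x hx y hy ▸ mul_mem c1 c2)
        have n4 : x * y * d * (x * y)⁻¹ ≠ d := fun c => n3 (commute_of_conj_eq c).symm
        refine (uf _ _ _ _ (CL.cons_iff.2 ⟨u7 x hx c1, CL.cons_iff.2 ⟨⟨u7 y hy c2, fun c => ?_, ?_⟩,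
          CL.nil _⟩⟩) (CL.cons_iff.2 ⟨hd, CL.cons_iff.2 ⟨⟨c3, n4, u6 _ (mul_mem hx hy)⟩,
          CL.nil _⟩⟩) (u5 x hx y hy)).elim (fun c => n1 (commute_of_conj_eq c.symm).symm)
          fun c => n2 (commute_of_conj_eq c.symm).symm
        · have := u5 x hx y hy
          rw [c, conj_mul, h.sq, mul_one, mul_inv_cancel, eq_comm, mul_eq_one_iff_inv_eq, di] at this
          exact n4 this.symm
        · rw [Commute, SemiconjBy, u5 x hx y hy, u5 y hy x hx, (u3 x hx y hy).1.eq]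
    have m : ∀ i, u i ∈ closure (Set.range u) := fun i => subset_closure ⟨i, rfl⟩
    have tw : ∀ i j, d * (u i * d * (u i)⁻¹) ∉ L → d * (u j * d * (u j)⁻¹) ∉ L →
        d * (u i * u j * d * (u i * u j)⁻¹) ∈ L := fun i j c c' => u8 _ (m i) _ (m j) ▸ two _ _
      ((Commute.refl d).mul_left (u6 _ (m i)).symm) ((Commute.refl d).mul_left (u6 _ (m j)).symm) c c'
    have n1 : ∀ i, ¬ Commute d (u i) := fun i c => v4 i ((e1 _).2 c)
    have n2 : ∀ i j, i ≠ j → ¬ Commute d (u i * u j) := fun i j c c' =>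
      v5 i j c ((e1 _).2 (by simpa [u, mul_assoc] using c'))
    have n3 : ¬ Commute d (u 0 * (u 1 * u 2)) := fun c' =>
      v6 ((e1 _).2 (by simpa [u, mul_assoc] using c'))
    by_cases c0 : d * (u 0 * d * (u 0)⁻¹) ∈ L <;> by_cases c1 : d * (u 1 * d * (u 1)⁻¹) ∈ L <;>
      by_cases c2 : d * (u 2 * d * (u 2)⁻¹) ∈ L
    · exact key _ (m 0) _ (m 1) c0 c1 (n1 0) (n1 1) (n2 0 1 (by decide))
    · exact key _ (m 0) _ (m 1) c0 c1 (n1 0) (n1 1) (n2 0 1 (by decide))
    · exact key _ (m 0) _ (m 2) c0 c2 (n1 0) (n1 2) (n2 0 2 (by decide))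
    · exact key _ (m 0) _ (mul_mem (m 1) (m 2)) c0 (tw 1 2 c1 c2) (n1 0) (n2 1 2 (by decide)) n3
    · exact key _ (m 1) _ (m 2) c1 c2 (n1 1) (n1 2) (n2 1 2 (by decide))
    · exact key _ (m 1) _ (mul_mem (m 0) (m 2)) c1 (tw 0 2 c0 c2) (n1 1) (n2 0 2 (by decide))
        (by rwa [← mul_assoc, (u2 1 0).1.eq, mul_assoc])
    · exact key _ (mul_mem (m 0) (m 1)) _ (m 2) (tw 0 1 c0 c1) c2 (n2 0 1 (by decide)) (n1 2)
        (by rwa [mul_assoc])
    · exact key _ (mul_mem (m 1) (m 0)) _ (mul_mem (m 0) (m 2)) (tw 1 0 c1 c0) (tw 0 2 c0 c2)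
        (n2 1 0 (by decide)) (n2 0 2 (by decide)) (by
          rw [mul_assoc, ← mul_assoc (u 0), u4 _ (m 0), one_mul]; exact n2 1 2 (by decide)))
  obtain ⟨x, hx, hdx⟩ := hm.1.exists_not_commute hd
  have fin := EndM.eq_top (d := d) (Δ := Dl d T) (M₀ := M) ⟨Set.Subset.antisymm (fun y hy => by
      induction hy with
      | refl => exact self_mem_ccpt mem_conjugatesOf_self
      | tail _ c ih => exact mem_ccpt_of_commute ih (h.of_Tx c).1 (h.of_Tx c).2.2.1)
    fun y hy => hy.2 (· ∈ Dl d T) (fun e _ f hf c he => out f hf (by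
      obtain ⟨g, hg, rfl⟩ := hm.1.conn d hd e he
      simpa [mul_assoc] using mul_mem (mul_mem (GM hg) (KM (mem_centralizer_singleton_iff.2
        (show Commute (g⁻¹ * f * g) d by
          rw [← commute_conj_iff' g]; simpa [mul_assoc] using c.symm)))) (inv_mem (GM hg)))) hd,
    hm.1, KM, GM, nrm, fun y hy h2 => ?_, uf, ?_⟩ (fun e he e' he' c c' => ?_) fun l h1 h2 => ?_
  · exact ⟨fin.1 ▸ hm, eq_bot_iff.2 fun k hk => h0 k fun x hx =>
      (mem_centralizer_iff.1 hk x (subset_closure (fin.1 ▸ hx))).symm⟩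
  · obtain ⟨e, he, c⟩ := hm.exists_fixed (φ := fun x => y * x * y⁻¹) ⟨⟨nrm y hy,
      fun _ _ _ _ c => (conj_inj y).1 c, fun x hx => ⟨_, nrm _ (inv_mem hy) x hx, by group⟩⟩,
      fun _ _ _ _ => by group⟩ fun x _ => by
        rw [show y * (y * x * y⁻¹) * y⁻¹ = y * y * x * (y * y)⁻¹ by group, h2]; simp
    exact ⟨e, he, commute_of_conj_eq c⟩
  · obtain ⟨l, h1, h2, h3⟩ := hex
    exact ⟨d :: l, CL.cons_iff.2 ⟨hd, hl.symm ▸ h1⟩, ⟨3, by simp [h2]⟩, by simp [h2],
      by rw [List.prod_cons, h3, h.sq]⟩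
  · have ne : e' ≠ e := by
      rintro rfl
      exact (sq _ c').2 (hT.sq he)
    obtain ⟨g, -, rfl, rfl⟩ := hm.1.exists_conj_pair hd (hl.symm ▸ ha) he ⟨he', ne, c⟩
    exact q8 _ c' g _ (conj_mul ..).symm q2
  · obtain ⟨r, h3, h4⟩ := IsI.exists_CL (n := 3) (m := 3) (hm.2.2 d hd x hx hdx)
    obtain ⟨g, hg, rfl⟩ := hm.primTo.exists_conj (h3.mono (mu_subset _ d x)) h1 h4.le
      (h4.trans h2.symm)
    refine ⟨_, hT.conj_mem hg hd, _, hT.conj_mem hg hx, fun z hz => ?_,
      fun c => hdx ((commute_conj_iff' g d x).1 c)⟩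
    obtain ⟨y, hy, rfl⟩ := List.mem_map.1 hz
    exact ⟨(commute_conj_iff' g d y).2 (h3.mem y hy).1.2.2,
      (commute_conj_iff' g x y).2 (h3.mem y hy).2.2.2⟩

theorem iso_of {D : Set G} (h : M22g D) (hD : ∀ g, ∀ x ∈ D, g * x * g⁻¹ ∈ D)
    (hC : centralizer (closure D : Set G) = ⊥) :
    (closure D = ⊤ ∧ Spor.IsoFi22 G) ∨ ((closure D).index = 2 ∧
      Nonempty (G ≃* MulAut Spor.Fi22)) := by
  have := closure_normal_of_conj hD
  have g1 := h.1.toIsTT.group
  have h1 := h.of_feq (FEq.symm ⟨_, fiso_subtype (closure D) subset_closure⟩ (isTT_of_group g1))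
    (isTT_of_group g1)
  have h2 : center (closure D) = ⊥ := eq_bot_iff.2 fun k hk => Subtype.ext (mem_bot.1 (hC.le
    (mem_centralizer_iff.2 fun x hx => congrArg Subtype.val (mem_center_iff.1 hk ⟨x, hx⟩))))
  obtain ⟨e, -⟩ := h1.exists_equiv g1.2.2 h2
  refine (em (closure D = ⊤)).imp (fun c => ⟨c, ⟨topEquiv.symm.trans
    ((MulEquiv.subgroupCongr c.symm).trans e)⟩⟩) fun c => ?_
  have inj : Function.Injective (MulAut.conjNormal (G := G) (H := closure D)) :=
    (injective_iff_map_eq_one _).2 fun g k => mem_bot.1 (hC.le (mem_centralizer_iff.2 fun x hx =>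
      (commute_of_conj_eq (congrArg Subtype.val (DFunLike.congr_fun k ⟨x, hx⟩))).symm))
  have : Finite (MulAut (closure D)) := Finite.of_injective _ DFunLike.coe_injective
  have h3 := Nat.card_le_card_of_injective _ inj
  have h4 := (closure D).index_mul_card
  have h5 := mt index_eq_one.1 c
  have h6 := (closure D).index_ne_zero_of_finite
  rw [h1.card_aut g1.2.2 h2] at h3
  rw [h1.card g1.2.2 h2] at h4
  exact ⟨by omega, ⟨(MulEquiv.ofBijective _ ((Nat.bijective_iff_injective_and_card _).2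
    ⟨inj, by rw [h1.card_aut g1.2.2 h2]; omega⟩)).trans (MulAut.congr e)⟩⟩

theorem aut_main {a b t : G} (d2 : d * d = 1) (d1 : d ≠ 1) (hL : L ≤ centralizer {d})
    (hn : (L.subgroupOf (centralizer {d})).Normal) (hi : L.relIndex (centralizer {d}) ≤ 2)
    (hq : IsQuasisimple L)
    (hC : ∀ k, Commute k d → (∀ x ∈ L, k * x * k⁻¹ * x⁻¹ ∈ zpowers d) → k ∈ zpowers d)
    (π : L →* PSU 6 Class.GF4 2) (hπ : Function.Surjective π)
    (hk : ∀ x : L, π x = 1 ↔ x.1 ∈ zpowers d) (dL : d ∈ L) (aL : a ∈ L) (bL : b ∈ L) (ad : a ≠ d)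
    (e1 : t * d * t⁻¹ = a) (e2 : t * a * t⁻¹ = b) (e3 : t * b * t⁻¹ = d) {P : Subgroup G}
    (hP : Nat.card P = 81) (Pc : ∀ p ∈ P, Commute p d ∧ Commute p a)
    (q2 : ∃ x y, Commute x d ∧ Commute y d ∧ x * x = d * a ∧ y * y = d * a ∧
      x * y * (x * y) = d * a)
    (q3 : ∃ x y, x * x = d * a * b ∧ y * y = d * a * b ∧ x * y * (x * y) = d * a * b) :
    M22g (conjugatesOf d) ∧ centralizer (closure (conjugatesOf d) : Set G) = ⊥ := by
  obtain ⟨T, hU, hT, dT, ns, hex, mem⟩ := exists_T d2 d1 hL dL hq π hπ hk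
  have two : ∀ x y, Commute x d → Commute y d → x ∉ L → y ∉ L → x * y ∈ L := fun x y hx hy c c' => by
    have h1 : L.relIndex (centralizer {d}) ≠ 1 := fun e =>
      c (relIndex_eq_one.1 e (mem_centralizer_singleton_iff.2 hx))
    have h2 : L.relIndex (centralizer {d}) ≠ 0 := index_ne_zero_of_finite
    exact (mul_mem_iff_of_index_two (H := L.subgroupOf _) (show L.relIndex _ = 2 by omega)
      (a := ⟨x, mem_centralizer_singleton_iff.2 hx⟩)
      (b := ⟨y, mem_centralizer_singleton_iff.2 hy⟩)).2 (iff_of_false c c')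
  have key : ∀ g, g * d * g⁻¹ ∈ L → g * a * g⁻¹ ∈ L → (g * d * g⁻¹ = d ∨ g * a * g⁻¹ = d) →
      ∀ y, (g * d * g⁻¹ = y ∨ g * a * g⁻¹ = y) → y ≠ d → y ∈ T := fun g m1 m2 c y c' yd => by
    obtain ⟨x, x', x1, x2, x3⟩ := q2
    have k : ∀ p, Commute p d → Commute p a → Commute (g * p * g⁻¹) d ∧ Commute (g * p * g⁻¹) y :=
      fun p p1 p2 => ⟨by rcases c with c | c <;> rwa [← c, commute_conj_iff'],
        by rcases c' with c | c <;> rwa [← c, commute_conj_iff']⟩
    have k2 : ∀ x, Commute x d → x * x = d * a → Commute (g * x * g⁻¹) d := fun x p e =>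
      (k x p (by
        rw [← _root_.inv_mul_cancel_left d a, ← e]
        exact p.inv_right.mul_right ((Commute.refl x).mul_right (Commute.refl x)))).1
    have da : Commute a d := mem_centralizer_singleton_iff.1 (hL aL)
    have k3 : g * (d * a) * g⁻¹ = d * y := by
      rcases c with c | c <;> rcases c' with c' | c'
      · exact absurd (c'.symm.trans c) yd
      · rw [← conj_mul, c, c']
      · rw [← da.eq, ← conj_mul, c, c']
      · exact absurd (c'.symm.trans c) yd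
    obtain ⟨u, hu, e⟩ := sq_mem two (k2 x x1 x3.1) (k2 x' x2 x3.2.1) (w := d * y)
      (by simp only [conj_mul, x3, k3, and_self])
    have y2 : y * y = 1 ∧ y ≠ 1 := by
      rcases c' with rfl | rfl
      · exact ⟨by rw [conj_mul, d2]; simp, by simpa using d1⟩
      · exact ⟨by rw [conj_mul, ← e1, conj_mul, d2]; simp, by simpa [← e1] using d1⟩
    refine mem y (by rcases c' with rfl | rfl <;> assumption) y2.1 y2.2 yd
      (P.map (MulAut.conj g).toMonoidHom) ?_
      (by rw [card_map_of_injective (MulAut.conj g).injective, hP]) ?_ u hu e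
    · rintro _ ⟨p, hp, rfl⟩
      by_contra n
      have h1 : p ^ 81 = 1 := congrArg Subtype.val (hP ▸ pow_card_eq_one' (x := (⟨p, hp⟩ : P)))
      have h2 := pow_mem (two _ _ (k p (Pc p hp).1 (Pc p hp).2).1 (k p (Pc p hp).1 (Pc p hp).2).1
        n n) 41
      rw [conj_mul, conj_pow, ← pow_two, ← pow_mul, show 2 * 41 = 81 + 1 from rfl, pow_succ, h1,
        one_mul] at h2
      exact n h2
    · rintro _ ⟨p, hp, rfl⟩
      exact (k p (Pc p hp).1 (Pc p hp).2).2
  have ha : a ∈ T := key 1 (by simpa) (by simpa) (by simp) a (by simp) ad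
  have bd : b ≠ d := fun c => ad (by rw [← e1, ← c, e3, c])
  have f1 : t⁻¹ * d * t⁻¹⁻¹ = b := by rw [← e3]; group
  have f2 : t⁻¹ * a * t⁻¹⁻¹ = d := by rw [← e1]; group
  have hb : b ∈ T := key t⁻¹ (f1 ▸ bL) (f2.symm ▸ dL) (Or.inr f2) b (Or.inl f1) bd
  have nL : ∀ k, Commute k d → ∀ x ∈ L, k * x * k⁻¹ ∈ L := fun k hk x hx =>
    hn.conj_mem ⟨x, hL hx⟩ hx ⟨k, mem_centralizer_singleton_iff.2 hk⟩
  refine aut_end ⟨d2, d1, hU, fun x hx => ⟨fun c => dT (c ▸ hx),
    (mem_centralizer_singleton_iff.1 (hL (hT ▸ subset_closure hx))).symm⟩, fun k hk x hx => ?_,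
    a, ha, b, hb, t, e1, e2, e3⟩ hT two (fun k h1 h2 => hC k h1 fun x hx => by
      simp [conj_eq_of_commute (h2 x hx)]) ns hex ha ⟨hb, ?_, ?_⟩
    (let ⟨x, y, _, _, e⟩ := q2; ⟨x, y, e⟩) q3
  · obtain ⟨c, hc, rfl⟩ := (hU.prim (by norm_num)).conn a ha x hx
    rw [show k * (c * a * c⁻¹) * k⁻¹ = k * c * k⁻¹ * (k * a * k⁻¹) * (k * c * k⁻¹)⁻¹ by group]
    exact hU.tt.conj_mem (hT ▸ nL k hk c (hT ▸ hc)) (key k (nL k hk d dL) (nL k hk a aL)
      (Or.inl (conj_eq_of_commute hk)) _ (Or.inr rfl) fun c =>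
        ad ((conj_inj k).1 (c.trans (conj_eq_of_commute hk).symm)))
  · rw [← e2, ← e1, Ne, conj_inj, e1]; exact ad
  · rw [← e2, ← e1, commute_conj_iff', e1]
    exact (mem_centralizer_singleton_iff.1 (hL aL)).symm

end Cfsg.Agent.F22L
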