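import Mathlib
import Cfsg.Agent.F22L.HS

/-! Two conjugates of `z` lying in each other's extraspecial group. -/

set_option autoImplicit false

namespace Cfsg.Agent.F22L

open Subgroup Wr

theorem card_f3 : ¬ 9 ∣ Nat.card (Multiplicative F3) := by simp

theorem f3_sq : ∀ c : F3, c ≠ 0 → c * c = 1 := by decide

theorem f3_neg : ∀ c : F3, c = -c → c = 0 := by decide

theorem w2_neg : ∀ c : W2, c = -c → c = 0 := by decide

theorem fix_of_base {e d : Wr} {u : V} (es : e.s = 1) (hu : u ∈ L0 d) (hs : ∀ i, u i ≠ 0)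
    (h : e • u = u) {v : V} (hv : v ∈ L0 d) : e • v = v := funext fun i => by
  obtain ⟨a, ea⟩ := hu i
  obtain ⟨b, eb⟩ := hv i
  have h1 := congrFun h i
  have h2 : a ≠ 0 := fun c => hs i (by rw [ea, c, zero_smul])
  have h3 : v i = (b * a) • u i := by
    rw [eb, ea, smul_smul, mul_assoc, f3_sq a h2, mul_one]
  rw [base_smul es] at h1 ⊢
  rw [h3]
  exact (map_f3 (DistribSMul.toAddMonoidHom W2 (e.m i)) _ _).trans (congrArg _ h1)

theorem L0_mem {d : Wr} {u : V} (hu : u ∈ L0 d) (hs : ∀ i, u i ≠ 0) {v : V} :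
    v ∈ L0 d ↔ ∀ i, ∃ c : F3, v i = c • u i := forall_congr' fun i => by
  obtain ⟨a, ea⟩ := hu i
  have h2 : a ≠ 0 := fun c => hs i (by rw [ea, c, zero_smul])
  constructor <;> rintro ⟨b, eb⟩
  · exact ⟨b * a, by rw [eb, ea, smul_smul, mul_assoc, f3_sq a h2, mul_one]⟩
  · exact ⟨b * a, by rw [eb, ea, smul_smul]⟩

theorem L0_eq {d e : Wr} {u : V} (hd : u ∈ L0 d) (he : u ∈ L0 e) (hs : ∀ i, u i ≠ 0) :
    L0 d = L0 e := AddSubgroup.ext fun _ => (L0_mem hd hs).trans (L0_mem he hs).symm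

theorem r_L0 {d : Wr} (i : Fin 3) {v : V} (hv : v ∈ L0 d) : r i • v ∈ L0 d := fun j => by
  rw [r_smul]
  split_ifs
  exacts [neg_mem hv j, hv j]

theorem eq_pow_of_r {c : Hs} {i : Fin 3} (h : (⟨r i • c.v, c.c⟩ : Hs) = c⁻¹) {k : F3} {w : W2}
    (hk : c.v i = k • w) : c = (⟨Pi.single i w, 0⟩ : Hs) ^ k.val := by
  rw [Hs.pow_val]
  refine Hs.ext (funext fun j => ?_) ((f3_neg _ (congrArg Hs.c h)).trans (mul_zero k).symm)
  change c.v j = k • (Pi.single i w : V) j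
  by_cases e : j = i
  · rw [e, hk, Pi.single_eq_same]
  · have : (r i • c.v) j = -c.v j := congrFun (congrArg Hs.v h) j
    rw [r_smul, if_neg e] at this
    rw [w2_neg _ this, Pi.single_eq_of_ne e, smul_zero]

variable {G : Type*} [Group G]

theorem mem_of_three {K : Subgroup G} {a : G} (a3 : a ^ 3 = 1) {c : F3} (hc : c ≠ 0)
    (h : a ^ c.val ∈ K) : a ∈ K := by
  have e : ∀ c : F3, c ≠ 0 → c.val = 1 ∨ c.val = 2 := by decide
  rcases e c hc with e | e <;> rw [e] at h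
  · simpa using h
  · have := mul_mem h h
    rwa [← pow_add, show 2 + 2 = 3 + 1 from rfl, pow_add, a3, one_mul, pow_one] at this

theorem eq_one_of_zp {K : Subgroup G} {a b : G} (a3 : a ^ 3 = 1) (ha : a ∉ K) (hb : b ∈ zpowers a)
    (h : b ∈ K) : b = 1 := by
  obtain ⟨k, rfl⟩ := mem_zpowers_iff.1 hb
  have e : a ^ k = a ^ (k : F3).val := by
    rw [← zpow_natCast, ZMod.val_intCast, ← zpow_eq_zpow_emod' k a3]
  by_cases c : (k : F3) = 0
  · rw [e, c]; simp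
  · exact absurd (mem_of_three a3 c (e ▸ h)) ha

/-- The centralizer of an element in the extraspecial group. -/
def Us (ψ : Hs →* G) (y : G) : Subgroup G := ψ.range ⊓ centralizer {y}

theorem Us_comm {ψ : Hs →* G} {y : G} : ∀ a ∈ Us ψ y, Commute a y := fun _ ha =>
  mem_centralizer_singleton_iff.1 ha.2

theorem Us_pg {ψ : Hs →* G} {y : G} : IsPGroup 3 (Us ψ y) := HS.pg_range.to_le inf_le_left

/-- The abelian subgroup of order `81`. -/
def A0 (ψ : Hs →* G) (d : Wr) : Subgroup G := (pre (L0 d)).map ψ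

theorem A0_le {ψ : Hs →* G} {d : Wr} : A0 ψ d ≤ ψ.range := map_le_range _ _

theorem mem_A0 {ψ : Hs →* G} {d : Wr} {x : Hs} (hx : x.v ∈ L0 d) : ψ x ∈ A0 ψ d := ⟨x, hx, rfl⟩

theorem A0_comm {ψ : Hs →* G} {d : Wr} {a b : G} (ha : a ∈ A0 ψ d) (hb : b ∈ A0 ψ d) :
    Commute a b := by
  obtain ⟨a, ha, rfl⟩ := ha
  obtain ⟨b, hb, rfl⟩ := hb
  exact (Hs.commute_iff.2 (om_L0 ha hb)).map ψ

variable {z y : G} {ψ ψ' : Hs →* G} {ρ ρ' : G → Wr} {l l' : G → V →+ F3} {X : Subgroup Wr}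
  {x x' : Hs}

namespace HS

variable (h : HS z ψ ρ l X)
include h

theorem card_A0 (d : Wr) : Nat.card (A0 ψ d) = 81 := by
  rw [A0, h.card_map, card_pre, card_L0]

theorem card_Us (x : Hs) : 729 ≤ Nat.card (Us ψ (ψ x)) := by
  let f : Hs →* Multiplicative F3 := MonoidHom.mk' (fun a => Multiplicative.ofAdd (om a.v x.v))
    fun a b => by rw [Hs.mul_v, om_add_left, ofAdd_add]
  have h1 := three_le Hs.isPGroup f card_f3
  rw [Hs.card, ← h.card_map] at h1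
  have h2 : f.ker.map ψ = Us ψ (ψ x) := by
    ext a
    constructor
    · rintro ⟨a, ha, rfl⟩
      exact ⟨⟨a, rfl⟩, mem_centralizer_singleton_iff.2 ((Hs.commute_iff.2 ha).map ψ)⟩
    · rintro ⟨⟨a, rfl⟩, ha⟩
      refine ⟨a, Hs.commute_iff.1 (h.inj ?_), rfl⟩
      rw [map_mul, map_mul]; exact mem_centralizer_singleton_iff.1 ha
  rw [h2] at h1
  omega

theorem comm_eq (a b : Hs) : ψ a * ψ b * (ψ a)⁻¹ * (ψ b)⁻¹ = z ^ (-om a.v b.v).val := by
  rw [← map_inv, ← map_inv, ← map_mul, ← map_mul, ← map_mul, Hs.comm, h.cen]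

theorem fix_A0 {d : Wr} {a : G} (ha : Commute a z) (c : ∀ b ∈ A0 ψ d, Commute a b) {v : V}
    (hv : v ∈ L0 d) : ρ a • v = v ∧ l a v = 0 :=
  (h.commute_iff ha (x := ⟨v, 0⟩)).1 (c _ (mem_A0 hv))

theorem cj_A0 {d : Wr} {a b : G} (ha : Commute a z) (c : ∀ v ∈ L0 d, ρ a • v ∈ L0 d)
    (hb : b ∈ A0 ψ d) : a * b * a⁻¹ ∈ A0 ψ d := by
  obtain ⟨b, hb, rfl⟩ := hb
  rw [h.act a ha]
  exact mem_A0 (c _ hb)

theorem ρ_cube {a : G} (ha : Commute a z) (a3 : a ^ 3 = 1) : ρ a ^ 3 = 1 := by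
  rw [← h.ρ_pow ha, a3, h.ρ_one]

omit h in
theorem cube {a : G} (ha : a ∈ ψ.range) : a ^ 3 = 1 := by
  obtain ⟨a, rfl⟩ := ha
  rw [← map_pow, Hs.cube, map_one]

end HS

/-- Two conjugates in each other's extraspecial group. -/
structure PR (z y : G) (ψ ψ' : Hs →* G) (ρ ρ' : G → Wr) (l l' : G → V →+ F3) (X : Subgroup Wr)
    (x x' : Hs) : Prop where
  h : HS z ψ ρ l X
  h' : HS y ψ' ρ' l' X
  xd : XD X
  e : ψ x = y
  e' : ψ' x' = z
  n : x.v ≠ 0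
  n' : x'.v ≠ 0

variable [Finite G]

theorem HS.exists_PR (h : HS z ψ ρ l X) (h' : HS y ψ' ρ' l' X) (xd : XD X) (e : ψ x = y)
    (n : x.v ≠ 0) : ∃ x', PR z y ψ ψ' ρ ρ' l l' X x x' := by
  have h1 := h.card_Us x
  rw [e] at h1
  obtain ⟨a, ha, b, hb, c⟩ : ∃ a ∈ Us ψ y, ∃ b ∈ Us ψ y, ¬ Commute a b := by
    by_contra! c
    have := h.card_comm _ inf_le_left c
    change Nat.card (Us ψ y) ≤ 81 at this
    omega
  have h2 := h'.comm_mem xd Us_pg Us_comm ha hb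
  obtain ⟨⟨a, rfl⟩, -⟩ := ha
  obtain ⟨⟨b, rfl⟩, -⟩ := hb
  rw [h.comm_eq] at h2
  obtain ⟨x', e'⟩ := mem_of_three h.z3
    (fun c' => c ((Hs.commute_iff.2 (neg_eq_zero.1 c')).map ψ)) h2
  exact ⟨x', h, h', xd, e, e', n, fun c => h.z1 (eq_one_of_zp h'.z3
    (fun c => n (h.mem_zp.1 (e ▸ c))) (e' ▸ h'.mem_zp.2 c) (mem_zpowers z))⟩

/-- The data attached to one side. -/
structure PD (z : G) (ψ ψ' : Hs →* G) (ρ : G → Wr) (X : Subgroup Wr) (u : V) (t d : Wr) : Prop where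
  xf : XF X t d
  mem : u ∈ L0 d
  supp : ∀ i, u i ≠ 0
  not_le : ¬ A0 ψ d ≤ ψ'.range

namespace PR

variable (p : PR z y ψ ψ' ρ ρ' l l' X x x')
include p

omit [Finite G] in
theorem symm : PR y z ψ' ψ ρ' ρ l' l X x' x := ⟨p.h', p.h, p.xd, p.e', p.e, p.n', p.n⟩

omit [Finite G] in
theorem y_not : y ∉ zpowers z := fun c => p.n (p.h.mem_zp.1 (p.e ▸ c))

omit [Finite G] in
theorem A_comm {a b : G} (ha : a ∈ ψ.range ⊓ ψ'.range) (hb : b ∈ ψ.range ⊓ ψ'.range) :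
    Commute a b := by
  refine commutatorElement_eq_one_iff_commute.1 (eq_one_of_zp p.h'.z3 p.y_not ?_ ?_)
  · obtain ⟨-, a, rfl⟩ := ha
    obtain ⟨-, b, rfl⟩ := hb
    rw [commutatorElement_def, p.h'.comm_eq]
    exact pow_mem (mem_zpowers y) _
  · obtain ⟨⟨a, rfl⟩, -⟩ := ha
    obtain ⟨⟨b, rfl⟩, -⟩ := hb
    rw [commutatorElement_def, p.h.comm_eq]
    exact pow_mem (mem_zpowers z) _

omit [Finite G] in
theorem card_U : 729 ≤ Nat.card (Us ψ' z) := p.e' ▸ p.h'.card_Us x'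

theorem card_A : Nat.card ↥(ψ.range ⊓ ψ'.range) = 81 := by
  have h1 := p.h.card_comm (ψ.range ⊓ ψ'.range) inf_le_left fun a ha b hb => p.A_comm ha hb
  have h2 := p.h.card_le p.xd (A := Us ψ' z) Us_pg Us_comm
  have h3 := card_le_of_le (show Us ψ' z ⊓ ψ.range ≤ ψ.range ⊓ ψ'.range from
    fun a ha => ⟨ha.2, ha.1.1⟩)
  have := p.card_U
  omega

theorem exists_not {K : Subgroup (Us ψ' z)} (hK : 81 < Nat.card K) :
    ∃ w ∈ K, (w : G) ∉ ψ.range := by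
  by_contra! c
  have := card_le_of_le (show K.map (Us ψ' z).subtype ≤ ψ.range ⊓ ψ'.range by
    rintro _ ⟨w, hw, rfl⟩; exact ⟨c w hw, w.2.1⟩)
  rw [card_subtype, p.card_A] at this
  omega

theorem exists_sub {w : G} (hw : w ∈ Us ψ' z) (n : w ∉ ψ.range) :
    ∃ a : Hs, ψ a ∈ ψ'.range ∧ a.v - ρ w • a.v = x.v := by
  obtain ⟨q, hq, c⟩ : ∃ q ∈ ψ.range ⊓ ψ'.range, ¬ Commute w q := by
    by_contra! c
    have h1 : ψ.range ⊓ ψ'.range ⊔ zpowers w ≤ centralizer (ψ.range ⊓ ψ'.range ⊔ zpowers w : Subgroup G) := by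
      refine sup_le (le_centralizer_iff.1 (sup_le (fun a ha b hb => (p.A_comm hb ha).eq)
        (zpowers_le.2 fun b hb => (c b hb).symm.eq))) (zpowers_le.2 ?_)
      refine (le_centralizer_iff.1 (sup_le (fun a ha => ?_) (zpowers_le.2 ?_)) :
        zpowers w ≤ _) (mem_zpowers w)
      · rintro _ ⟨k, rfl⟩
        exact ((c a ha).zpow_left k).eq
      · rintro _ ⟨k, rfl⟩
        exact ((Commute.refl w).zpow_left k).eq
    have h2 := p.h'.card_comm _ (sup_le inf_le_right (zpowers_le.2 hw.1))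
      fun a ha b hb => h1 hb a ha
    have h3 := eq_of_le_of_card_ge (le_sup_left (b := zpowers w)) (h2.trans p.card_A.ge)
    exact n (h3.ge (le_sup_right (a := ψ.range ⊓ ψ'.range) (mem_zpowers w))).1
  obtain ⟨⟨a, rfl⟩, a', ea⟩ := hq
  obtain ⟨⟨b', rfl⟩, hb⟩ := hw
  have h1 := p.h'.comm_eq b' a'
  have h2 : -om b'.v a'.v ≠ 0 := fun c' =>
    c (ea ▸ (Hs.commute_iff.2 (neg_eq_zero.1 c')).map ψ')
  generalize -om b'.v a'.v = k at h1 h2
  rw [ea, p.h.act _ (mem_centralizer_singleton_iff.1 hb), ← p.e, ← map_pow, ← map_inv, ← map_mul,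
    Hs.pow_val] at h1
  have h3 := congrArg Hs.v (p.h.inj h1)
  refine ⟨a ^ (-k).val, by rw [map_pow, ← ea]; exact pow_mem (MonoidHom.mem_range.2 ⟨a', rfl⟩) _, ?_⟩
  simp only [Hs.mul_v, Hs.inv_v] at h3
  rw [Hs.pow_val, smul_f3, ← smul_sub, neg_smul, ← smul_neg, neg_sub, sub_eq_add_neg, h3, smul_smul,
    f3_sq k h2, one_smul]

omit [Finite G] in
theorem fix_u {w : G} (hw : w ∈ ψ'.range) (c : Commute w z) : ρ w • x.v = x.v := by
  obtain ⟨w, rfl⟩ := hw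
  exact ((p.h.commute_iff c).1 (p.e ▸ p.h'.cψ w)).1

omit [Finite G] in
/-- The elements of `U'` inducing base elements. -/
def U0 : Subgroup (Us ψ' z) := (sh.comp (p.h.ρs (Us ψ' z) Us_comm)).ker

theorem card_U0 : 243 ≤ Nat.card p.U0 := by
  have h1 := three_le Us_pg (sh.comp (p.h.ρs (Us ψ' z) Us_comm)) card_perm3
  have := p.card_U
  change _ ≤ 3 * Nat.card p.U0 at h1
  omega

theorem exists_PD : ∃ t d, PD z ψ ψ' ρ X x.v t d := by
  have h3 : ∀ w ∈ Us ψ' z, ρ w ^ 3 = 1 := fun w hw => p.h.ρ_cube (Us_comm w hw) (HS.cube hw.1)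
  obtain ⟨t, ht, ts⟩ : ∃ t ∈ Us ψ' z, (ρ t).s ≠ 1 := by
    by_contra! c
    refine p.n (funext fun i => ?_)
    have h1 := three_le Us_pg (ev (p.h.ρs (Us ψ' z) Us_comm) (fun a => c a a.2) i) card_sl3
    have := p.card_U
    obtain ⟨w, hw, n⟩ := p.exists_not (K := (ev (p.h.ρs (Us ψ' z) Us_comm) (fun a => c a a.2) i).ker)
      (by omega)
    obtain ⟨a, -, e⟩ := p.exists_sub w.2 n
    rw [← e, Pi.sub_apply, base_smul (c w w.2), show (ρ w).m i = 1 from hw, one_smul, sub_self]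
    rfl
  replace ts := (s_cube (k := 1) (h3 t ht)).resolve_left ts
  have := p.card_U0
  obtain ⟨w, hw, n⟩ := p.exists_not (K := p.U0) (by omega)
  obtain ⟨a, ha, e⟩ := p.exists_sub w.2 n
  have hu : x.v ∈ L0 (ρ w) := e ▸ sub_L0 hw (h3 w w.2) _
  refine ⟨ρ t, ρ w, ⟨p.xd, p.h.ρ_mem (Us_comm t ht), ts, p.h.ρ_mem (Us_comm _ w.2), hw, h3 w w.2,
    fun c => n (p.h.ker _ (Us_comm _ w.2) c)⟩, hu, fun i c =>
      p.n (der_ext ts (p.fix_u ht.1 (Us_comm t ht)) (smul_zero _) c), fun c => p.n ?_⟩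
  have h1 : A0 ψ (ρ w) = ψ.range ⊓ ψ'.range :=
    eq_of_le_of_card_ge (le_inf A0_le c) (by rw [p.card_A, p.h.card_A0])
  obtain ⟨b, hb, eb⟩ := h1.ge ⟨⟨a, rfl⟩, ha⟩
  obtain rfl := p.h.inj eb
  rw [← e, smul_L0 (g := ρ w) hw (h3 w w.2) hb, sub_self]

variable {t d t' d' : Wr} (q : PD z ψ ψ' ρ X x.v t d) (q' : PD y ψ' ψ ρ' X x'.v t' d')
include q q'

theorem comm_aux {a : G} (ha : a ∈ A0 ψ d) (n : a ∉ ψ'.range) {b : G} (hb : b ∈ A0 ψ' d') :
    Commute a b := by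
  have ay : Commute a y := A0_comm ha (p.e ▸ mem_A0 q.mem)
  have a3 := p.h'.ρ_cube ay (HS.cube (A0_le ha))
  obtain ⟨a, ha, rfl⟩ := ha
  have fx : ∀ w : p.U0, ρ w • a.v = a.v := fun w =>
    fix_of_base w.2 q.mem q.supp (p.fix_u w.1.2.1 (Us_comm _ w.1.2)) ha
  let f : p.U0 →* Multiplicative F3 := MonoidHom.mk' (fun w => Multiplicative.ofAdd (l w a.v))
    fun v w => by
      rw [coe_mul, coe_mul, p.h.l_mul (Us_comm _ v.1.2) (Us_comm _ w.1.2), fx, add_comm, ofAdd_add]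
  have h1 := three_le (Us_pg.to_subgroup p.U0) f card_f3
  have := p.card_U0
  let C := (f.ker.map p.U0.subtype).map (Us ψ' z).subtype
  have h2 : 81 ≤ Nat.card C := by rw [card_subtype, card_subtype]; omega
  have h3 : ∀ w ∈ C, Commute (ψ a) w := by
    rintro _ ⟨_, ⟨w, hw, rfl⟩, rfl⟩
    exact ((p.h.commute_iff (Us_comm _ w.1.2)).2 ⟨fx w, hw⟩).symm
  have h4 : C ≤ (pre (Fx (ρ' (ψ a)))).map ψ' := fun w hw => by
    have h5 := h3 w hw
    obtain ⟨w, -, rfl⟩ := hw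
    obtain ⟨w', e⟩ := w.2.1
    refine ⟨w', ((p.h'.commute_iff ay).1 ?_).1, e⟩
    rw [e]; exact h5
  rcases s_cube (k := 1) a3 with h5 | h5
  · have h6 := p.xd.full q'.xf.tX q'.xf.ts (p.h'.ρ_mem ay) h5 a3 fun c => n (p.h'.ker _ ay c)
    have h7 := L0_eq q'.mem (fix_L0 h5 a3 h6 (p.symm.fix_u ⟨a, rfl⟩ ay)) q'.supp
    have h8 : C = A0 ψ' d' := eq_of_le_of_card_ge
      (h4.trans (map_mono fun v hv => h7 ▸ fix_L0 h5 a3 h6 hv)) (by rw [p.h'.card_A0]; exact h2)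
    exact h3 b (h8.ge hb)
  · have h6 := card_le_of_le h4
    have := card_Fx h5
    rw [p.h'.card_map, card_pre] at h6
    omega

theorem comm {a : G} (ha : a ∈ A0 ψ d) {b : G} (hb : b ∈ A0 ψ' d') : Commute a b := by
  by_cases n : a ∈ ψ'.range
  · obtain ⟨c, hc, n'⟩ := SetLike.not_le_iff_exists.1 q.not_le
    have h1 := p.comm_aux q q' (mul_mem ha hc) (fun e => n' ((mul_mem_cancel_left n).1 e)) hb
    simpa using h1.mul_left (p.comm_aux q q' hc n' hb).inv_left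
  · exact p.comm_aux q q' ha n hb

omit [Finite G] q in
theorem exists_δ : ∃ i, ψ' ⟨Pi.single i (x'.v i), 0⟩ ∉ ψ.range := by
  by_contra! c
  refine q'.not_le ?_
  rintro _ ⟨b, hb, rfl⟩
  choose k hk using (L0_mem q'.mem q'.supp).1 hb
  let s : Fin 3 → Hs := fun i => ⟨Pi.single i (x'.v i), 0⟩ ^ (k i).val
  have h1 : ∀ i, (s i).v = Pi.single i (b.v i) := fun i => by
    simp only [s, Hs.pow_val, hk, Pi.single_smul]
  have h2 : ∀ i, ψ' (s i) ∈ ψ.range := fun i => by rw [map_pow]; exact pow_mem (c i) _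
  have h3 := zpowers_le.2 (show y ∈ ψ.range from ⟨x, p.e⟩)
    ((p.h'.mem_zp (x := (s 0 * s 1 * s 2)⁻¹ * b)).2 (by
      simp only [Hs.mul_v, Hs.inv_v, h1, ← eq_sum, neg_add_cancel]))
  rw [map_mul, map_inv, map_mul, map_mul] at h3
  exact (mul_mem_cancel_left (inv_mem (mul_mem (mul_mem (h2 0) (h2 1)) (h2 2)))).1 h3

theorem comm_δ {i : Fin 3} {m a : G} (hm : m ∈ p.h'.H0) (em : ρ' m = r i) (m2 : m * m ∈ zpowers y)
    (ha : a ∈ A0 ψ d) : m * a * m⁻¹ * a⁻¹ ∈ zpowers (ψ' ⟨Pi.single i (x'.v i), 0⟩) := by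
  have ay : Commute a y := A0_comm ha (p.e ▸ mem_A0 q.mem)
  have ca : ∀ b ∈ A0 ψ' d', Commute a b := fun b hb => p.comm q q' ha hb
  have h1 := (base_of_fix fun v hv => (p.h'.fix_A0 ay ca hv).1).1
  have cy : Commute (m * a * m⁻¹) y := (hm.1.mul_left ay).mul_left hm.1.inv_left
  obtain ⟨c, hc⟩ := p.h'.ker _ (cy.mul_left ay.inv_left) (by
    rw [p.h'.ρ_mul cy ay.inv_left, p.h'.ρ_mul (hm.1.mul_left ay) hm.1.inv_left, p.h'.ρ_mul hm.1 ay,
      p.h'.ρ_inv hm.1, p.h'.ρ_inv ay, em, ← (r_comm (x := ρ' a) (by rw [h1]; rfl)).eq]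
    group)
  have h0 : ∀ b ∈ A0 ψ' d', Commute (ψ' c) b := fun b hb => by
    have h3 := ca _ (p.h'.cj_A0 hm.1.inv_left (fun v hv => by
      rw [p.h'.ρ_inv hm.1, em, inv_eq_of_mul_eq_one_right (r_sq i)]; exact r_L0 i hv) hb)
    have h4 : Commute (m * a * m⁻¹) b := by
      simpa [mul_assoc] using h3.map (MulAut.conj m)
    exact hc ▸ h4.mul_left (ca _ hb).inv_left
  have h2 : c.v ∈ L0 d' := L0_perp fun w hw => by
    have := (p.h'.fix_A0 (p.h'.cψ c) h0 hw).2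
    rwa [p.h'.l_ψ, ← om_swap] at this
  have h3 : m * ψ' c * m⁻¹ = ψ' c⁻¹ := by
    rw [map_inv, hc, show m * (m * a * m⁻¹ * a⁻¹) * m⁻¹ =
      m * m * a * (m * m)⁻¹ * (m * a⁻¹ * m⁻¹) by group, ← (HS.zp_comm ay m2).eq]
    group
  rw [p.h'.act0 hm, em] at h3
  obtain ⟨k, hk⟩ := (L0_mem q'.mem q'.supp).1 h2 i
  rw [← hc, eq_pow_of_r (p.h'.inj h3) hk, map_pow]
  exact pow_mem (mem_zpowers _) _

/-- Step 6. -/
theorem exists_m : ∃ δ m : G, δ ∈ A0 ψ' d' ∧ δ ∉ ψ.range ∧ m * z * m⁻¹ = δ * z ∧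
    Commute (m * m) z ∧ ∀ a ∈ A0 ψ d, m * a * m⁻¹ * a⁻¹ ∈ zpowers δ := by
  obtain ⟨i, hi⟩ := p.exists_δ q'
  obtain ⟨m, hm, em⟩ := p.h'.exists_lift (p.xd.r i)
  have m2 := p.h'.zp_of (mul_mem hm hm) (by rw [p.h'.ρ_mul hm.1 hm.1, em, r_sq])
  refine ⟨_, m, mem_A0 (single_mem q'.mem i), hi, ?_,
    (HS.zp_comm (p.e' ▸ p.h'.cψ x') m2).symm, fun a ha => p.comm_δ q q' hm em m2 ha⟩
  · rw [← p.e', p.h'.act0 hm, ← map_mul, em]
    congr 1
    ext1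
    · funext j
      change (r i • x'.v) j = (Pi.single i (x'.v i) : V) j + x'.v j
      rw [r_smul]
      split_ifs with c
      · subst c
        rw [Pi.single_eq_same]
        generalize x'.v j = w
        revert w; decide
      · rw [Pi.single_eq_of_ne c, zero_add]
    · simp [om_single_left]

end PR

end Cfsg.Agent.F22L
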