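import Mathlib
import Cfsg.Agent.F22L.HS
import Cfsg.Agent.F22L.FusA

/-! Fusion of `z` when it is not weakly closed in `Q`. -/

set_option autoImplicit false

namespace Cfsg.Agent.F22L

open Subgroup Wr

variable {G : Type*} [Group G] [Finite G] {z : G} {ψ : Hs →* G} {ρ : G → Wr} {l : G → V →+ F3}
  {X : Subgroup Wr}

/-- Proof. State the lemmas for two structures `h : HS z ψ ρ l X`, `h' : HS y ψ' ρ' l' X`
(`h' = h.cj g`) with `y = ψ x`, `u := x.v ≠ 0`. `Q = ψ.range`, `U := Q ⊓ C(y)` (`= pre (u^⊥)`, order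
`3⁶`: `three_le`-type count or index 3), `A := Q ⊓ Q'`.
1. `z ∈ Q'`: `u^⊥` is not isotropic (`iso_le`), so `z^{±1}` is a commutator in `U`; `h'.comm_mem`.
So the situation is symmetric: `z = ψ' x'`, `u' := x'.v ≠ 0`, `U' := Q' ⊓ C(z)`.
2. `A` is abelian (`[A,A] ≤ ⟨z⟩ ∩ ⟨y⟩ = 1`), so `|A| ≤ 81` (`card_comm`); `h'.card_le` for `U` gives
`|A| = 81`; `U' ⊓ Q = A`, so `ρ(U')` has order `9` (`ker_ρs`).
3. For `w ∈ U' ∖ Q` there is `q ∈ A` with `[w,q] = y^{±1}` (otherwise `w` centralizes `A`, and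
`A ⊔ ⟨w⟩ ≤ Q'` is abelian of order `> 81`). Hence `u = ±(ρ w • v - v)` for some `v`. Also
`ρ w • u = u`, `(ρ w)³ = 1`.
4. If all `ρ w` (`w ∈ U'`) were base, then for each `i` some `w ∈ U' ∖ Q` has `(ρ w).m i = 1`
(`three_le`, `ev`, `card_sl3`), so `u i = 0` by 3., `u = 0`. So some `t = ρ w` is a derangement
(`s_cube`), and some `d = ρ w ≠ 1` is base (`three_le`, `card_perm3`): `XF X t d`. `u ∈ L0 d`
(`sub_L0`), `t • u = u`, `u ≠ 0` gives full support (`der_ext`, `single`-argument). -/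
theorem HS.supp (h : HS z ψ ρ l X) (xd : XD X) {g : G} {x : Hs} (e : ψ x = g * z * g⁻¹)
    (hx : x.v ≠ 0) (i : Fin 3) : x.v i ≠ 0 := by
  obtain ⟨x', p⟩ := h.exists_PR (h.cj g) xd e hx
  obtain ⟨t, d, q⟩ := p.exists_PD
  exact q.supp i

omit [Finite G] in
/-- Step 7, second half. -/
theorem HS.fus_aux (h : HS z ψ ρ l X) {e : Wr} {δ m s : G} (hd : δ * z ∈ h.H0) (δ3 : δ ^ 3 = 1)
    (n : δ ∉ ψ.range) (es : (ρ (δ * z)).s = 1) (e1 : m * z * m⁻¹ = δ * z) (e2 : Commute (m * m) z)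
    (e3 : ∀ a ∈ A0 ψ e, m * a * m⁻¹ * a⁻¹ ∈ zpowers δ) {j : Fin 3} (hs : s ∈ h.H0) (sj : ρ s = r j)
    (s2 : s * s = 1) : ∃ g, Commute g s ∧ g * z * g⁻¹ = δ * z := by
  have si : s⁻¹ = s := inv_eq_of_mul_eq_one_right s2
  have cz : Commute δ z := by simpa using hd.1.mul_left (Commute.refl z).inv_left
  have c1 : Commute s (δ * z) := by
    have h1 := h.zp_of (mul_mem (mul_mem (mul_mem hs hd) (inv_mem hs)) (inv_mem hd)) (by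
      rw [h.ρ_mul ((hs.1.mul_left hd.1).mul_left hs.1.inv_left) hd.1.inv_left,
        h.ρ_mul (hs.1.mul_left hd.1) hs.1.inv_left, h.ρ_mul hs.1 hd.1, h.ρ_inv hs.1, h.ρ_inv hd.1,
        sj, ← (r_comm (x := ρ (δ * z)) (by rw [es]; rfl)).eq]
      group)
    have h2 := (HS.zp_comm hs.1 h1).eq
    have h3 := HS.cube (zpowers_le.2 h.zmem h1)
    generalize δ * z = d at h1 h2 h3 ⊢
    have h4 : s * d * s⁻¹ * d⁻¹ * (s * d * s⁻¹ * d⁻¹) = 1 := by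
      calc _ = s * d * s⁻¹ * d⁻¹ * s * (d * s⁻¹ * d⁻¹) := by group
        _ = s * s * (d * (s * s)⁻¹ * d⁻¹) * (d * s * d⁻¹ * (d * s⁻¹ * d⁻¹)) := by rw [← h2]; group
        _ = 1 := by rw [s2]; group
    rw [pow_three', h4, one_mul] at h3
    exact commutatorElement_eq_one_iff_commute.1 h3
  have c2 : Commute s δ := by simpa using c1.mul_right hs.1.inv_right
  have e4 : m⁻¹ * (δ * z) * m = z := by rw [← e1]; group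
  have e5 : m⁻¹ * z * m = δ * z := by
    rw [← e1, show m * z * m⁻¹ = m⁻¹ * (m * m * z) * m⁻¹ by group, e2.eq]; group
  have e6 : m⁻¹ * δ * m⁻¹⁻¹ = δ⁻¹ := by
    rw [show m⁻¹ * δ * m⁻¹⁻¹ = m⁻¹ * (δ * z) * m * (m⁻¹ * z * m)⁻¹ by group, e4, e5]; group
  have nrm : ∀ g : G, g * δ * g⁻¹ ∈ zpowers δ → ∀ b ∈ zpowers δ, g * b * g⁻¹ ∈ zpowers δ := by
    rintro g hg _ ⟨k, rfl⟩
    rw [← conj_zpow]; exact zpow_mem hg k
  have τz : Commute (m⁻¹ * s * m * s) z := by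
    rw [Commute, SemiconjBy, ← mul_inv_eq_iff_eq_mul, show m⁻¹ * s * m * s * z * (m⁻¹ * s * m * s)⁻¹ =
      m⁻¹ * (s * (m * (s * z * s⁻¹) * m⁻¹) * s⁻¹) * m by group, hs.1.eq, mul_inv_cancel_right, e1,
      c1.eq, mul_inv_cancel_right, e4]
  have τa : ∀ a ∈ A0 ψ e, Commute (m⁻¹ * s * m * s) a := fun a ha => by
    refine commutatorElement_eq_one_iff_commute.1 (eq_one_of_zp δ3 n ?_
      (mul_mem (h.conj_mem τz (A0_le ha)) (inv_mem (A0_le ha))))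
    have h1 := nrm s (by rw [c2.eq, mul_inv_cancel_right]; exact mem_zpowers δ) _
      (e3 _ (h.cj_A0 hs.1 (fun v hv => sj ▸ r_L0 j hv) ha))
    have h2 := nrm m⁻¹ (e6 ▸ inv_mem (mem_zpowers δ)) _ (mul_mem h1 (inv_mem (e3 a ha)))
    rw [show s * (m * (s * a * s⁻¹) * m⁻¹ * (s * a * s⁻¹)⁻¹) * s⁻¹ =
      s * m * (s * a * s⁻¹) * m⁻¹ * s⁻¹ * (s * s * a⁻¹ * (s * s)⁻¹) by group, s2] at h2
    convert h2 using 1
    rw [commutatorElement_def]; group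
  have τ9 := h.pow_nine τz (base_of_fix (g := e) fun v hv => (h.fix_A0 τz τa hv).1).2
  have e7 : s * (m⁻¹ * s * m * s) * s⁻¹ = (m⁻¹ * s * m * s)⁻¹ := by
    rw [mul_inv_rev, mul_inv_rev, mul_inv_rev, si, mul_assoc, mul_assoc _ s s, s2]; group
  refine ⟨m * (m⁻¹ * s * m * s) ^ 5, ?_, ?_⟩
  · have e8 : (m⁻¹ * s * m * s) ^ 5 * s * ((m⁻¹ * s * m * s) ^ 5)⁻¹ = m⁻¹ * s * m := by
      rw [← inv_pow, ← e7, conj_pow, ← mul_assoc, ← mul_assoc, mul_assoc _ s s, s2, mul_one, ← pow_add,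
        show 5 + 5 = 9 + 1 from rfl, pow_add, τ9]
      group
    rw [Commute, SemiconjBy, ← mul_inv_eq_iff_eq_mul, mul_inv_rev, mul_assoc m, ← mul_assoc,
      mul_assoc m, e8]
    group
  · rw [mul_inv_rev, mul_assoc m, (τz.pow_left 5).eq, ← e1]; group

/-- Proof (continuing `HS.supp`). `U'₀ := {w ∈ U' | (ρ w).s = 1}` has order `≥ 3⁵`; every
`ρ w`, `w ∈ U'₀` is `1`, `d` or `d⁻¹` (commutes with `d`; `XD.full` applied to `ρ w * d^{±1}`, or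
counting), so fixes `L0 d`. `A0 := (pre (L0 d)).map ψ ≤ U` (order 81, abelian), similarly `t' d' A0'`.
5. `A0 ⊄ Q'`: otherwise `A0 = A`, but for `w ∈ U'₀ ∖ Q`, `[w, A0] ≤ ⟨z⟩`, against 3. For
`a ∈ A0 ∖ Q'`: `[U'₀, a] ≤ ⟨z⟩`, so `|C_{U'₀}(a)| ≥ 81` (`three_le` for the hom `w ↦ l w a.v`);
`ρ' a` is not a derangement (`card_Fx`, `card_pre`: `|C_{Q'}(a)| ≤ 27`), so base with full support,
`Fx (ρ' a) = L0 (ρ' a) = L0 d'` (it is `d'^{±1}`), `C_{Q'}(a) ≤ A0'`, so `= A0'` by orders. As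
`A0 ∖ Q'` generates `A0`: `[A0, A0'] = 1`. By symmetry `A0' ⊄ Q`.
6. `A0'` is generated by `y` and `δᵢ := ψ'⟨single i (u' i), 0⟩` (full support of `u' ∈ L0 d'`), so
some `δ = δᵢ ∉ Q`. `m ∈ h'.H0` with `ρ' m = r i` (`exists_lift`): `d₁ := m z m⁻¹ = δ z ∉ Q`
(`act0`, `r_smul`), `m² ∈ ⟨y⟩` (`zp_of`). For `a ∈ A0`: `c = m a m⁻¹ a⁻¹ ∈ Q'` (`ρ' a` is base since
it fixes `L0 d'`: `base_of_fix`, `r_comm`), `c` centralizes `A0'` so `c ∈ A0'` (`L0_perp`),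
`m c m⁻¹ = c⁻¹`, hence `c ∈ ⟨δ⟩`.
7. `d₁` centralizes `z` and `A0`, so `e := ρ d₁ ≠ 1` is base of order 3 (`base_of_fix`), full support
(`XD.full` with `t`), `L0 d = L0 e = Fx e`; `l d₁ = om p ·` with `p ∈ L0 e` (`exists_dual`,
`L0_perp`); conjugating by `q = ψ⟨v,0⟩` with `v - e•v = ±p` (`exists_sub_L0`, `conj_eq`, `l_mul`,
`l_ψ`) gives `d₂ = q d₁ q⁻¹ ∈ H0`. Put `m₂ = q m q⁻¹`: `m₂ z m₂⁻¹ = d₂`, `m₂ d₂ m₂⁻¹ = z`
(`m₂²` centralizes `z`), `[m₂, a] ∈ ⟨δ₂⟩` for `a ∈ A0`, `δ₂ = d₂ z⁻¹ ∉ Q` of order 3.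
For `s ∈ H0`, `ρ s = r j`, `s² = 1`: `s d₂ s⁻¹ d₂⁻¹ ∈ ⟨z⟩` (`zp_of`), and `s² = 1` forces
`Commute s d₂`. `τ := m₂⁻¹ (s m₂ s⁻¹)` centralizes `z`; for `a ∈ A0`, `τ a τ⁻¹ a⁻¹` lies in
`m₂⁻¹ ⟨δ₂⟩ m₂ = ⟨δ₂⟩` (`s` normalizes `A0` and centralizes `δ₂`) and in `Q`, so it is `1`. So
`τ⁹ = 1` (`base_of_fix`, `pow_nine`). `τ = s' s⁻¹` with `s' = m₂⁻¹ s m₂`; two involutions with product
of odd order: `c = τ⁵` has `c s c⁻¹ = s'` (`s τ s = τ⁻¹`). `g := m₂ c` centralizes `s` and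
`g z g⁻¹ = d₂`. Finally `XF X t (ρ d₂)`. -/
theorem HS.fus (h : HS z ψ ρ l X) (xd : XD X) {g : G} (m : g * z * g⁻¹ ∈ ψ.range)
    (n : g * z * g⁻¹ ∉ zpowers z) : ∃ t, ∃ d ∈ h.H0, XF X t (ρ d) ∧ d ^ 3 = 1 ∧
      ∀ j, ∀ s ∈ h.H0, ρ s = r j → s * s = 1 → ∃ g, Commute g s ∧ g * z * g⁻¹ = d := by
  obtain ⟨x, e⟩ := m
  obtain ⟨x', p⟩ := h.exists_PR (h.cj g) xd e fun c => n (e ▸ h.mem_zp.2 c)
  obtain ⟨t, d, q⟩ := p.exists_PD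
  obtain ⟨t', d', q'⟩ := p.symm.exists_PD
  obtain ⟨δ, m, h1, h2, h3, h4, h5⟩ := p.exists_m q q'
  have δ3 := HS.cube (A0_le h1)
  have cz : Commute δ z := A0_comm h1 (p.e' ▸ mem_A0 q'.mem)
  have dz : Commute (δ * z) z := cz.mul_left (Commute.refl z)
  have ca : ∀ a ∈ A0 ψ d, Commute (δ * z) a := fun a ha => (p.comm q q' ha h1).symm.mul_left (by
    obtain ⟨a, -, rfl⟩ := ha; exact (h.cψ a).symm)
  have fx := fun v (hv : v ∈ L0 d) => h.fix_A0 dz ca hv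
  obtain ⟨es, e3⟩ := base_of_fix fun v hv => (fx v hv).1
  have e1 : ρ (δ * z) ≠ 1 := fun c => h2 ((mul_mem_cancel_right h.zmem).1 (h.ker _ dz c))
  have xf : XF X t (ρ (δ * z)) := ⟨xd, q.xf.tX, q.xf.ts, h.ρ_mem dz, es, e3, e1⟩
  have eL := L0_eq q.mem (fix_L0 es e3 xf.dm (fx _ q.mem).1) q.supp
  obtain ⟨w, hw⟩ := exists_dual (l (δ * z))
  have hw' : w ∈ L0 (ρ (δ * z)) := eL ▸ L0_perp fun v hv => by
    rw [om_swap, ← hw, (fx v hv).2, neg_zero]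
  obtain ⟨v, hv, -⟩ := exists_sub_L0 es e3 hw' fun i c => absurd c (xf.dm i)
  have cq := h.cψ ⟨v, 0⟩
  have e4 := h.conj_eq dz ⟨v, 0⟩
  have e5 : ψ ⟨v, 0⟩ * (δ * z) * (ψ ⟨v, 0⟩)⁻¹ = ψ ⟨v, 0⟩ * δ * (ψ ⟨v, 0⟩)⁻¹ * z := by
    rw [mul_assoc _ _ z, cq.inv_left.eq]; group
  have hd : ψ ⟨v, 0⟩ * δ * (ψ ⟨v, 0⟩)⁻¹ * z ∈ h.H0 := by
    rw [← e5, e4]
    refine ⟨(h.cψ _).mul_left dz, AddMonoidHom.ext fun u => ?_⟩
    rw [h.l_mul (h.cψ _) dz, h.l_ψ, hw]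
    change _ + -om (v - ρ (δ * z) • v) _ = 0
    rw [hv]
    nth_rw 2 [← smul_L0 es e3 hw']
    rw [om_smul, add_neg_cancel]
  have eρ : ρ (ψ ⟨v, 0⟩ * δ * (ψ ⟨v, 0⟩)⁻¹ * z) = ρ (δ * z) := by
    rw [← e5, e4, h.ρ_mul (h.cψ _) dz, h.ρ_ψ, one_mul]
  have qm : ψ ⟨v, 0⟩ ∈ ψ.range := ⟨_, rfl⟩
  have qρ := h.ρ_ψ ⟨v, 0⟩
  clear e4
  generalize ψ ⟨v, 0⟩ = k at cq e5 hd eρ qm qρ
  refine ⟨t, _, hd, eρ ▸ xf, by rw [← e5, ← h3, conj_pow, conj_pow, h.z3]; simp,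
    fun j s hs sj s2 => h.fus_aux (e := d) (m := k * m * k⁻¹) hd (by rw [conj_pow, δ3]; simp)
      (fun c => h2 (by simpa [mul_assoc] using mul_mem (mul_mem (inv_mem qm) c) qm))
      (eρ ▸ es) ?_ ?_ (fun a ha => ?_) hs sj s2⟩
  · rw [← e5, ← h3, mul_assoc (k * m), cq.inv_left.eq]; group
  · rw [conj_mul]
    exact (cq.mul_left h4).mul_left cq.inv_left
  · obtain ⟨n, hn⟩ := h5 _ (h.cj_A0 cq.inv_left (fun v hv => by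
      rwa [h.ρ_inv cq, qρ, inv_one, one_smul]) ha)
    exact ⟨n, by simp only at hn ⊢; rw [conj_zpow, hn]; group⟩

end Cfsg.Agent.F22L
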